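import Cfsg.Agent.Lib.ChevBN.Roots
import Cfsg.Agent.Lib.ChevSt.ConjMat

/-!
# Root elements, torus and triangularity in a Chevalley group

* `gx` calculus: `xg` (= x_r(t) in GL), `mem_rootSubgroup`, `ng` (= n_r(t)), `hg`;
* `hMat_eq_diag`, `hg_conj`, `Torus` : elements of `H` are diagonal and scale the root elements;
* `Tri`, `UTri`: triangularity for a linear height; `eq_one_of_tri`.
-/

set_option autoImplicit false

namespace Cfsg.Agent.ChevBN

open Cfsg.Lie Cfsg.Lie.ChevalleyDatum Cfsg.Agent.Chev Cfsg.Agent.ChevSt Matrix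

variable {D : ChevalleyDatum} (hD : Good D) (F : Type*) [Field F]

/-- x_r(t) as an element of GL. -/
def xg (r : ℕ) (t : F) : GL D.Idx F :=
  ⟨D.x F r t, D.x F r (-t), hD.x_mul_neg r t, by simpa using hD.x_mul_neg r (-t)⟩

variable {F}
include hD

@[simp] theorem coe_xg (r : ℕ) (t : F) : (xg hD F r t : Matrix D.Idx D.Idx F) = D.x F r t := rfl

theorem xg_inv (r : ℕ) (t : F) : (xg hD F r t)⁻¹ = xg hD F r (-t) := Units.ext rfl

theorem xg_add {r : ℕ} (hr : r < D.nroots) (t u : F) : xg hD F r t * xg hD F r u = xg hD F r (t + u) :=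
  Units.ext (hD.x_add hr t u)

theorem xg_zero (r : ℕ) : xg hD F r 0 = 1 := Units.ext (hD.x_zero r)

theorem xg_out {r : ℕ} (hr : ¬ r < D.nroots) (t : F) : xg hD F r t = 1 :=
  Units.ext (x_of_le D (Nat.not_lt.1 hr) t)

theorem xg_mem_group (r : ℕ) (t : F) : xg hD F r t ∈ D.group F := by
  by_cases hr : r < D.nroots
  · exact Subgroup.subset_closure ⟨⟨r, hr⟩, t, by simp [ChevalleyDatum.x, hr]⟩
  · rw [xg_out hD hr]; exact one_mem _

theorem mem_rootSubgroup (r : ℕ) {g : GL D.Idx F} :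
    g ∈ D.rootSubgroup F r ↔ ∃ t : F, g = xg hD F r t := by
  refine ⟨fun hg => ?_, fun ⟨t, e⟩ => e ▸ Subgroup.subset_closure ⟨t, rfl⟩⟩
  induction hg using Subgroup.closure_induction with
  | mem x hx => obtain ⟨t, ht⟩ := hx; exact ⟨t, Units.ext ht⟩
  | one => exact ⟨0, (xg_zero hD r).symm⟩
  | mul x y _ _ hx hy =>
    obtain ⟨t, rfl⟩ := hx
    obtain ⟨u, rfl⟩ := hy
    by_cases hr : r < D.nroots
    · exact ⟨t + u, xg_add hD hr t u⟩
    · exact ⟨0, by simp [xg_out hD hr]⟩
  | inv x _ hx => obtain ⟨t, rfl⟩ := hx; exact ⟨-t, xg_inv hD r t⟩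

theorem xg_mem_rootSubgroup (r : ℕ) (t : F) : xg hD F r t ∈ D.rootSubgroup F r :=
  (mem_rootSubgroup hD r).2 ⟨t, rfl⟩

variable (F) in
/-- n_r(t) as an element of GL. -/
def ng (r : ℕ) (t : F) : GL D.Idx F := xg hD F r t * xg hD F (D.neg r) (-t⁻¹) * xg hD F r t

variable (F) in
/-- h_r(t) as an element of GL. -/
def hg (r : ℕ) (t : F) : GL D.Idx F := ng hD F r t * ng hD F r (-1)

@[simp] theorem coe_ng (r : ℕ) (t : F) : (ng hD F r t : Matrix D.Idx D.Idx F) = D.nMat F r t := by
  simp [ng, ChevalleyDatum.nMat, ChevalleyDatum.nWord, ChevalleyDatum.wordMat, mul_assoc]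

@[simp] theorem coe_hg (r : ℕ) (t : F) : (hg hD F r t : Matrix D.Idx D.Idx F) = D.hMat F r t := by
  simp [hg, ChevalleyDatum.nMat, ChevalleyDatum.hMat, ChevalleyDatum.hWord, ChevalleyDatum.wordMat]

theorem ng_inv (r : ℕ) (t : F) : (ng hD F r t)⁻¹ = ng hD F r (-t) := by
  simp [ng, _root_.mul_inv_rev, xg_inv, mul_assoc, inv_neg]

theorem ng_mul_mem (r : ℕ) (hr : r < D.nroots) {a b : F} (ha : a ≠ 0) (hb : b ≠ 0) :
    ng hD F r a * ng hD F r b ∈ D.diagonalSubgroup F := by
  have hh : ∀ c : F, c ≠ 0 → hg hD F r c ∈ D.diagonalSubgroup F := fun c hc =>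
    Subgroup.subset_closure ⟨r, c, hr, hc, coe_hg hD r c⟩
  have e : ng hD F r a * ng hD F r b = hg hD F r a * (hg hD F r (-b))⁻¹ := by
    rw [hg, hg, _root_.mul_inv_rev, ng_inv hD r (-b), _root_.neg_neg]; group
  rw [e]
  exact mul_mem (hh a ha) (inv_mem (hh (-b) (neg_ne_zero.2 hb)))

/-! ### The diagonal elements -/

theorem n_hv {r : ℕ} (hr : r < D.nroots) {t : F} (ht : t ≠ 0) :
    D.nMat F r t *ᵥ hv D F r = -hv D F r := by
  have h2 : ∑ i : Fin D.rank, (((D.coroot.getD r #[]).getD i.val 0 : ℤ) : F) * (D.cartan i.val r : F) = 2 := by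
    have h := congrArg (fun z : ℤ => (z : F)) (hD.pairing_self r hr)
    simp only [Chev.pairing_eq_sum, Int.cast_sum, Int.cast_mul, Int.cast_ofNat] at h
    exact h
  conv_lhs => rw [hv_eq]
  rw [Matrix.mulVec_sum, Finset.sum_congr rfl fun i _ => show
      D.nMat F r t *ᵥ ((((D.coroot.getD r #[]).getD i.val 0 : ℤ) : F) • Pi.single (Sum.inl i) 1) =
        (((D.coroot.getD r #[]).getD i.val 0 : ℤ) : F) • Pi.single (Sum.inl i) 1 -
          ((((D.coroot.getD r #[]).getD i.val 0 : ℤ) : F) * (D.cartan i.val r : F)) • hv D F r by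
      rw [Matrix.mulVec_smul, hD.n_inl hr ht, smul_sub, smul_smul],
    Finset.sum_sub_distrib, ← hv_eq, ← Finset.sum_smul, h2]
  module

theorem hMat_ev {r s : ℕ} (hr : r < D.nroots) (hs : s < D.nroots) {t : F} (ht : t ≠ 0) :
    D.hMat F r t *ᵥ ev D F s = t ^ (D.pairing r s) • ev D F s := by
  have e : D.hMat F r t = D.nMat F r t * D.nMat F r (-1) := by
    rw [← coe_hg hD, hg, Units.val_mul, coe_ng, coe_ng]
  rw [e, ← Matrix.mulVec_mulVec, hD.n_root hr hs (neg_ne_zero.2 one_ne_zero), Matrix.mulVec_smul,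
    hD.n_root hr (refl_lt hD hr hs) ht, smul_smul, refl_refl hD hr hs]
  congr 1
  have key : nSign D r s * nSign D r (Chev.refl D r s) = (-1) ^ (D.pairing r s).natAbs ∧
      D.pairing r (Chev.refl D r s) = -D.pairing r s := by
    by_cases h₁ : s = r
    · subst h₁
      simp [Chev.refl, nSign, hD.pairing_self s hr, hD.pairing_neg_right s hr]
    by_cases h₂ : s = D.neg r
    · subst h₂
      simp [Chev.refl, nSign, hD.neg_ne r hr, hD.pairing_self r hr, hD.pairing_neg_right r hr]
    · obtain ⟨-, -, -, -, -, h, -, h', -⟩ := hD.nword r hr s hs h₁ h₂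
      exact ⟨h', h⟩
  obtain ⟨h1, h2⟩ := key
  rw [h2, _root_.neg_neg]
  have h3 := congrArg (fun z : ℤ => (z : F)) h1
  push_cast at h3
  have h4 : ((-1 : F)) ^ (-D.pairing r s) = (-1) ^ (D.pairing r s).natAbs := by
    rw [_root_.zpow_neg, ← _root_.inv_zpow, inv_neg_one]
    rcases Int.natAbs_eq (D.pairing r s) with h | h
    · nth_rewrite 1 [h]; rw [zpow_natCast]
    · nth_rewrite 1 [h]; rw [_root_.zpow_neg, zpow_natCast, ← inv_pow, inv_neg_one]
  rw [h4]
  calc (nSign D r s : F) * (-1) ^ (D.pairing r s).natAbs *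
        ((nSign D r (Chev.refl D r s) : F) * t ^ D.pairing r s)
      = ((nSign D r s : F) * (nSign D r (Chev.refl D r s) : F)) * (-1) ^ (D.pairing r s).natAbs *
        t ^ D.pairing r s := by ring
    _ = _ := by rw [h3, ← mul_pow, neg_mul_neg, one_mul, one_pow, one_mul]

theorem hMat_inl {r : ℕ} (hr : r < D.nroots) {t : F} (ht : t ≠ 0) (i : Fin D.rank) :
    D.hMat F r t *ᵥ Pi.single (Sum.inl i) 1 = Pi.single (Sum.inl i) 1 := by
  have e : D.hMat F r t = D.nMat F r t * D.nMat F r (-1) := by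
    rw [← coe_hg hD, hg, Units.val_mul, coe_ng, coe_ng]
  rw [e, ← Matrix.mulVec_mulVec, hD.n_inl hr (neg_ne_zero.2 one_ne_zero), Matrix.mulVec_sub,
    Matrix.mulVec_smul, n_hv hD hr ht, hD.n_inl hr ht, smul_neg, sub_neg_eq_add, sub_add_cancel]

/-- The diagonal matrix of a family of scalars on the roots. -/
def dg (χ : ℕ → Fˣ) : Matrix D.Idx D.Idx F :=
  Matrix.diagonal (Sum.elim (fun _ => (1 : F)) fun s : Fin D.nroots => (χ s : F))

theorem hMat_eq_diag {r : ℕ} (hr : r < D.nroots) {t : F} (ht : t ≠ 0) :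
    D.hMat F r t = dg (fun s => Units.mk0 t ht ^ D.pairing r s) := by
  ext a b
  have e : D.hMat F r t a b = (D.hMat F r t *ᵥ Pi.single b 1) a := by
    rw [Matrix.mulVec_single_one]; rfl
  rw [e]
  rcases b with i | s
  · rw [hMat_inl hD hr ht, dg, Matrix.diagonal_apply]
    simp only [Pi.single_apply]
    split <;> rename_i h
    · subst h; rfl
    · rfl
  · have := hMat_ev hD hr s.isLt ht
    rw [ev_of_lt D F s.isLt, Fin.eta] at this
    rw [this, dg, Matrix.diagonal_apply]
    simp only [Pi.smul_apply, Pi.single_apply, smul_eq_mul]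
    split <;> rename_i h
    · subst h; simp
    · simp

theorem hg_conj {r s : ℕ} (hr : r < D.nroots) {t : F} (ht : t ≠ 0) (u : F) :
    hg hD F r t * xg hD F s u = xg hD F s (t ^ (D.pairing r s) * u) * hg hD F r t := by
  by_cases hs : s < D.nroots
  swap
  · simp [xg_out hD hs]
  apply Units.ext
  simp only [Units.val_mul, coe_xg, coe_hg]
  have e : D.hMat F r t = D.nMat F r t * D.nMat F r (-1) := by
    rw [← coe_hg hD, hg, Units.val_mul, coe_ng, coe_ng]
  rw [e, Matrix.mul_assoc, nMat_conj hD hr hs (neg_ne_zero.2 one_ne_zero), ← Matrix.mul_assoc,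
    nMat_conj hD hr (refl_lt hD hr hs) ht, refl_refl hD hr hs, Matrix.mul_assoc]
  congr 2
  have h1 := hMat_ev hD hr hs ht
  rw [e, ← Matrix.mulVec_mulVec, hD.n_root hr hs (neg_ne_zero.2 one_ne_zero), Matrix.mulVec_smul,
    hD.n_root hr (refl_lt hD hr hs) ht, smul_smul, refl_refl hD hr hs] at h1
  have h2 := congrFun h1 (Sum.inr ⟨s, hs⟩)
  simp [ev, _root_.zpow_neg] at h2
  simp only [_root_.zpow_neg]
  linear_combination u * h2

variable (D) in
/-- An element of GL is toral: diagonal and scaling each root element accordingly. -/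
def IsToral (g : GL D.Idx F) : Prop :=
  ∃ χ : ℕ → Fˣ, (g : Matrix D.Idx D.Idx F) = dg χ ∧
    ∀ s u, g * xg hD F s u = xg hD F s ((χ s : F) * u) * g

theorem isToral_of_mem {g : GL D.Idx F} (hg' : g ∈ D.diagonalSubgroup F) : IsToral D hD g := by
  have hgen : ∀ x : GL D.Idx F, (∃ r t, r < D.nroots ∧ t ≠ 0 ∧
      (x : Matrix D.Idx D.Idx F) = D.hMat F r t) → IsToral D hD x := by
    rintro x ⟨r, t, hr, ht, hx⟩
    obtain rfl : x = hg hD F r t := Units.ext (hx.trans (coe_hg hD r t).symm)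
    refine ⟨fun s => Units.mk0 t ht ^ D.pairing r s, by rw [coe_hg]; exact hMat_eq_diag hD hr ht,
      fun s u => ?_⟩
    rw [hg_conj hD hr ht u, Units.val_zpow_eq_zpow_val, Units.val_mk0]
  induction hg' using Subgroup.closure_induction with
  | mem x hx => exact hgen x hx
  | one =>
    refine ⟨fun _ => 1, ?_, fun s u => by simp⟩
    ext a b
    rcases a with i | q <;> rcases b with j | q' <;> simp [dg, Matrix.diagonal_apply, Matrix.one_apply]
  | mul x y _ _ hx hy =>
    obtain ⟨χ, hχ, hxc⟩ := hx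
    obtain ⟨ψ, hψ, hyc⟩ := hy
    refine ⟨fun s => χ s * ψ s, ?_, fun s u => ?_⟩
    · rw [Units.val_mul, hχ, hψ, dg, dg, dg, Matrix.diagonal_mul_diagonal]
      congr 1
      ext a
      rcases a with i | q <;> simp
    · rw [mul_assoc, hyc, ← mul_assoc, hxc, mul_assoc, Units.val_mul]
      congr 2
      ring
  | inv x _ hx =>
    obtain ⟨χ, hχ, hxc⟩ := hx
    refine ⟨fun s => (χ s)⁻¹, ?_, fun s u => ?_⟩
    · apply Units.inv_eq_of_mul_eq_one_right
      rw [hχ, dg, dg, Matrix.diagonal_mul_diagonal, ← Matrix.diagonal_one]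
      congr 1
      ext a
      rcases a with i | q <;> simp
    · have := hxc s (((χ s)⁻¹ : Fˣ) * u)
      rw [← mul_assoc ((χ s : F)), ← Units.val_mul, mul_inv_cancel, Units.val_one, one_mul] at this
      calc x⁻¹ * xg hD F s u = x⁻¹ * (xg hD F s u * x) * x⁻¹ := by group
        _ = _ := by rw [← this]; group

theorem toral_conj_rootSubgroup {h : GL D.Idx F} (hh : h ∈ D.diagonalSubgroup F) {r : ℕ}
    {x : GL D.Idx F} (hx : x ∈ D.rootSubgroup F r) : h * x * h⁻¹ ∈ D.rootSubgroup F r := by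
  obtain ⟨χ, -, hc⟩ := isToral_of_mem hD hh
  obtain ⟨t, rfl⟩ := (mem_rootSubgroup hD r).1 hx
  rw [hc, mul_inv_cancel_right]
  exact xg_mem_rootSubgroup hD r _

theorem diag_commute {g h : GL D.Idx F} (hg' : g ∈ D.diagonalSubgroup F)
    (hh : h ∈ D.diagonalSubgroup F) : g * h = h * g := by
  obtain ⟨χ, hχ, -⟩ := isToral_of_mem hD hg'
  obtain ⟨ψ, hψ, -⟩ := isToral_of_mem hD hh
  apply Units.ext
  rw [Units.val_mul, Units.val_mul, hχ, hψ, dg, dg, Matrix.diagonal_mul_diagonal,
    Matrix.diagonal_mul_diagonal]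
  congr 1
  ext a
  exact mul_comm _ _

/-! ### Triangularity -/

variable (D) in
/-- The weight of a basis vector for a height function. -/
def wt (f : ℕ → ℤ) : D.Idx → ℤ := Sum.elim (fun _ => 0) fun q => f q.val

variable (D) in
/-- Triangular with respect to `f`. -/
def Tri (f : ℕ → ℤ) (M : Matrix D.Idx D.Idx F) : Prop :=
  ∀ a b, M a b ≠ 0 → a = b ∨ wt D f b < wt D f a

variable (D) in
/-- Unitriangular with respect to `f`. -/
def UTri (f : ℕ → ℤ) (M : Matrix D.Idx D.Idx F) : Prop := Tri D f M ∧ ∀ a, M a a = 1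

omit hD in
theorem Tri.mul_diag {f : ℕ → ℤ} {M N : Matrix D.Idx D.Idx F} (hM : Tri D f M) (hN : Tri D f N)
    (a : D.Idx) : (M * N) a a = M a a * N a a := by
  rw [Matrix.mul_apply, Finset.sum_eq_single a]
  · intro c _ hc
    by_contra h
    rcases hM a c (left_ne_zero_of_mul h) with e | e
    · exact hc e.symm
    · rcases hN c a (right_ne_zero_of_mul h) with e' | e'
      · exact hc e'
      · omega
  · simp

omit hD in
theorem Tri.mul {f : ℕ → ℤ} {M N : Matrix D.Idx D.Idx F} (hM : Tri D f M) (hN : Tri D f N) :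
    Tri D f (M * N) := by
  intro a b h
  rw [Matrix.mul_apply] at h
  obtain ⟨c, -, hc⟩ := Finset.exists_ne_zero_of_sum_ne_zero h
  rcases hM a c (left_ne_zero_of_mul hc) with e | e <;>
    rcases hN c b (right_ne_zero_of_mul hc) with e' | e'
  · exact Or.inl (e.trans e')
  · subst e; exact Or.inr e'
  · subst e'; exact Or.inr e
  · exact Or.inr (e'.trans e)

omit hD in
theorem uTri_one (f : ℕ → ℤ) : UTri D f (1 : Matrix D.Idx D.Idx F) :=
  ⟨fun a b h => Or.inl (by by_contra hne; exact h (Matrix.one_apply_ne hne)), Matrix.one_apply_eq⟩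

omit hD in
theorem UTri.mul {f : ℕ → ℤ} {M N : Matrix D.Idx D.Idx F} (hM : UTri D f M) (hN : UTri D f N) :
    UTri D f (M * N) :=
  ⟨hM.1.mul hN.1, fun a => by rw [hM.1.mul_diag hN.1, hM.2, hN.2, one_mul]⟩

omit hD in
theorem tri_dg (f : ℕ → ℤ) (χ : ℕ → Fˣ) : Tri D f (dg χ : Matrix D.Idx D.Idx F) := by
  intro a b h
  left
  by_contra hne
  exact h (Matrix.diagonal_apply_ne _ hne)

omit hD in
theorem sumCol_support (t : F) : ∀ (L : List (ℕ × ℤ)) (j : ℕ) (a : D.Idx),
    sumCol D F t L j a ≠ 0 → ∃ (i : ℕ) (u : ℕ × ℤ) (h : u.1 < D.nroots),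
      L[i]? = some u ∧ a = Sum.inr ⟨u.1, h⟩
  | [], j, a, h => absurd rfl h
  | (q, M) :: L, j, a, h => by
    by_cases h0 : sumCol D F t L (j + 1) a = 0
    · have : ev D F q a ≠ 0 := by
        intro h1
        exact h (by simp [sumCol, h0, h1])
      rcases a with i | ⟨u, hu⟩
      · simp [ev] at this
      · simp [ev] at this
        obtain rfl : u = q := this
        exact ⟨0, (u, M), hu, rfl, rfl⟩
    · obtain ⟨i, u, hu, h1, h2⟩ := sumCol_support t L (j + 1) a h0
      exact ⟨i + 1, u, hu, by simpa using h1, h2⟩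

theorem uTri_x {f : ℕ → ℤ} (hf : IsLin D f) {r : ℕ} (hr : r < D.nroots) (hfr : 0 < f r) (t : F) :
    UTri D f (D.x F r t) := by
  rw [x_eq_xR D hr]
  have hn := hD.neg_lt r hr
  have hne := hD.neg_ne r hr
  have key : ∀ a b, (a ≠ b → xR D F r t a b ≠ 0 → wt D f b < wt D f a) ∧
      (a = b → xR D F r t a b = 1) := by
    intro a b
    have e : xR D F r t a b = (xR D F r t *ᵥ Pi.single b 1) a := by
      rw [Matrix.mulVec_single_one]; rfl
    rcases b with i | ⟨s, hs⟩
    · rw [e, xR_inl]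
      refine ⟨fun hab h => ?_, fun hab => by subst hab; simp [ev]⟩
      rcases a with j | ⟨u, hu⟩
      · simp [Pi.single_apply, ev] at h
        exact absurd (congrArg Sum.inl h) hab
      · simp [ev] at h
        simp [wt, h.1, hfr]
    · rw [e, ← ev_of_lt D F hs]
      by_cases h₁ : s = r
      · subst h₁
        rw [xR_self D s t hr]
        refine ⟨fun hab h => ?_, fun hab => by subst hab; simp [ev]⟩
        rcases a with j | ⟨u, hu⟩
        · simp [ev] at h
        · simp [ev] at h; exact absurd (by simp [h]) hab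
      by_cases h₂ : s = D.neg r
      · subst h₂
        rw [xR_neg D r t hn hne]
        refine ⟨fun hab h => ?_, fun hab => by subst hab; simp [ev, hv, hne]⟩
        rcases a with j | ⟨u, hu⟩
        · simp [wt, hf.neg r hr, hfr]
        · have hur : u = r := by
            by_contra hur
            have hun : u ≠ D.neg r := fun e' => hab (by simp [e'])
            simp [ev, hv, hur, hun] at h
          simp [wt, hf.neg r hr, hur]
          omega
      · rw [xR_gen D r t (hD.keys r hr) hs h₁ h₂]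
        have hsup : ∀ c : D.Idx, sumCol D F t (D.chainEntry r s) 1 c ≠ 0 → f s < wt D f c := by
          intro c hc
          obtain ⟨i, u, hu, hi, rfl⟩ := sumCol_support t _ _ c hc
          obtain ⟨-, -, -, h4⟩ := stepOK_getElem hD hf hr (hD.step r hr s hs h₁ h₂) hi
          have : 0 < ((i + 1 : ℕ) : ℤ) * f r := Int.mul_pos (by positivity) hfr
          simp [wt, h4]
          push_cast at this
          linarith
        refine ⟨fun hab h => ?_, fun hab => ?_⟩
        · have : sumCol D F t (D.chainEntry r s) 1 a ≠ 0 := by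
            intro h0
            rcases a with j | ⟨u, hu⟩
            · simp [ev, h0] at h
            · have hus : u ≠ s := fun e' => hab (by simp [e'])
              simp [ev, h0, hus] at h
          simpa [wt] using hsup a this
        · subst hab
          have : sumCol D F t (D.chainEntry r s) 1 (Sum.inr ⟨s, hs⟩) = 0 := by
            by_contra h0
            have := hsup _ h0
            simp [wt] at this
          simp [ev, this]
  refine ⟨fun a b h => ?_, fun a => (key a a).2 rfl⟩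
  by_cases hab : a = b
  · exact Or.inl hab
  · exact Or.inr ((key a b).1 hab h)

theorem uTri_closure {f : ℕ → ℤ} (hf : IsLin D f) {g : GL D.Idx F}
    (hg' : g ∈ Subgroup.closure {g : GL D.Idx F | ∃ (r : ℕ) (t : F), r < D.nroots ∧ 0 < f r ∧
      (g : Matrix D.Idx D.Idx F) = D.x F r t}) :
    UTri D f (g : Matrix D.Idx D.Idx F) := by
  suffices UTri D f (g : Matrix D.Idx D.Idx F) ∧
      UTri D f ((g⁻¹ : GL D.Idx F) : Matrix D.Idx D.Idx F) from this.1
  induction hg' using Subgroup.closure_induction with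
  | mem x hx =>
    obtain ⟨r, t, hr, hfr, e⟩ := hx
    obtain rfl : x = xg hD F r t := Units.ext e
    exact ⟨uTri_x hD hf hr hfr t, by rw [xg_inv]; exact uTri_x hD hf hr hfr (-t)⟩
  | one => simpa using uTri_one f
  | mul x y _ _ hx hy =>
    refine ⟨by rw [Units.val_mul]; exact hx.1.mul hy.1, ?_⟩
    rw [_root_.mul_inv_rev, Units.val_mul]
    exact hy.2.mul hx.2
  | inv x _ hx => exact ⟨hx.2, by rw [inv_inv]; exact hx.1⟩

omit hD in
theorem eq_one_of_uTri_neg {f : ℕ → ℤ} {M : Matrix D.Idx D.Idx F} (h1 : Tri D f M)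
    (h2 : UTri D (fun q => -f q) M) : M = 1 := by
  ext a b
  by_cases hab : a = b
  · subst hab; rw [h2.2, Matrix.one_apply_eq]
  · rw [Matrix.one_apply_ne hab]
    by_contra h
    rcases h1 a b h with e | e
    · exact hab e
    rcases h2.1 a b h with e' | e'
    · exact hab e'
    rcases a with i | q <;> rcases b with j | q' <;> simp [wt] at e e' <;> omega

theorem x_one_ne_one {r : ℕ} (hr : r < D.nroots) : xg hD F r 1 ≠ 1 := by
  intro h
  have h1 := congrArg (fun g : GL D.Idx F => (g : Matrix D.Idx D.Idx F) *ᵥ ev D F (D.neg r)) h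
  simp only [coe_xg, x_eq_xR D hr, Units.val_one, Matrix.one_mulVec,
    xR_neg D r (1 : F) (hD.neg_lt r hr) (hD.neg_ne r hr)] at h1
  have h2 := congrFun h1 (Sum.inr ⟨r, hr⟩)
  simp [ev, hv, (hD.neg_ne r hr).symm] at h2

end Cfsg.Agent.ChevBN
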