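import Cfsg.Agent.Lib.RGD.BN
import Cfsg.Agent.Lib.ChevBN.Torus

/-!
# Root group data of a Chevalley group

`chevRGD hD hR F`, with `chev_Upos`, `chev_Vneg`, `chev_B`, `chev_N`, `chev_G` identifying its subgroups
with `posUnipotent`, `negUnipotent`, `borelSubgroup`, `monomialSubgroup`, `group`.
-/

set_option autoImplicit false

namespace Cfsg.Agent.ChevBN

open Cfsg.Lie Cfsg.Lie.ChevalleyDatum Cfsg.Agent.Chev Cfsg.Agent.ChevSt

variable {D : ChevalleyDatum} {M : List (List ℤ)} {d : ℤ} (hD : Good D) (hR : Roots D M d)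
  {F : Type*} [Field F]

include hD in
theorem nSign_cases {r s : ℕ} (hr : r < D.nroots) (hs : s < D.nroots) :
    (nSign D r s = 1 ∨ nSign D r s = -1) ∧ nSign D r s * nSign D r (D.neg s) = 1 := by
  by_cases h₁ : s = r
  · subst h₁; simp [nSign, hD.neg_ne s hr]
  by_cases h₂ : s = D.neg r
  · subst h₂; simp [nSign, hD.neg_ne r hr, hD.neg_neg r hr]
  · obtain ⟨-, -, -, -, -, -, h, -, h'⟩ := hD.nword r hr s hs h₁ h₂
    exact ⟨h, h'⟩

theorem ng_conj_xg {i s : ℕ} (hi : i < D.rank) (hs : s < D.nroots) (u : F) :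
    ng hD F (D.simple i) 1 * xg hD F s u * (ng hD F (D.simple i) 1)⁻¹ =
      xg hD F (wN D i s) ((nSign D (D.simple i) s : F) * u) := by
  rw [mul_inv_eq_iff_eq_mul]
  apply Units.ext
  rw [Units.val_mul, Units.val_mul, coe_ng, coe_xg, coe_xg,
    nMat_conj hD (hD.simple_lt i hi) hs one_ne_zero, one_zpow, mul_one, wN]

include hR in
theorem ng_conj_ng {i s : ℕ} (hi : i < D.rank) (hs : s < D.nroots) (t : F) :
    ng hD F (D.simple i) 1 * ng hD F s t * (ng hD F (D.simple i) 1)⁻¹ =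
      ng hD F (wN D i s) ((nSign D (D.simple i) s : F) * t) := by
  set n := ng hD F (D.simple i) 1 with hn
  have e : n * ng hD F s t * n⁻¹ = (n * xg hD F s t * n⁻¹) * (n * xg hD F (D.neg s) (-t⁻¹) * n⁻¹)
      * (n * xg hD F s t * n⁻¹) := by rw [ng]; group
  rw [e, hn, ng_conj_xg hD hi hs, ng_conj_xg hD hi (hD.neg_lt s hs), hR.refl_neg hD hi hs, ng]
  obtain ⟨h1, h2⟩ := nSign_cases hD (hD.simple_lt i hi) hs
  congr 3
  rcases h1 with h | h <;> rw [h] at h2 ⊢
  · rw [one_mul] at h2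
    simp [h2]
  · have : nSign D (D.simple i) (D.neg s) = -1 := by omega
    simp [this]

include hR in
theorem ng_conj_diag {i : ℕ} (hi : i < D.rank) {h : GL D.Idx F} (hh : h ∈ D.diagonalSubgroup F) :
    ng hD F (D.simple i) 1 * h * (ng hD F (D.simple i) 1)⁻¹ ∈ D.diagonalSubgroup F := by
  set n := ng hD F (D.simple i) 1 with hn
  induction hh using Subgroup.closure_induction with
  | mem x hx =>
    obtain ⟨r, t, hr, ht, e⟩ := hx
    obtain rfl : x = hg hD F r t := Units.ext (e.trans (coe_hg hD r t).symm)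
    rw [hg, show n * (ng hD F r t * ng hD F r (-1)) * n⁻¹ =
      (n * ng hD F r t * n⁻¹) * (n * ng hD F r (-1) * n⁻¹) by group, hn, ng_conj_ng hD hR hi hr,
      ng_conj_ng hD hR hi hr]
    have hne : (nSign D (D.simple i) r : F) ≠ 0 := by
      rcases (nSign_cases hD (hD.simple_lt i hi) hr).1 with h | h <;> simp [h]
    exact ng_mul_mem hD _ (refl_lt hD (hD.simple_lt i hi) hr) (mul_ne_zero hne ht)
      (mul_ne_zero hne (neg_ne_zero.2 one_ne_zero))
  | one => rw [mul_one, mul_inv_cancel]; exact one_mem _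
  | mul x y _ _ hx hy =>
    rw [show n * (x * y) * n⁻¹ = (n * x * n⁻¹) * (n * y * n⁻¹) by group]
    exact mul_mem hx hy
  | inv x _ hx =>
    rw [show n * x⁻¹ * n⁻¹ = (n * x * n⁻¹)⁻¹ by group]
    exact inv_mem hx

/-- The span of the root subgroups of a set of roots. -/
theorem span_eq_closure (A : Set (Fin D.nroots)) :
    (⨆ s ∈ A, D.rootSubgroup F s.val) = Subgroup.closure
      {g : GL D.Idx F | ∃ (s : Fin D.nroots) (t : F), s ∈ A ∧
        (g : Matrix D.Idx D.Idx F) = D.x F s.val t} := by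
  refine le_antisymm (iSup₂_le fun s hs => (Subgroup.closure_le _).2 ?_) ((Subgroup.closure_le _).2 ?_)
  · rintro g ⟨t, ht⟩
    exact Subgroup.subset_closure ⟨s, t, hs, ht⟩
  · rintro g ⟨s, t, hs, ht⟩
    exact (le_biSup (fun s : Fin D.nroots => D.rootSubgroup F s.val) hs)
      (Subgroup.subset_closure ⟨t, ht⟩)

theorem span_pos_eq :
    (⨆ s ∈ {s : Fin D.nroots | D.IsPosRoot s.val}, D.rootSubgroup F s.val) = D.posUnipotent F := by
  rw [span_eq_closure, ChevalleyDatum.posUnipotent]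
  congr 1
  ext g
  exact ⟨fun ⟨s, t, h, e⟩ => ⟨s, t, h, e⟩, fun ⟨r, t, h, e⟩ => ⟨⟨r, h.1⟩, t, h, e⟩⟩

include hD in
theorem span_neg_eq :
    (⨆ s ∈ {s : Fin D.nroots | ¬ D.IsPosRoot s.val}, D.rootSubgroup F s.val) = D.negUnipotent F := by
  rw [span_eq_closure, ChevalleyDatum.negUnipotent]
  congr 1
  ext g
  exact ⟨fun ⟨s, t, h, e⟩ => ⟨s, t, (isNeg_iff hD s.isLt).2 h, e⟩,
    fun ⟨r, t, h, e⟩ => ⟨⟨r, h.1⟩, t, (isNeg_iff hD h.1).1 h, e⟩⟩

include hD hR

theorem uTri_pos {g : GL D.Idx F} (hg' : g ∈ D.posUnipotent F) :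
    UTri D (ht D M) (g : Matrix D.Idx D.Idx F) := by
  refine uTri_closure hD (isLin_ht hD M) (Subgroup.closure_mono ?_ hg')
  rintro g ⟨r, t, hr, e⟩
  exact ⟨r, t, hr.1, hR.ht_pos r hr.1 hr, e⟩

theorem uTri_negRoots {g : GL D.Idx F} (hg' : g ∈ D.negUnipotent F) :
    UTri D (fun q => -ht D M q) (g : Matrix D.Idx D.Idx F) := by
  have hf : IsLin D fun q => -ht D M q := by simpa using (isLin_ht hD M).smul (-1)
  refine uTri_closure hD hf (Subgroup.closure_mono ?_ hg')
  rintro g ⟨r, t, hr, e⟩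
  have h := hR.ht_pos _ (hD.neg_lt r hr.1) ((pos_or_neg hD hr.1).2 ((isNeg_iff hD hr.1).1 hr))
  rw [(isLin_ht hD M).neg r hr.1] at h
  exact ⟨r, t, hr.1, h, e⟩

theorem borel_inf_neg : D.borelSubgroup F ⊓ D.negUnipotent F = ⊥ := by
  rw [eq_bot_iff]
  rintro g ⟨hg', hgV⟩
  have key : ∀ x ∈ D.borelSubgroup F, Tri D (ht D M) (x : Matrix D.Idx D.Idx F) ∧
      Tri D (ht D M) ((x⁻¹ : GL D.Idx F) : Matrix D.Idx D.Idx F) := by
    intro x hx
    rw [ChevalleyDatum.borelSubgroup, Subgroup.sup_eq_closure] at hx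
    induction hx using Subgroup.closure_induction with
    | mem y hy =>
      rcases hy with hy | hy
      · exact ⟨(uTri_pos hD hR hy).1, (uTri_pos hD hR (inv_mem hy)).1⟩
      · obtain ⟨χ, hχ, -⟩ := isToral_of_mem hD hy
        obtain ⟨ψ, hψ, -⟩ := isToral_of_mem hD (inv_mem hy)
        exact ⟨by rw [hχ]; exact tri_dg _ χ, by rw [hψ]; exact tri_dg _ ψ⟩
    | one => simpa using (uTri_one (ht D M)).1
    | mul a b _ _ ha hb =>
      refine ⟨by rw [Units.val_mul]; exact ha.1.mul hb.1, ?_⟩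
      rw [_root_.mul_inv_rev, Units.val_mul]
      exact hb.2.mul ha.2
    | inv a _ ha => exact ⟨ha.2, by rw [inv_inv]; exact ha.1⟩
  exact Units.ext (eq_one_of_uTri_neg (key g hg').1 (uTri_negRoots hD hR hgV))

theorem pos_inf_diag : D.posUnipotent F ⊓ D.diagonalSubgroup F = ⊥ := by
  rw [eq_bot_iff]
  rintro g ⟨hgU, hgH⟩
  obtain ⟨χ, hχ, -⟩ := isToral_of_mem hD hgH
  have h1 := (uTri_pos hD hR hgU).2
  apply Units.ext
  ext a b
  by_cases hab : a = b
  · subst hab; rw [h1]; simp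
  · rw [hχ, dg, Matrix.diagonal_apply_ne _ hab]
    simp [Matrix.one_apply_ne hab]

variable (F) in
/-- The root group data of the Chevalley group over `F`. -/
def chevRGD : RGD.RootData (GL D.Idx F) (Fin D.nroots) (Fin D.rank) where
  U r := D.rootSubgroup F r.val
  H := D.diagonalSubgroup F
  n i := ng hD F (D.simple i.val) 1
  simple i := ⟨D.simple i.val, hD.simple_lt i.val i.isLt⟩
  pos r := D.IsPosRoot r.val
  neg r := ⟨D.neg r.val, hD.neg_lt r.val r.isLt⟩
  w i r := ⟨wN D i.val r.val, refl_lt hD (hD.simple_lt i.val i.isLt) r.isLt⟩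
  neg_neg r := Fin.ext (hD.neg_neg r.val r.isLt)
  pos_neg r := pos_or_neg hD r.isLt
  pos_simple i := hR.pos_simple hD i.isLt
  simple_inj i j h := Fin.ext (hR.simple_inj hD i.isLt j.isLt (congrArg Fin.val h))
  w_simple i := Fin.ext (by simp [wN, Chev.refl])
  w_pos i r hr hne := hR.pos_refl hD i.isLt r.isLt hr fun e => hne (Fin.ext e)
  w_neg i r := Fin.ext (hR.refl_neg hD i.isLt r.isLt)
  w_w i r := Fin.ext (refl_refl hD (hD.simple_lt i.val i.isLt) r.isLt)
  H_conj_U _ hh _ _ hx := toral_conj_rootSubgroup hD hh hx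
  n_conj_U i r x hx := by
    obtain ⟨t, rfl⟩ := (mem_rootSubgroup hD _).1 hx
    rw [ng_conj_xg hD i.isLt r.isLt]
    exact xg_mem_rootSubgroup hD _ _
  n_conj_H i _ hh := ng_conj_diag hD hR i.isLt hh
  n_sq i := ng_mul_mem hD _ (hD.simple_lt i.val i.isLt) one_ne_zero one_ne_zero
  n_mem i := mul_mem (mul_mem
      (Subgroup.mem_sup_left (Subgroup.mem_sup_left (xg_mem_rootSubgroup hD _ _)))
      (Subgroup.mem_sup_left (Subgroup.mem_sup_right (xg_mem_rootSubgroup hD _ _))))
      (Subgroup.mem_sup_left (Subgroup.mem_sup_left (xg_mem_rootSubgroup hD _ _)))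
  U_conj i x hx r hr hne y hy := by
    have hs := hD.simple_lt i.val i.isLt
    obtain ⟨t, rfl⟩ := (mem_rootSubgroup hD _).1 hx
    obtain ⟨u, rfl⟩ := (mem_rootSubgroup hD _).1 hy
    obtain ⟨k, hk, hki, hpos⟩ := hR.exists_other hD r.isLt hr i.isLt fun e => hne (Fin.ext e)
    have h1 : r.val ≠ D.simple i.val := fun e => hne (Fin.ext e)
    have h2 : r.val ≠ D.neg (D.simple i.val) := fun e =>
      (pos_or_neg hD hs).1 (e ▸ hr) (hR.pos_simple hD i.isLt)
    set A : Set (Fin D.nroots) :=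
      {s | D.IsPosRoot s.val ∧ s ≠ ⟨D.simple i.val, hs⟩}
    set w : List (GL D.Idx F) := (D.commWord F (D.simple i.val) r.val (-t) u).map
      fun p => xg hD F p.1 p.2 with hw
    have e : xg hD F (D.simple i.val) t * xg hD F r.val u * (xg hD F (D.simple i.val) t)⁻¹
        = xg hD F r.val u * w.prod := by
      rw [xg_inv, mul_assoc]
      have hc : xg hD F r.val u * xg hD F (D.simple i.val) (-t)
          = xg hD F (D.simple i.val) (-t) * xg hD F r.val u * w.prod := by
        apply Units.ext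
        rw [Units.val_mul, Units.val_mul, Units.val_mul, coe_xg, coe_xg,
          hD.commutator hs r.isLt h1 h2, ← Units.coeHom_apply w.prod, map_list_prod, hw,
          List.map_map]
        rfl
      rw [hc, ← mul_assoc, ← mul_assoc, xg_add hD hs, add_neg_cancel, xg_zero, one_mul]
    show xg hD F (D.simple i.val) t * xg hD F r.val u * (xg hD F (D.simple i.val) t)⁻¹ ∈
      ⨆ s ∈ A, D.rootSubgroup F s.val
    rw [e]
    have hA : ∀ q : Fin D.nroots, q ∈ A → ∀ v : F, xg hD F q.val v ∈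
        ⨆ s ∈ A, D.rootSubgroup F s.val := fun q hq v =>
      (le_biSup (fun s : Fin D.nroots => D.rootSubgroup F s.val) hq) (xg_mem_rootSubgroup hD _ v)
    refine mul_mem (hA r ⟨hr, hne⟩ u) (list_prod_mem fun g hg' => ?_)
    simp only [hw, ChevalleyDatum.commWord, List.map_map, List.mem_map, Function.comp_apply] at hg'
    obtain ⟨τ, hτ, rfl⟩ := hg'
    obtain ⟨hlt, -, hj, hval⟩ := (isLin_co hD M k).commTerms hD hs r.isLt h1 h2 hτ
    rw [hR.dual k hk i.val i.isLt, if_neg hki, mul_zero, zero_add] at hval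
    have hτpos : 0 < co D M k τ.1 := by
      rw [hval]; exact Int.mul_pos (by exact_mod_cast hj) hpos
    refine hA ⟨τ.1, hlt⟩ ⟨?_, ?_⟩ _
    · by_contra hneg
      exact absurd (hR.nonpos_of_not_pos hD hlt hneg hk) (by omega)
    · intro eq
      have : τ.1 = D.simple i.val := congrArg Fin.val eq
      rw [this, hR.dual k hk i.val i.isLt, if_neg hki] at hτpos
      exact lt_irrefl _ hτpos
  rank_one i y hy hy1 := by
    obtain ⟨t, rfl⟩ := (mem_rootSubgroup hD _).1 hy
    have ht : t ≠ 0 := fun h => hy1 (by rw [h, xg_zero])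
    have hs := hD.simple_lt i.val i.isLt
    refine ⟨_, xg_mem_rootSubgroup hD _ t⁻¹, hg hD F (D.simple i.val) (-t⁻¹),
      Subgroup.subset_closure ⟨_, _, hs, neg_ne_zero.2 (inv_ne_zero ht), coe_hg hD _ _⟩,
      _, xg_mem_rootSubgroup hD _ t⁻¹, ?_⟩
    have e1 : hg hD F (D.simple i.val) (-t⁻¹) * ng hD F (D.simple i.val) 1
        = ng hD F (D.simple i.val) (-t⁻¹) := by
      rw [hg, mul_assoc, show ng hD F (D.simple i.val) 1 = (ng hD F (D.simple i.val) (-1))⁻¹ by
        rw [ng_inv, _root_.neg_neg], mul_inv_cancel, mul_one]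
    show xg hD F (D.neg (D.simple i.val)) t = _
    rw [mul_assoc (xg hD F (D.simple i.val) t⁻¹), e1, ng,
      show (-(-t⁻¹)⁻¹ : F) = t by rw [inv_neg, inv_inv, _root_.neg_neg],
      ← mul_assoc, ← mul_assoc, xg_add hD hs, add_neg_cancel, xg_zero, one_mul, mul_assoc,
      xg_add hD hs, neg_add_cancel, xg_zero, mul_one]
  U_ne_bot r h := by
    have h1 := xg_mem_rootSubgroup hD (F := F) r.val 1
    rw [h, Subgroup.mem_bot] at h1
    exact x_one_ne_one hD r.isLt h1
  B_inf_V := by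
    rw [span_pos_eq, span_neg_eq hD]
    exact borel_inf_neg hD hR
  U_inf_H := by
    rw [span_pos_eq]
    exact pos_inf_diag hD hR

theorem chev_Upos : (chevRGD hD hR F).Upos = D.posUnipotent F := span_pos_eq

theorem chev_Vneg : (chevRGD hD hR F).Vneg = D.negUnipotent F := span_neg_eq hD

theorem chev_B : (chevRGD hD hR F).B = D.borelSubgroup F := by
  rw [RGD.RootData.B, chev_Upos]; rfl

theorem borel_le_group : D.borelSubgroup F ≤ D.group F := by
  refine sup_le ((Subgroup.closure_le _).2 ?_) ((Subgroup.closure_le _).2 ?_)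
  · rintro g ⟨r, t, -, e⟩
    obtain rfl : g = xg hD F r t := Units.ext e
    exact xg_mem_group hD r t
  · rintro g ⟨r, t, -, -, e⟩
    obtain rfl : g = hg hD F r t := Units.ext (e.trans (coe_hg hD r t).symm)
    exact mul_mem (mul_mem (mul_mem (xg_mem_group hD _ _) (xg_mem_group hD _ _)) (xg_mem_group hD _ _))
      (mul_mem (mul_mem (xg_mem_group hD _ _) (xg_mem_group hD _ _)) (xg_mem_group hD _ _))

theorem ng_mem_monomial {r : ℕ} (hr : r < D.nroots) :
    ng hD F r 1 ∈ (chevRGD hD hR F).N := by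
  set R := chevRGD hD hR F
  have hH : D.diagonalSubgroup F ≤ R.N := R.H_le_N
  have conj : ∀ i < D.rank, ∀ q < D.nroots, ng hD F q 1 ∈ R.N → ng hD F (wN D i q) 1 ∈ R.N := by
    intro i hi q hq h
    have hn : ng hD F (D.simple i) 1 ∈ R.N := R.n_mem_N ⟨i, hi⟩
    have h2 := mul_mem (mul_mem hn h) (inv_mem hn)
    rw [ng_conj_ng hD hR hi hq, mul_one] at h2
    rcases (nSign_cases hD (hD.simple_lt i hi) hq).1 with e | e <;> rw [e] at h2 <;> push_cast at h2
    · exact h2
    · simpa [ng_inv] using inv_mem h2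
  have hposcase : ∀ q, q < D.nroots → D.IsPosRoot q → ng hD F q 1 ∈ R.N := fun q hq hp =>
    hR.pos_induction hD (fun i hi => R.n_mem_N ⟨i, hi⟩) conj hq hp
  by_cases hp : D.IsPosRoot r
  · exact hposcase r hr hp
  · -- `n_r = n_{-r}(-1)` up to conjugation by itself
    have hp' := (pos_or_neg hD hr).2 hp
    have h1 := hposcase _ (hD.neg_lt r hr) hp'
    have key : ng hD F r 1 * ng hD F r 1 * (ng hD F r 1)⁻¹ = ng hD F (D.neg r) (-1) := by
      have hc : ∀ (s : ℕ), s < D.nroots → ∀ u : F, ng hD F r 1 * xg hD F s u * (ng hD F r 1)⁻¹ =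
          xg hD F (Chev.refl D r s) ((nSign D r s : F) * u) := fun s hs u => by
        rw [mul_inv_eq_iff_eq_mul]
        apply Units.ext
        rw [Units.val_mul, Units.val_mul, coe_ng, coe_xg, coe_xg, nMat_conj hD hr hs one_ne_zero,
          one_zpow, mul_one]
      calc ng hD F r 1 * ng hD F r 1 * (ng hD F r 1)⁻¹
          = (ng hD F r 1 * xg hD F r 1 * (ng hD F r 1)⁻¹) *
            (ng hD F r 1 * xg hD F (D.neg r) (-1⁻¹) * (ng hD F r 1)⁻¹) *
            (ng hD F r 1 * xg hD F r 1 * (ng hD F r 1)⁻¹) := by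
            conv_lhs => arg 1; arg 2; rw [ng]
            group
        _ = _ := by
            rw [hc r hr, hc _ (hD.neg_lt r hr), ng]
            simp [Chev.refl, nSign, hD.neg_ne r hr, hD.neg_neg r hr]
    rw [mul_inv_cancel_right] at key
    rw [key, ← ng_inv]
    exact inv_mem h1

theorem chev_N : (chevRGD hD hR F).N = D.monomialSubgroup F := by
  refine le_antisymm (sup_le le_sup_left ((Subgroup.closure_le _).2 ?_))
    (sup_le (chevRGD hD hR F).H_le_N ((Subgroup.closure_le _).2 ?_))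
  · rintro _ ⟨i, rfl⟩
    exact Subgroup.mem_sup_right (Subgroup.subset_closure
      ⟨_, hD.simple_lt i.val i.isLt, coe_ng hD _ _⟩)
  · rintro g ⟨r, hr, e⟩
    obtain rfl : g = ng hD F r 1 := Units.ext (e.trans (coe_ng hD r 1).symm)
    exact ng_mem_monomial hD hR hr

theorem chev_G : (chevRGD hD hR F).G = D.group F := by
  set R := chevRGD hD hR F
  refine le_antisymm (sup_le (by rw [chev_B hD hR]; exact borel_le_group hD hR) ?_)
    ((Subgroup.closure_le _).2 ?_)
  · rw [chev_N hD hR]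
    refine sup_le ((le_sup_right : D.diagonalSubgroup F ≤ D.borelSubgroup F).trans
      (borel_le_group hD hR)) ((Subgroup.closure_le _).2 ?_)
    rintro g ⟨r, -, e⟩
    obtain rfl : g = ng hD F r 1 := Units.ext (e.trans (coe_ng hD r 1).symm)
    exact mul_mem (mul_mem (xg_mem_group hD _ _) (xg_mem_group hD _ _)) (xg_mem_group hD _ _)
  · rintro g ⟨r, t, e⟩
    obtain rfl : g = xg hD F r.val t := Units.ext (by rw [e]; simp [ChevalleyDatum.x])
    have hpos : ∀ q : Fin D.nroots, D.IsPosRoot q.val → R.U q ≤ R.G := fun q hq =>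
      ((R.U_le_Upos hq).trans R.Upos_le_B).trans R.B_le_G
    by_cases hp : D.IsPosRoot r.val
    · exact hpos r hp (xg_mem_rootSubgroup hD _ t)
    · have key : ∀ q, q < D.nroots → D.IsPosRoot q →
          ∀ u, xg hD F (D.neg q) u ∈ R.G := by
        intro q hq hqp
        refine hR.pos_induction hD (P := fun q => ∀ u, xg hD F (D.neg q) u ∈ R.G) ?_ ?_ hq hqp
        · intro i hi u
          obtain ⟨y, hy, e⟩ := (RGD.RootData.mem_map_conj _).1
            (show xg hD F (D.neg (D.simple i)) u ∈ (R.U (R.simple ⟨i, hi⟩)).map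
              (MulAut.conj (R.n ⟨i, hi⟩)).toMonoidHom by
              rw [R.map_conj_n, R.w_simple]; exact xg_mem_rootSubgroup hD _ u) |>
              fun h => (⟨_, h, rfl⟩ : ∃ y, y ∈ R.U (R.simple ⟨i, hi⟩) ∧
                y = (R.n ⟨i, hi⟩)⁻¹ * xg hD F (D.neg (D.simple i)) u * R.n ⟨i, hi⟩)
          have := mul_mem (mul_mem (R.n_mem_G ⟨i, hi⟩) (hpos _ (R.pos_simple _) hy))
            (inv_mem (R.n_mem_G ⟨i, hi⟩))
          rw [e] at this
          simpa [mul_assoc] using this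
        · intro i hi p hp ih u
          have hwlt : wN D i p < D.nroots := refl_lt hD (hD.simple_lt i hi) hp
          have hne : (nSign D (D.simple i) (D.neg p) : F) ≠ 0 := by
            rcases (nSign_cases hD (hD.simple_lt i hi) (hD.neg_lt p hp)).1 with h | h <;> simp [h]
          have h2 := mul_mem (mul_mem (R.n_mem_G ⟨i, hi⟩) (ih ((nSign D (D.simple i) (D.neg p) : F)⁻¹ * u)))
            (inv_mem (R.n_mem_G ⟨i, hi⟩))
          rw [show R.n ⟨i, hi⟩ = ng hD F (D.simple i) 1 from rfl,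
            ng_conj_xg hD hi (hD.neg_lt p hp), ← mul_assoc, mul_inv_cancel₀ hne, one_mul,
            hR.refl_neg hD hi hp] at h2
          exact h2
      have := key _ (hD.neg_lt _ r.isLt) ((pos_or_neg hD r.isLt).2 hp) t
      rwa [hD.neg_neg _ r.isLt] at this

end Cfsg.Agent.ChevBN
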