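import Cfsg.Agent.Lib.ChevBN.Roots

/-!
# The `Roots` tables of the seven data (inverse Cartan matrices)
-/

set_option autoImplicit false
set_option maxRecDepth 100000
set_option synthInstance.maxSize 4000

namespace Cfsg.Agent.ChevBN

open Cfsg.Lie

def adjG2 : List (List ℤ) := [[2, 3], [1, 2]]

theorem rootsG2 : Roots chevG2 adjG2 1 := by
  constructor <;> decide +kernel

def adjB2 : List (List ℤ) := [[2, 2], [1, 2]]

theorem rootsB2 : Roots chevB2 adjB2 2 := by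
  constructor <;> decide +kernel

def adjD4 : List (List ℤ) := [[2, 2, 1, 1], [2, 4, 2, 2], [1, 2, 2, 1], [1, 2, 1, 2]]

theorem rootsD4 : Roots chevD4 adjD4 2 := by
  constructor <;> decide +kernel

def adjF4 : List (List ℤ) := [[2, 3, 4, 2], [3, 6, 8, 4], [2, 4, 6, 3], [1, 2, 3, 2]]

theorem rootsF4 : Roots chevF4 adjF4 1 := by
  constructor <;> decide +kernel

def adjE6 : List (List ℤ) := [[4, 3, 5, 6, 4, 2], [3, 6, 6, 9, 6, 3], [5, 6, 10, 12, 8, 4], [6, 9, 12, 18, 12, 6], [4, 6, 8, 12, 10, 5], [2, 3, 4, 6, 5, 4]]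

theorem rootsE6 : Roots chevE6 adjE6 3 := by
  constructor <;> decide +kernel

def adjE7 : List (List ℤ) := [[4, 4, 6, 8, 6, 4, 2], [4, 7, 8, 12, 9, 6, 3], [6, 8, 12, 16, 12, 8, 4], [8, 12, 16, 24, 18, 12, 6], [6, 9, 12, 18, 15, 10, 5], [4, 6, 8, 12, 10, 8, 4], [2, 3, 4, 6, 5, 4, 3]]

theorem rootsE7 : Roots chevE7 adjE7 2 := by
  constructor <;> decide +kernel

def adjE8 : List (List ℤ) := [[4, 5, 7, 10, 8, 6, 4, 2], [5, 8, 10, 15, 12, 9, 6, 3], [7, 10, 14, 20, 16, 12, 8, 4], [10, 15, 20, 30, 24, 18, 12, 6], [8, 12, 16, 24, 20, 15, 10, 5], [6, 9, 12, 18, 15, 12, 8, 4], [4, 6, 8, 12, 10, 8, 6, 3], [2, 3, 4, 6, 5, 4, 3, 2]]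

theorem rootsE8 : Roots chevE8 adjE8 1 := by
  constructor <;> decide +kernel

theorem exists_roots (D : ChevalleyDatum)
    (hD : D ∈ [chevG2, chevB2, chevD4, chevF4, chevE6, chevE7, chevE8]) : ∃ M d, Roots D M d := by
  simp only [List.mem_cons, List.not_mem_nil, or_false] at hD
  rcases hD with rfl | rfl | rfl | rfl | rfl | rfl | rfl
  exacts [⟨_, _, rootsG2⟩, ⟨_, _, rootsB2⟩, ⟨_, _, rootsD4⟩, ⟨_, _, rootsF4⟩, ⟨_, _, rootsE6⟩, ⟨_, _, rootsE7⟩,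
    ⟨_, _, rootsE8⟩]

end Cfsg.Agent.ChevBN
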