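import Cfsg.Agent.Lib.RGD.Core
import Cfsg.Agent.Lib.ChevBN.Instance

/-!
# Structure theorems of Chevalley groups from `Good D` and `Roots D M d`

`lin_neg`, `lin_ext` (linear functions on roots), `exists_long`, and the statements: `diag_normal`,
`bnPair`, `cell_isSubgroup`, `normal_form`, `conj_in_monomial`, `opposition`, `normalCore_eq_bot`.
-/

set_option autoImplicit false

namespace Cfsg.Agent.ChevBN

open Cfsg.Lie Cfsg.Lie.ChevalleyDatum Cfsg.Agent.Chev Cfsg.Agent.ChevSt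
open scoped Matrix

variable {D : ChevalleyDatum} {M : List (List ℤ)} {d : ℤ} (hD : Good D) (hR : Roots D M d)

include hD hR

/-- A linear function negative at the fundamental roots is negative at the positive roots. -/
theorem lin_neg {g : ℕ → ℤ} (hg : IsLin D g) (h : ∀ i < D.rank, g (D.simple i) < 0) {q : ℕ}
    (hq : q < D.nroots) (hp : D.IsPosRoot q) : g q < 0 := by
  induction hn : (ht D M q).toNat using Nat.strong_induction_on generalizing q with
  | _ m ih =>
    by_cases hs : ∃ i < D.rank, q = D.simple i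
    · obtain ⟨i, hi, rfl⟩ := hs; exact h i hi
    push Not at hs
    obtain ⟨i, hi, hc⟩ := hR.descend q hq hp hs
    have hwlt : wN D i q < D.nroots := refl_lt hD (hD.simple_lt i hi) hq
    have hwp := hR.pos_refl hD hi hq hp (hs i hi)
    have h0 := hR.ht_pos _ hwlt hwp
    have hr := hR.ht_refl hD hi hq
    have h1 := mul_pos hc hR.d_pos
    have h2 := ih (ht D M (wN D i q)).toNat (by omega) hwlt hwp rfl
    rw [wN, hg.refl hD (hD.simple_lt i hi) hq, pairing_simple hD hi] at h2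
    nlinarith [h i hi]

/-- Linear functions are determined by their values at the fundamental roots. -/
theorem lin_ext {f g : ℕ → ℤ} (hf : IsLin D f) (hg : IsLin D g)
    (h : ∀ i < D.rank, f (D.simple i) = g (D.simple i)) {q : ℕ} (hq : q < D.nroots) : f q = g q := by
  suffices hp : ∀ q < D.nroots, D.IsPosRoot q → f q = g q by
    by_cases hp' : D.IsPosRoot q
    · exact hp q hq hp'
    · have := hp _ (hD.neg_lt q hq) ((pos_or_neg hD hq).2 hp')
      rw [hf.neg q hq, hg.neg q hq] at this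
      omega
  intro q hq hp
  have := hR.pos_induction hD (P := fun q => q < D.nroots ∧ f q = g q)
    (fun i hi => ⟨hD.simple_lt i hi, h i hi⟩) (fun i hi p hp' e => by
      refine ⟨refl_lt hD (hD.simple_lt i hi) hp', ?_⟩
      rw [wN, hf.refl hD (hD.simple_lt i hi) hp', hg.refl hD (hD.simple_lt i hi) hp', e.2, h i hi])
    hq hp
  exact this.2

/-- Coefficients of the value of a linear function under reflections along a word. -/
theorem lin_comp (F : Type*) [Field F] (l : List (Fin D.rank)) :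
    ∀ {f : ℕ → ℤ}, IsLin D f →
      ∃ g, IsLin D g ∧ ∀ q : Fin D.nroots, g q.val = f ((chevRGD hD hR F).ww l q).val := by
  induction l with
  | nil => exact fun {f} hf => ⟨f, hf, fun q => rfl⟩
  | cons a l ih =>
    intro f hf
    have hf' : IsLin D fun q => f q + -(f (D.simple a.val)) * D.cartan a.val q :=
      hf.addFun ((isLin_cartan hD a.isLt).smul _)
    obtain ⟨g, hg, e⟩ := ih hf'
    refine ⟨g, hg, fun q => ?_⟩
    rw [e]
    show _ = f (wN D a.val ((chevRGD hD hR F).ww l q).val)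
    rw [wN, hf.refl hD (hD.simple_lt _ a.isLt) ((chevRGD hD hR F).ww l q).isLt, pairing_simple hD a.isLt]
    ring

variable {F : Type*} [Field F]

theorem exists_long :
    ∃ l : List (Fin D.rank), ∀ r, (chevRGD hD hR F).pos r →
      ¬ (chevRGD hD hR F).pos ((chevRGD hD hR F).ww l r) := by
  obtain ⟨l, hl⟩ := (chevRGD hD hR F).exists_long
  refine ⟨l, fun r hr hpos => ?_⟩
  obtain ⟨g, hg, e⟩ := lin_comp hD hR F l (isLin_ht hD M)
  have h1 := lin_neg hD hR hg (fun i hi => by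
    have := e ⟨D.simple i, hD.simple_lt i hi⟩
    rw [this]
    have h2 := hl ⟨i, hi⟩
    have h3 := hR.ht_pos _ (hD.neg_lt _ ((chevRGD hD hR F).ww l ⟨D.simple i, hD.simple_lt i hi⟩).isLt)
      ((pos_or_neg hD ((chevRGD hD hR F).ww l _).isLt).2 h2)
    rw [(isLin_ht hD M).neg _ ((chevRGD hD hR F).ww l _).isLt] at h3
    omega) r.isLt hr
  have h2 := hR.ht_pos _ ((chevRGD hD hR F).ww l r).isLt hpos
  rw [e r] at h1
  omega

theorem diag_normal :
    ((D.diagonalSubgroup F).subgroupOf (D.monomialSubgroup F)).Normal := by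
  refine ⟨fun h hh n => ?_⟩
  rw [Subgroup.mem_subgroupOf] at hh ⊢
  exact (chevRGD hD hR F).conj_H_mem (by rw [chev_N]; exact n.2) hh

theorem exists_bnPair :
    ∃ P : Cfsg.BNPair ↥(D.group F),
      P.B = (D.borelSubgroup F).subgroupOf (D.group F) ∧
      P.N = (D.monomialSubgroup F).subgroupOf (D.group F) ∧
      P.S = {n : ↥(D.group F) | ∃ i < D.rank,
        ((n : GL D.Idx F) : Matrix D.Idx D.Idx F) = D.nMat F (D.simple i) 1} := by
  let R := chevRGD hD hR F
  have key : ∀ K : Subgroup (GL D.Idx F), R.G = K → ∃ P : Cfsg.BNPair K,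
      P.B = R.B.subgroupOf K ∧ P.N = R.N.subgroupOf K ∧
      P.S = {n : K | ∃ i, (n : GL D.Idx F) = R.n i} := by
    rintro _ rfl
    refine ⟨R.bnPair, rfl, rfl, ?_⟩
    ext n
    exact ⟨fun ⟨i, e⟩ => ⟨i, e ▸ rfl⟩, fun ⟨i, e⟩ => ⟨i, Subtype.ext e.symm⟩⟩
  obtain ⟨P, h1, h2, h3⟩ := key _ (chev_G hD hR)
  refine ⟨P, by rw [h1, chev_B], by rw [h2, chev_N], ?_⟩
  rw [h3]
  ext n
  constructor
  · rintro ⟨i, e⟩
    exact ⟨i.val, i.isLt, by rw [e]; exact coe_ng hD _ _⟩
  · rintro ⟨i, hi, e⟩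
    exact ⟨⟨i, hi⟩, Units.ext (e.trans (coe_ng hD _ _).symm)⟩

theorem cell_isSubgroup {i : ℕ} (hi : i < D.rank) {n : GL D.Idx F}
    (hn : (n : Matrix D.Idx D.Idx F) = D.nMat F (D.simple i) 1) :
    ∃ P : Subgroup (GL D.Idx F), (P : Set (GL D.Idx F)) =
      (D.borelSubgroup F : Set (GL D.Idx F)) ∪
        DoubleCoset.doubleCoset n (D.borelSubgroup F : Set (GL D.Idx F)) (D.borelSubgroup F) := by
  obtain rfl : n = ng hD F (D.simple i) 1 := Units.ext (hn.trans (coe_ng hD _ _).symm)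
  refine ⟨(chevRGD hD hR F).cellSubgroup ⟨i, hi⟩, ?_⟩
  rw [RGD.RootData.coe_cellSubgroup, chev_B]
  rfl

theorem uminus_eq {l : List (Fin D.rank)} {k n : GL D.Idx F} (hk : k ∈ D.diagonalSubgroup F)
    (en : n = k * (chevRGD hD hR F).nw l) :
    Subgroup.closure {x : GL D.Idx F | ∃ (r : ℕ) (t : F), D.IsPosRoot r ∧
      (D.rootSubgroup F r).map (MulAut.conj n).toMonoidHom ≤ D.negUnipotent F ∧
      (x : Matrix D.Idx D.Idx F) = D.x F r t} = (chevRGD hD hR F).Uminus l := by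
  let R := chevRGD hD hR F
  have key : ∀ r : Fin D.nroots,
      (D.rootSubgroup F r.val).map (MulAut.conj n).toMonoidHom ≤ D.negUnipotent F ↔
        ¬ R.pos (R.ww l r) := by
    intro r
    have e : (R.U r).map (MulAut.conj n).toMonoidHom = R.U (R.ww l r) := by
      rw [en]; exact R.map_conj_H_nw hk l r
    rw [show D.rootSubgroup F r.val = R.U r from rfl, e, ← chev_Vneg hD hR]
    refine ⟨fun h hpos => R.U_ne_bot (R.ww l r) ?_, fun h => R.U_le_Vneg h⟩
    exact le_bot_iff.1 (R.B_inf_V ▸ le_inf ((R.U_le_B_iff _).2 hpos) h)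
  show _ = ⨆ s ∈ {r | R.pos r ∧ ¬ R.pos (R.ww l r)}, D.rootSubgroup F s.val
  rw [span_eq_closure]
  congr 1
  ext x
  constructor
  · rintro ⟨r, t, hr, h, e⟩
    exact ⟨⟨r, hr.1⟩, t, ⟨hr, (key ⟨r, hr.1⟩).1 h⟩, e⟩
  · rintro ⟨r, t, ⟨hr, h⟩, e⟩
    exact ⟨r.val, t, hr, (key r).2 h, e⟩

theorem normal_form :
    (∀ g ∈ D.group F, ∃ b ∈ D.borelSubgroup F, ∃ n ∈ D.monomialSubgroup F,
      ∃ u ∈ Subgroup.closure {x : GL D.Idx F | ∃ (r : ℕ) (t : F), D.IsPosRoot r ∧
            (D.rootSubgroup F r).map (MulAut.conj n).toMonoidHom ≤ D.negUnipotent F ∧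
            (x : Matrix D.Idx D.Idx F) = D.x F r t},
        g = b * n * u) ∧
    (∀ (b b' n n' u u' : GL D.Idx F), b ∈ D.borelSubgroup F → b' ∈ D.borelSubgroup F →
      n ∈ D.monomialSubgroup F → n' ∈ D.monomialSubgroup F →
      u ∈ Subgroup.closure {x : GL D.Idx F | ∃ (r : ℕ) (t : F), D.IsPosRoot r ∧
            (D.rootSubgroup F r).map (MulAut.conj n).toMonoidHom ≤ D.negUnipotent F ∧
            (x : Matrix D.Idx D.Idx F) = D.x F r t} →
      u' ∈ Subgroup.closure {x : GL D.Idx F | ∃ (r : ℕ) (t : F), D.IsPosRoot r ∧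
            (D.rootSubgroup F r).map (MulAut.conj n').toMonoidHom ≤ D.negUnipotent F ∧
            (x : Matrix D.Idx D.Idx F) = D.x F r t} →
      b * n * u = b' * n' * u' → n⁻¹ * n' ∈ D.diagonalSubgroup F ∧ (n = n' → b = b' ∧ u = u')) := by
  let R := chevRGD hD hR F
  refine ⟨fun g hg => ?_, fun b b' n n' u u' hb hb' hn hn' hu hu' e => ?_⟩
  · rw [← chev_G hD hR] at hg
    obtain ⟨b, hb, l, u, hu, e⟩ := R.exists_normalForm hg
    refine ⟨b, chev_B hD hR (F := F) ▸ hb, R.nw l, chev_N hD hR (F := F) ▸ R.nw_mem_N l, u, ?_, e⟩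
    rw [uminus_eq hD hR (F := F) (k := 1) (one_mem _) (one_mul (R.nw l)).symm]
    exact hu
  · rw [← chev_B hD hR] at hb hb'
    rw [← chev_N hD hR] at hn hn'
    obtain ⟨k, hk, l, en⟩ := R.mem_N_iff.1 hn
    obtain ⟨k', hk', l', en'⟩ := R.mem_N_iff.1 hn'
    rw [uminus_eq hD hR hk en] at hu
    rw [uminus_eq hD hR hk' en'] at hu'
    refine ⟨R.mem_H_of_eq hn hn' hb (R.Upos_le_B (R.Uminus_le_Upos l hu)) hb'
      (R.Upos_le_B (R.Uminus_le_Upos l' hu')) e, fun heq => ?_⟩
    subst heq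
    have hu'' : u' ∈ R.Uminus l := by
      have h1 : R.nw l' = k'⁻¹ * k * R.nw l := by
        rw [mul_assoc, ← en, en']; group
      rwa [R.Uminus_congr (mul_mem (inv_mem hk') hk) h1] at hu'
    exact R.normalForm_unique hk en hb hb' hu hu'' e

theorem conj_in_monomial {h₁ h₂ g : GL D.Idx F} (h1 : h₁ ∈ D.diagonalSubgroup F)
    (h2 : h₂ ∈ D.diagonalSubgroup F) (hg : g ∈ D.group F) (hc : g * h₁ * g⁻¹ = h₂) :
    ∃ n ∈ D.monomialSubgroup F, n * h₁ * n⁻¹ = h₂ := by
  rw [← chev_N hD hR (F := F)]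
  rw [← chev_G hD hR (F := F)] at hg
  exact (chevRGD hD hR F).exists_conj_of_conj h1 h2 hg hc

theorem opposition :
    ∃ n ∈ D.monomialSubgroup F,
      (D.posUnipotent F).map (MulAut.conj n).toMonoidHom = D.negUnipotent F := by
  obtain ⟨l, hl⟩ := exists_long hD hR (F := F)
  refine ⟨(chevRGD hD hR F).nw l, chev_N hD hR (F := F) ▸ (chevRGD hD hR F).nw_mem_N l, ?_⟩
  rw [← chev_Upos hD hR (F := F), ← chev_Vneg hD hR (F := F)]
  exact (chevRGD hD hR F).map_conj_long hl

omit hR in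
theorem xg_eq_one {r : ℕ} (hr : r < D.nroots) {t : F} (h : xg hD F r t = 1) : t = 0 := by
  have h1 := congrArg (fun g : GL D.Idx F => (g : Matrix D.Idx D.Idx F) *ᵥ ev D F (D.neg r)) h
  simp only [coe_xg, x_eq_xR D hr, Units.val_one, Matrix.one_mulVec,
    xR_neg D r t (hD.neg_lt r hr) (hD.neg_ne r hr)] at h1
  have h2 := congrFun h1 (Sum.inr ⟨r, hr⟩)
  simpa [ev, hv, hr, (hD.neg_ne r hr).symm, hD.neg_ne r hr, hD.neg_lt r hr] using h2

omit hR in
/-- A toral element commuting with all root elements is trivial. -/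
theorem eq_one_of_commute_all {x : GL D.Idx F} (hx : x ∈ D.diagonalSubgroup F)
    (h : ∀ r < D.nroots, x * xg hD F r 1 = xg hD F r 1 * x) : x = 1 := by
  obtain ⟨χ, hχ, hc⟩ := isToral_of_mem hD hx
  have h1 : ∀ r < D.nroots, (χ r : F) = 1 := fun r hr => by
    have e := (hc r 1).symm.trans (h r hr)
    rw [mul_one] at e
    have e' : xg hD F r ((χ r : F) + -1) = 1 := by
      rw [← xg_add hD hr, mul_right_cancel e, xg_add hD hr, add_neg_cancel, xg_zero]
    linear_combination xg_eq_one hD hr e'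
  apply Units.ext
  rw [hχ, Units.val_one, dg, ← Matrix.diagonal_one]
  congr 1
  ext a
  rcases a with i | q
  · rfl
  · exact h1 q.val q.isLt

theorem normalCore_eq_bot : ((D.borelSubgroup F).subgroupOf (D.group F)).normalCore = ⊥ := by
  let R := chevRGD hD hR F
  obtain ⟨l, hl⟩ := exists_long hD hR (F := F)
  set C := ((D.borelSubgroup F).subgroupOf (D.group F)).normalCore with hC
  set K := C.map (D.group F).subtype with hKdef
  have hK : K ≤ R.B := by
    rw [chev_B hD hR]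
    rintro _ ⟨x, hx, rfl⟩
    exact Subgroup.mem_subgroupOf.1 (Subgroup.normalCore_le _ hx)
  have hn : ∀ g ∈ R.G, ∀ x ∈ K, g * x * g⁻¹ ∈ K := by
    rintro g hg _ ⟨x, hx, rfl⟩
    rw [chev_G hD hR] at hg
    have hN : C.Normal := Subgroup.normalCore_normal _
    exact ⟨_, hN.conj_mem x hx ⟨g, hg⟩, rfl⟩
  rw [eq_bot_iff]
  intro x hx
  have hx' : (x : GL D.Idx F) ∈ K := ⟨x, hx, rfl⟩
  exact Subtype.ext (eq_one_of_commute_all hD (R.core_le hl hK hn hx') fun r hr =>
    R.commute_of_core hl hK hn hx' ⟨r, hr⟩ (xg_mem_rootSubgroup hD r 1))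

end Cfsg.Agent.ChevBN
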