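import Cfsg.Agent.Lib.ChevBN.Simple

/-!
# The Dynkin diagrams are connected
-/

set_option autoImplicit false
set_option maxRecDepth 100000

namespace Cfsg.Agent.ChevBN

open Cfsg.Lie

theorem connG2 : ConnOK chevG2 [0, 1] := by decide +kernel
theorem connB2 : ConnOK chevB2 [0, 1] := by decide +kernel
theorem connD4 : ConnOK chevD4 [1, 0, 2, 3] := by decide +kernel
theorem connF4 : ConnOK chevF4 [0, 1, 2, 3] := by decide +kernel
theorem connE6 : ConnOK chevE6 [0, 2, 3, 1, 4, 5] := by decide +kernel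
theorem connE7 : ConnOK chevE7 [0, 2, 3, 1, 4, 5, 6] := by decide +kernel
theorem connE8 : ConnOK chevE8 [0, 2, 3, 1, 4, 5, 6, 7] := by decide +kernel

end Cfsg.Agent.ChevBN
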