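import Cfsg.Agent.Lib.ChevBN.Perfect

/-!
# The table checks behind perfectness, for the seven data (with witnesses)
-/

set_option autoImplicit false
set_option maxRecDepth 100000

namespace Cfsg.Agent.ChevBN

open Cfsg.Lie

def witnessG2 : List (ℕ × ℕ) := [
  (1, 1), (0, 0), (0, 0), (0, 0), (1, 1), (0, 0), (0, 0), (1, 1), (0, 0), (0, 0), (0, 0), (1, 1)]

theorem smallOK_G2 : ∀ q < chevG2.nroots, SmallOK chevG2 (witnessG2.getD q (0, 0)) q = true := by
  decide +kernel

def witnessB2 : List (ℕ × ℕ) := [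
  (1, 2), (0, 0), (0, 0), (1, 5), (2, 6), (0, 0), (0, 0), (5, 6)]

theorem smallOK_B2 : ∀ q < chevB2.nroots, SmallOK chevB2 (witnessB2.getD q (0, 0)) q = true := by
  decide +kernel

def witnessD4 : List (ℕ × ℕ) := [
  (1, 9), (0, 14), (0, 15), (0, 16), (0, 17), (1, 17), (0, 19), (0, 20), (0, 21), (0, 22), (1, 20), (1, 21),
  (2, 22), (3, 22), (1, 23), (2, 23), (3, 23), (4, 23), (6, 22), (6, 23), (7, 23), (8, 23), (9, 23), (14, 22)]

theorem twoOK_D4 : ∀ q < chevD4.nroots, TwoOK chevD4 (witnessD4.getD q (0, 0)) q = true := by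
  decide +kernel

def witnessF4 : List (ℕ × ℕ) := [
  (1, 23), (0, 24), (0, 26), (7, 14), (0, 31), (0, 32), (1, 32), (3, 33), (3, 34), (3, 35), (3, 36), (3, 37),
  (3, 38), (3, 39), (3, 40), (0, 42), (0, 43), (1, 43), (7, 37), (7, 38), (7, 39), (0, 45), (1, 45), (0, 46),
  (1, 47), (2, 46), (2, 47), (8, 40), (9, 40), (10, 40), (4, 46), (4, 47), (5, 47), (7, 44), (8, 44), (9, 44),
  (10, 44), (11, 44), (12, 44), (13, 44), (14, 44), (15, 46), (15, 47), (16, 47), (33, 40), (21, 47), (23, 47), (24, 46)]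

theorem twoOK_F4 : ∀ q < chevF4.nroots, TwoOK chevF4 (witnessF4.getD q (0, 0)) q = true := by
  decide +kernel

def witnessE6 : List (ℕ × ℕ) := [
  (1, 25), (0, 46), (0, 47), (0, 48), (0, 49), (0, 50), (0, 51), (0, 52), (0, 53), (0, 54), (0, 55), (1, 53),
  (1, 54), (1, 55), (2, 55), (5, 55), (0, 61), (0, 62), (0, 63), (0, 64), (0, 65), (0, 66), (0, 67), (0, 68),
  (0, 69), (0, 70), (1, 64), (1, 65), (1, 66), (2, 66), (1, 67), (1, 68), (1, 69), (2, 67), (2, 68), (3, 67),
  (4, 68), (3, 69), (4, 69), (2, 70), (3, 70), (4, 70), (5, 69), (5, 70), (6, 70), (7, 70), (1, 71), (2, 71),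
  (3, 71), (4, 71), (5, 71), (6, 71), (7, 71), (8, 71), (9, 71), (10, 71), (16, 66), (16, 69), (16, 70), (17, 70),
  (18, 70), (16, 71), (17, 71), (18, 71), (19, 71), (20, 71), (21, 71), (22, 71), (23, 71), (24, 71), (25, 71), (46, 70)]

theorem twoOK_E6 : ∀ q < chevE6.nroots, TwoOK chevE6 (witnessE6.getD q (0, 0)) q = true := by
  decide +kernel

def witnessE7 : List (ℕ × ℕ) := [
  (1, 32), (0, 93), (0, 94), (0, 95), (0, 96), (0, 97), (0, 98), (0, 99), (0, 100), (0, 101), (0, 102), (0, 103),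
  (0, 104), (0, 105), (0, 106), (0, 107), (0, 108), (0, 109), (0, 110), (0, 111), (0, 112), (0, 113), (0, 114), (0, 115),
  (0, 116), (0, 117), (0, 118), (0, 119), (0, 120), (0, 121), (0, 122), (0, 123), (0, 124), (1, 109), (1, 110), (1, 111),
  (1, 112), (1, 113), (1, 114), (1, 115), (1, 116), (1, 117), (1, 118), (2, 115), (2, 116), (2, 117), (2, 118), (3, 118),
  (1, 119), (1, 120), (1, 121), (1, 122), (1, 123), (2, 119), (2, 120), (2, 121), (2, 122), (3, 119), (3, 120), (3, 121),
  (4, 119), (4, 120), (5, 119), (6, 120), (5, 121), (6, 121), (4, 122), (5, 122), (6, 122), (3, 123), (4, 123), (5, 123),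
  (6, 123), (2, 124), (3, 124), (4, 124), (5, 124), (6, 124), (7, 122), (7, 123), (8, 123), (9, 123), (10, 123), (7, 124),
  (8, 124), (9, 124), (10, 124), (11, 124), (12, 124), (13, 124), (14, 124), (15, 124), (16, 124), (1, 125), (2, 125), (3, 125),
  (4, 125), (5, 125), (6, 125), (7, 125), (8, 125), (9, 125), (10, 125), (11, 125), (12, 125), (13, 125), (14, 125), (15, 125),
  (16, 125), (17, 125), (18, 125), (19, 125), (20, 125), (21, 125), (22, 125), (23, 125), (24, 125), (25, 125), (26, 125), (27, 125),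
  (28, 125), (29, 125), (30, 125), (31, 125), (32, 125), (93, 124)]

theorem twoOK_E7 : ∀ q < chevE7.nroots, TwoOK chevE7 (witnessE7.getD q (0, 0)) q = true := by
  decide +kernel

def witnessE8 : List (ℕ × ℕ) := [
  (1, 119), (0, 120), (0, 122), (0, 125), (0, 129), (0, 134), (0, 140), (0, 146), (0, 151), (0, 155), (0, 158), (0, 160),
  (0, 161), (1, 161), (0, 168), (0, 173), (0, 177), (0, 180), (0, 182), (0, 183), (1, 183), (0, 187), (0, 190), (0, 192),
  (0, 193), (1, 193), (0, 196), (0, 198), (0, 199), (1, 199), (0, 201), (0, 202), (1, 202), (0, 203), (1, 203), (2, 203),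
  (0, 206), (0, 208), (0, 209), (1, 209), (0, 211), (0, 212), (1, 212), (0, 213), (1, 213), (2, 213), (0, 215), (0, 216),
  (1, 216), (0, 217), (1, 217), (2, 217), (0, 218), (1, 218), (2, 218), (3, 218), (0, 220), (0, 221), (1, 221), (0, 222),
  (1, 222), (2, 222), (0, 223), (1, 223), (2, 223), (3, 223), (0, 224), (1, 224), (2, 224), (3, 224), (4, 224), (0, 225),
  (1, 225), (2, 225), (3, 225), (4, 225), (5, 225), (6, 225), (0, 227), (0, 228), (1, 228), (0, 229), (1, 229), (2, 229),
  (0, 230), (1, 230), (2, 230), (3, 230), (0, 231), (1, 231), (2, 231), (3, 231), (4, 231), (0, 232), (1, 232), (2, 232),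
  (3, 232), (4, 232), (5, 232), (0, 233), (1, 233), (2, 233), (3, 233), (4, 233), (5, 233), (0, 234), (1, 234), (2, 234),
  (3, 234), (4, 234), (0, 235), (1, 235), (2, 235), (3, 235), (0, 236), (1, 236), (2, 236), (0, 237), (1, 237), (0, 238),
  (1, 239), (2, 238), (2, 239), (3, 237), (3, 238), (3, 239), (4, 236), (4, 237), (4, 238), (4, 239), (5, 235), (5, 236),
  (5, 237), (5, 238), (5, 239), (6, 234), (6, 235), (6, 236), (6, 237), (6, 238), (6, 239), (7, 234), (7, 235), (7, 236),
  (7, 237), (7, 238), (7, 239), (8, 235), (8, 236), (8, 237), (8, 238), (8, 239), (9, 236), (9, 237), (9, 238), (9, 239),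
  (10, 237), (10, 238), (10, 239), (11, 238), (11, 239), (12, 239), (14, 233), (14, 234), (14, 235), (14, 236), (14, 237), (14, 238),
  (14, 239), (15, 235), (15, 236), (15, 237), (15, 238), (15, 239), (16, 236), (16, 237), (16, 238), (16, 239), (17, 237), (17, 238),
  (17, 239), (18, 238), (18, 239), (19, 239), (21, 236), (21, 237), (21, 238), (21, 239), (22, 237), (22, 238), (22, 239), (23, 238),
  (23, 239), (24, 239), (26, 237), (26, 238), (26, 239), (27, 238), (27, 239), (28, 239), (30, 238), (30, 239), (31, 239), (33, 239),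
  (36, 237), (36, 238), (36, 239), (37, 238), (37, 239), (38, 239), (40, 238), (40, 239), (41, 239), (43, 239), (46, 238), (46, 239),
  (47, 239), (49, 239), (52, 239), (56, 238), (56, 239), (57, 239), (59, 239), (62, 239), (66, 239), (71, 239), (78, 238), (78, 239),
  (79, 239), (81, 239), (84, 239), (88, 239), (93, 239), (99, 239), (105, 239), (110, 239), (114, 239), (117, 239), (119, 239), (120, 238)]

theorem twoOK_E8 : ∀ q < chevE8.nroots, TwoOK chevE8 (witnessE8.getD q (0, 0)) q = true := by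
  decide +kernel

theorem smallOK_of_twoOK {D : ChevalleyDatum} {p : ℕ × ℕ} {q : ℕ} (h : TwoOK D p q = true) :
    SmallOK D p q = true := by
  simp only [TwoOK, SmallOK, Bool.and_eq_true, Bool.or_eq_true] at h ⊢
  refine ⟨h.1, Or.inr ?_⟩
  have h' := h.2
  simp only [SingleTerm, Bool.and_eq_true] at h' ⊢
  refine ⟨h'.1, ?_⟩
  have h'' := h'.2
  split at h'' <;> simp_all

end Cfsg.Agent.ChevBN
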