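import Cfsg.Agent.Lib.ChevBN.RootTables
import Cfsg.Agent.Lib.ChevBN.ConnTables
import Cfsg.Agent.Lib.ChevBN.PerfectTables

/-!
# Table facts for members of the list of seven data
-/

set_option autoImplicit false

namespace Cfsg.Agent.ChevBN

open Cfsg.Lie

theorem smallOK_of_mem {D : ChevalleyDatum}
    (hD : D ∈ [chevG2, chevB2, chevD4, chevF4, chevE6, chevE7, chevE8]) :
    ∀ q < D.nroots, ∃ p, SmallOK D p q = true := by
  simp only [List.mem_cons, List.not_mem_nil, or_false] at hD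
  rcases hD with rfl | rfl | rfl | rfl | rfl | rfl | rfl
  exacts [fun q h => ⟨_, smallOK_G2 q h⟩, fun q h => ⟨_, smallOK_B2 q h⟩,
    fun q h => ⟨_, smallOK_of_twoOK (twoOK_D4 q h)⟩, fun q h => ⟨_, smallOK_of_twoOK (twoOK_F4 q h)⟩,
    fun q h => ⟨_, smallOK_of_twoOK (twoOK_E6 q h)⟩, fun q h => ⟨_, smallOK_of_twoOK (twoOK_E7 q h)⟩,
    fun q h => ⟨_, smallOK_of_twoOK (twoOK_E8 q h)⟩]

theorem twoOK_of_mem {D : ChevalleyDatum}
    (hD : D ∈ [chevG2, chevB2, chevD4, chevF4, chevE6, chevE7, chevE8]) (h1 : D ≠ chevG2) (h2 : D ≠ chevB2) :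
    ∀ q < D.nroots, ∃ p, TwoOK D p q = true := by
  simp only [List.mem_cons, List.not_mem_nil, or_false] at hD
  rcases hD with rfl | rfl | rfl | rfl | rfl | rfl | rfl
  exacts [absurd rfl h1, absurd rfl h2,
    fun q h => ⟨_, twoOK_D4 q h⟩, fun q h => ⟨_, twoOK_F4 q h⟩,
    fun q h => ⟨_, twoOK_E6 q h⟩, fun q h => ⟨_, twoOK_E7 q h⟩, fun q h => ⟨_, twoOK_E8 q h⟩]

theorem conn_of_mem {D : ChevalleyDatum}
    (hD : D ∈ [chevG2, chevB2, chevD4, chevF4, chevE6, chevE7, chevE8]) :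
    0 < D.rank ∧ ∃ ord, ConnOK D ord := by
  simp only [List.mem_cons, List.not_mem_nil, or_false] at hD
  rcases hD with rfl | rfl | rfl | rfl | rfl | rfl | rfl
  exacts [⟨by decide, _, connG2⟩, ⟨by decide, _, connB2⟩, ⟨by decide, _, connD4⟩, ⟨by decide, _, connF4⟩,
    ⟨by decide, _, connE6⟩, ⟨by decide, _, connE7⟩, ⟨by decide, _, connE8⟩]

end Cfsg.Agent.ChevBN
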