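import Cfsg.Agent.Lib.ChevBN.Facts

/-!
# Standard parabolic subgroups

* `parabolic_eq` : `P_J = ⟨H, X_r : r ∈ Φ⁺ ∪ Φ_J⟩`;
* `levi_decomposition` : `U_J ⊴ P_J = U_J L_J`, `U_J ∩ L_J = 1`;
* `normalizer_radical` : `N_G(U_J) = P_J`.
-/

set_option autoImplicit false

namespace Cfsg.Agent.ChevBN

open Cfsg.Lie Cfsg.Lie.ChevalleyDatum Cfsg.Agent.Chev Cfsg.Agent.ChevSt

variable {D : ChevalleyDatum} {M : List (List ℤ)} {d : ℤ} (hD : Good D) (hR : Roots D M d)

/-- The sum of the coefficients outside `J`. -/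
noncomputable def outside (D : ChevalleyDatum) (M : List (List ℤ)) (J : Set ℕ) (q : ℕ) : ℤ :=
  open scoped Classical in ((List.range D.rank).map fun k => (if k ∈ J then 0 else 1) * co D M k q).sum

include hD

theorem isLin_outside (J : Set ℕ) : IsLin D (outside D M J) :=
  isLin_sum _ fun k _ => (isLin_co hD M k).smul _

include hR

theorem inRootSub_iff {J : Set ℕ} {q : ℕ} (hq : q < D.nroots) :
    D.InRootSub J q ↔ ∀ k < D.rank, k ∉ J → co D M k q = 0 :=
  ⟨fun h k hk hkJ => (hR.coroot0 q hq k hk).2 (h.2 k hk hkJ),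
    fun h => ⟨hq, fun k hk hkJ => (hR.coroot0 q hq k hk).1 (h k hk hkJ)⟩⟩

theorem inRootSub_neg {J : Set ℕ} {q : ℕ} (h : D.InRootSub J q) : D.InRootSub J (D.neg q) := by
  rw [inRootSub_iff hD hR (hD.neg_lt q h.1)]
  intro k hk hkJ
  rw [hR.co_neg hD h.1, (inRootSub_iff hD hR h.1).1 h k hk hkJ, neg_zero]

theorem inRootSub_simple {J : Set ℕ} {j : ℕ} (hj : j < D.rank) :
    D.InRootSub J (D.simple j) ↔ j ∈ J := by
  rw [inRootSub_iff hD hR (hD.simple_lt j hj)]
  refine ⟨fun h => ?_, fun h k hk hkJ => ?_⟩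
  · by_contra hn
    have := h j hj hn
    rw [hR.dual j hj j hj, if_pos rfl] at this
    exact hR.d_pos.ne this.symm
  · rw [hR.dual k hk j hj, if_neg fun e : k = j => hkJ (e ▸ h)]

theorem outside_eq_zero {J : Set ℕ} {q : ℕ} (h : D.InRootSub J q) : outside D M J q = 0 := by
  refine List.sum_eq_zero fun x hx => ?_
  obtain ⟨k, hk, rfl⟩ := List.mem_map.1 hx
  by_cases hkJ : k ∈ J
  · simp [hkJ]
  · simp [hkJ, (inRootSub_iff hD hR h.1).1 h k (List.mem_range.1 hk) hkJ]

theorem outside_pos {J : Set ℕ} {q : ℕ} (hp : D.IsPosRoot q) (h : ¬ D.InRootSub J q) :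
    0 < outside D M J q := by
  rw [inRootSub_iff hD hR hp.1] at h
  push Not at h
  obtain ⟨k, hk, hkJ, hne⟩ := h
  have h1 := (hR.sgn q hp.1).1 hp
  have hnn : ∀ x ∈ ((List.range D.rank).map fun a => (open scoped Classical in if a ∈ J then (0 : ℤ) else 1) * co D M a q),
      0 ≤ x := by
    intro x hx
    obtain ⟨a, ha, rfl⟩ := List.mem_map.1 hx
    exact mul_nonneg (by split <;> decide) (h1 a (List.mem_range.1 ha))
  refine lt_of_lt_of_le (lt_of_le_of_ne (h1 k hk) hne.symm) (List.single_le_sum hnn _ ?_)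
  exact List.mem_map.2 ⟨k, List.mem_range.2 hk, by simp [hkJ]⟩

/-- Induction over the positive roots of `Φ_J`. -/
theorem rootSub_induction {J : Set ℕ} {P : ℕ → Prop} (hs : ∀ i < D.rank, i ∈ J → P (D.simple i))
    (hw : ∀ i < D.rank, i ∈ J → ∀ q < D.nroots, P q → P (wN D i q)) {q : ℕ}
    (hp : D.IsPosRoot q) (hJ : D.InRootSub J q) : P q := by
  induction hn : (ht D M q).toNat using Nat.strong_induction_on generalizing q with
  | _ m ih =>
    by_cases h : ∃ i < D.rank, q = D.simple i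
    · obtain ⟨i, hi, rfl⟩ := h
      exact hs i hi ((inRootSub_simple hD hR hi).1 hJ)
    push Not at h
    obtain ⟨i, hi, hc⟩ := hR.descend q hp.1 hp h
    have hwlt : wN D i q < D.nroots := refl_lt hD (hD.simple_lt i hi) hp.1
    have hwp := hR.pos_refl hD hi hp.1 hp (h i hi)
    have hiJ : i ∈ J := by
      by_contra hiJ
      have h1 := (hR.sgn _ hwlt).1 hwp i hi
      rw [hR.co_refl hD hi hp.1 hi, if_pos rfl, (inRootSub_iff hD hR hp.1).1 hJ i hi hiJ] at h1
      have := mul_pos hc hR.d_pos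
      omega
    have hwJ : D.InRootSub J (wN D i q) := by
      rw [inRootSub_iff hD hR hwlt]
      intro k hk hkJ
      rw [hR.co_refl hD hi hp.1 hk, if_neg fun e : k = i => hkJ (e ▸ hiJ),
        (inRootSub_iff hD hR hp.1).1 hJ k hk hkJ, sub_zero]
    have h0 := hR.ht_pos _ hwlt hwp
    have hlt := hR.ht_refl hD hi hp.1
    have := mul_pos hc hR.d_pos
    have := hw i hi hiJ _ hwlt (ih (ht D M (wN D i q)).toNat (by omega) hwp hwJ rfl)
    rwa [wN, wN, refl_refl hD (hD.simple_lt i hi) hp.1] at this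

variable {F : Type*} [Field F] (J : Set ℕ)

omit hR in
theorem hg_mem_borel {r : ℕ} {t : F} (hr : r < D.nroots) (ht' : t ≠ 0) :
    hg hD F r t ∈ D.diagonalSubgroup F :=
  Subgroup.subset_closure ⟨r, t, hr, ht', coe_hg hD r t⟩

theorem parabolic_eq :
    D.parabolicSubgroup F J = D.diagonalSubgroup F ⊔
      Subgroup.closure {g : GL D.Idx F | ∃ (r : ℕ) (t : F), (D.IsPosRoot r ∨ D.InRootSub J r) ∧
        (g : Matrix D.Idx D.Idx F) = D.x F r t} := by
  set S := {g : GL D.Idx F | ∃ (r : ℕ) (t : F), (D.IsPosRoot r ∨ D.InRootSub J r) ∧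
        (g : Matrix D.Idx D.Idx F) = D.x F r t}
  have hxS : ∀ r t, (D.IsPosRoot r ∨ D.InRootSub J r) →
      xg hD F r t ∈ D.diagonalSubgroup F ⊔ Subgroup.closure S :=
    fun r t h => Subgroup.mem_sup_right (Subgroup.subset_closure ⟨r, t, h, coe_xg hD r t⟩)
  refine le_antisymm (sup_le (sup_le ((Subgroup.closure_le _).2 ?_) le_sup_left)
    ((Subgroup.closure_le _).2 ?_)) (sup_le (le_trans le_sup_right le_sup_left) ((Subgroup.closure_le _).2 ?_))
  · rintro g ⟨r, t, hr, e⟩
    exact Subgroup.mem_sup_right (Subgroup.subset_closure ⟨r, t, Or.inl hr, e⟩)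
  · rintro g ⟨j, hjJ, hj, e⟩
    obtain rfl : g = ng hD F (D.simple j) 1 := Units.ext (e.trans (coe_ng hD _ _).symm)
    have hjs := (inRootSub_simple hD hR hj).2 hjJ
    exact mul_mem (mul_mem (hxS _ _ (Or.inr hjs)) (hxS _ _ (Or.inr (inRootSub_neg hD hR hjs))))
      (hxS _ _ (Or.inr hjs))
  · rintro g ⟨r, t, hr, e⟩
    obtain rfl : g = xg hD F r t := Units.ext e
    have hpos : ∀ q, D.IsPosRoot q → ∀ u, xg hD F q u ∈ D.parabolicSubgroup F J := fun q hq u =>
      Subgroup.mem_sup_left (Subgroup.mem_sup_left (Subgroup.subset_closure ⟨q, u, hq, coe_xg hD q u⟩))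
    rcases hr with hr | hr
    · exact hpos r hr t
    by_cases hp : D.IsPosRoot r
    · exact hpos r hp t
    -- `-r` is a positive root of `Φ_J`
    have hn : ∀ j < D.rank, j ∈ J → ng hD F (D.simple j) 1 ∈ D.parabolicSubgroup F J := fun j hj hjJ =>
      Subgroup.mem_sup_right (Subgroup.subset_closure ⟨j, hjJ, hj, coe_ng hD _ _⟩)
    have key : ∀ q, D.IsPosRoot q → D.InRootSub J q →
        ∀ u, xg hD F (D.neg q) u ∈ D.parabolicSubgroup F J := by
      intro q hq hqJ
      refine rootSub_induction hD hR (P := fun q => ∀ u, xg hD F (D.neg q) u ∈ D.parabolicSubgroup F J)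
        ?_ ?_ hq hqJ
      · intro i hi hiJ u
        have hw : wN D i (D.simple i) = D.neg (D.simple i) := by simp [wN, Chev.refl]
        obtain ⟨h1, h2⟩ := nSign_cases hD (hD.simple_lt i hi) (hD.simple_lt i hi)
        have hne : (nSign D (D.simple i) (D.simple i) : F) ≠ 0 := by
          rcases h1 with h | h <;> simp [h]
        have h3 := mul_mem (mul_mem (hn i hi hiJ)
          (hpos _ (hR.pos_simple hD hi) ((nSign D (D.simple i) (D.simple i) : F)⁻¹ * u)))
          (inv_mem (hn i hi hiJ))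
        rwa [ng_conj_xg hD hi (hD.simple_lt i hi), ← mul_assoc, mul_inv_cancel₀ hne, one_mul, hw] at h3
      · intro i hi hiJ p hp ih u
        have hne : (nSign D (D.simple i) (D.neg p) : F) ≠ 0 := by
          rcases (nSign_cases hD (hD.simple_lt i hi) (hD.neg_lt p hp)).1 with h | h <;> simp [h]
        have h3 := mul_mem (mul_mem (hn i hi hiJ) (ih ((nSign D (D.simple i) (D.neg p) : F)⁻¹ * u)))
          (inv_mem (hn i hi hiJ))
        rwa [ng_conj_xg hD hi (hD.neg_lt p hp), ← mul_assoc, mul_inv_cancel₀ hne, one_mul,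
          hR.refl_neg hD hi hp] at h3
    have := key _ ((pos_or_neg hD hr.1).2 hp) (inRootSub_neg hD hR hr) t
    rwa [hD.neg_neg r hr.1] at this

/-- Root elements of `P_J` move the generators of `U_J` into `U_J`. -/
theorem conj_radical {r s : ℕ} (hr : D.IsPosRoot r ∨ D.InRootSub J r) (hs : D.IsPosRoot s)
    (hsJ : ¬ D.InRootSub J s) (t u : F) :
    xg hD F r t * xg hD F s u * (xg hD F r t)⁻¹ ∈ D.unipotentRadical F J := by
  have hmem : ∀ q, D.IsPosRoot q → ¬ D.InRootSub J q → ∀ v, xg hD F q v ∈ D.unipotentRadical F J :=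
    fun q h1 h2 v => Subgroup.subset_closure ⟨q, v, h1, h2, coe_xg hD q v⟩
  have hrlt : r < D.nroots := hr.elim (fun h => h.1) fun h => h.1
  by_cases h1 : s = r
  · subst h1
    rw [xg_inv, xg_add hD hs.1, xg_add hD hs.1]
    exact hmem _ hs hsJ _
  have h2 : s ≠ D.neg r := by
    rintro rfl
    rcases hr with hr | hr
    · exact (pos_or_neg hD hrlt).1 hs hr
    · exact hsJ (inRootSub_neg hD hR hr)
  set w : List (GL D.Idx F) := (D.commWord F r s (-t) u).map fun p => xg hD F p.1 p.2 with hw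
  have hc : xg hD F s u * xg hD F r (-t) = xg hD F r (-t) * xg hD F s u * w.prod := by
    apply Units.ext
    rw [Units.val_mul, Units.val_mul, Units.val_mul, coe_xg, coe_xg, hD.commutator hrlt hs.1 h1 h2,
      ← Units.coeHom_apply w.prod, map_list_prod, hw, List.map_map]
    rfl
  have e : xg hD F r t * xg hD F s u * (xg hD F r t)⁻¹ = xg hD F s u * w.prod := by
    rw [xg_inv, mul_assoc, hc, ← mul_assoc, ← mul_assoc, xg_add hD hrlt, add_neg_cancel, xg_zero, one_mul]
  rw [e]
  refine mul_mem (hmem s hs hsJ u) (list_prod_mem fun g hg' => ?_)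
  simp only [hw, ChevalleyDatum.commWord, List.map_map, List.mem_map, Function.comp_apply] at hg'
  obtain ⟨τ, hτ, rfl⟩ := hg'
  obtain ⟨k, hk, hkJ, hks⟩ : ∃ k < D.rank, k ∉ J ∧ co D M k s ≠ 0 := by
    by_contra h
    push Not at h
    exact hsJ ((inRootSub_iff hD hR hs.1).2 h)
  obtain ⟨hlt, -, hj, hval⟩ := (isLin_co hD M k).commTerms hD hrlt hs.1 h1 h2 hτ
  have hkr : 0 ≤ co D M k r :=
    hr.elim (fun h => (hR.sgn r hrlt).1 h k hk) fun h => ((inRootSub_iff hD hR hrlt).1 h k hk hkJ).ge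
  have hks' : 0 < co D M k s := lt_of_le_of_ne ((hR.sgn s hs.1).1 hs k hk) hks.symm
  have hτk : 0 < co D M k τ.1 := by
    rw [hval]
    exact add_pos_of_nonneg_of_pos (mul_nonneg (Int.natCast_nonneg _) hkr)
      (Int.mul_pos (by exact_mod_cast hj) hks')
  refine hmem τ.1 ?_ (fun h => ?_) _
  · by_contra hneg
    have := hR.nonpos_of_not_pos hD hlt hneg hk
    omega
  · have := (inRootSub_iff hD hR hlt).1 h k hk hkJ
    omega

theorem parabolic_le_normalizer :
    D.parabolicSubgroup F J ≤ Subgroup.normalizer (D.unipotentRadical F J : Set (GL D.Idx F)) := by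
  have key : ∀ g : GL D.Idx F,
      (∀ s, D.IsPosRoot s → ¬ D.InRootSub J s → ∀ u, g * xg hD F s u * g⁻¹ ∈ D.unipotentRadical F J) →
      ∀ y ∈ D.unipotentRadical F J, g * y * g⁻¹ ∈ D.unipotentRadical F J := by
    intro g h y hy
    have : D.unipotentRadical F J ≤
        (D.unipotentRadical F J).comap (MulAut.conj g).toMonoidHom := by
      refine (Subgroup.closure_le _).2 ?_
      rintro x ⟨s, u, hs, hsJ, e⟩
      obtain rfl : x = xg hD F s u := Units.ext e
      exact h s hs hsJ u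
    exact this hy
  have two : ∀ g : GL D.Idx F, (∀ y ∈ D.unipotentRadical F J, g * y * g⁻¹ ∈ D.unipotentRadical F J) →
      (∀ y ∈ D.unipotentRadical F J, g⁻¹ * y * g⁻¹⁻¹ ∈ D.unipotentRadical F J) →
      g ∈ Subgroup.normalizer (D.unipotentRadical F J : Set (GL D.Idx F)) := by
    intro g h1 h2
    rw [Subgroup.mem_normalizer_iff]
    intro y
    refine ⟨h1 y, fun h => ?_⟩
    have := h2 _ h
    simpa [mul_assoc] using this
  rw [parabolic_eq hD hR]
  refine sup_le (fun g hg' => ?_) ((Subgroup.closure_le _).2 ?_)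
  · have hstep : ∀ g ∈ D.diagonalSubgroup F, ∀ y ∈ D.unipotentRadical F J,
        g * y * g⁻¹ ∈ D.unipotentRadical F J := fun g hg' => key g fun s hs hsJ u => by
      obtain ⟨v, e⟩ := (mem_rootSubgroup hD s).1
        (toral_conj_rootSubgroup hD hg' (xg_mem_rootSubgroup hD s u))
      rw [e]
      exact Subgroup.subset_closure ⟨s, v, hs, hsJ, coe_xg hD s v⟩
    exact two g (hstep g hg') (hstep _ (inv_mem hg'))
  · rintro g ⟨r, t, hr, e⟩
    obtain rfl : g = xg hD F r t := Units.ext e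
    refine two _ (key _ fun s hs hsJ u => conj_radical hD hR J hr hs hsJ t u) ?_
    rw [xg_inv]
    exact key _ fun s hs hsJ u => conj_radical hD hR J hr hs hsJ (-t) u

theorem radical_sup_levi : D.unipotentRadical F J ⊔ D.leviSubgroup F J = D.parabolicSubgroup F J := by
  rw [parabolic_eq hD hR]
  refine le_antisymm (sup_le ((Subgroup.closure_le _).2 ?_) (sup_le le_sup_left ((Subgroup.closure_le _).2 ?_)))
    (sup_le (le_trans le_sup_left le_sup_right) ((Subgroup.closure_le _).2 ?_))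
  · rintro g ⟨r, t, hr, -, e⟩
    exact Subgroup.mem_sup_right (Subgroup.subset_closure ⟨r, t, Or.inl hr, e⟩)
  · rintro g ⟨r, t, hr, e⟩
    exact Subgroup.mem_sup_right (Subgroup.subset_closure ⟨r, t, Or.inr hr, e⟩)
  · rintro g ⟨r, t, hr, e⟩
    by_cases hrJ : D.InRootSub J r
    · exact Subgroup.mem_sup_right (Subgroup.mem_sup_right (Subgroup.subset_closure ⟨r, t, hrJ, e⟩))
    · exact Subgroup.mem_sup_left
        (Subgroup.subset_closure ⟨r, t, hr.resolve_right hrJ, hrJ, e⟩)

/-- Homogeneous with respect to `f`. -/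
def Homog (D : ChevalleyDatum) (f : ℕ → ℤ) (A : Matrix D.Idx D.Idx F) : Prop :=
  ∀ a b, A a b ≠ 0 → wt D f a = wt D f b

theorem homog_x {f : ℕ → ℤ} (hf : IsLin D f) {r : ℕ} (hr : r < D.nroots) (hfr : f r = 0) (t : F) :
    Homog D f (D.x F r t) := by
  set S : ℤ := ∑ q : Fin D.nroots, ((ht D M q.val).natAbs : ℤ) with hS
  have hS0 : 0 ≤ S := Finset.sum_nonneg fun _ _ => Int.natCast_nonneg _
  have hb : ∀ c : D.Idx, -S ≤ wt D (ht D M) c ∧ wt D (ht D M) c ≤ S := by
    intro c
    rcases c with i | q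
    · exact ⟨by simp [wt, hS0], hS0⟩
    · have h1 : ((ht D M q.val).natAbs : ℤ) ≤ S :=
        Finset.single_le_sum (f := fun q : Fin D.nroots => ((ht D M q.val).natAbs : ℤ))
          (fun _ _ => Int.natCast_nonneg _) (Finset.mem_univ q)
      show -S ≤ ht D M q.val ∧ ht D M q.val ≤ S
      omega
  obtain ⟨e, he, her⟩ : ∃ e : ℤ, (e = 1 ∨ e = -1) ∧ 0 < e * ht D M r := by
    by_cases hp : D.IsPosRoot r
    · exact ⟨1, Or.inl rfl, by rw [one_mul]; exact hR.ht_pos r hr hp⟩
    · refine ⟨-1, Or.inr rfl, ?_⟩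
      have := hR.ht_pos _ (hD.neg_lt r hr) ((pos_or_neg hD hr).2 hp)
      rw [(isLin_ht hD M).neg r hr] at this
      omega
  intro a b hab
  have tri : ∀ c : ℤ, a = b ∨ c * wt D f b + e * wt D (ht D M) b < c * wt D f a + e * wt D (ht D M) a := by
    intro c
    have h := (uTri_x hD (F := F) (f := fun q => c * f q + e * ht D M q)
      ((hf.smul c).addFun ((isLin_ht hD M).smul e)) hr (by simp only [hfr, mul_zero, zero_add]; exact her) t).1
      a b hab
    have hw : ∀ x : D.Idx, wt D (fun q => c * f q + e * ht D M q) x = c * wt D f x + e * wt D (ht D M) x := by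
      intro x; rcases x with i | q <;> simp [wt]
    rwa [hw, hw] at h
  rcases tri (2 * S + 1) with h | h
  · rw [h]
  rcases tri (-(2 * S + 1)) with h' | h'
  · rw [h']
  obtain ⟨ha1, ha2⟩ := hb a
  obtain ⟨hb1, hb2⟩ := hb b
  rcases he with rfl | rfl <;>
  · by_contra hne
    rcases lt_or_gt_of_ne hne with hl | hl <;> nlinarith

omit hD hR in
theorem Homog.mul {f : ℕ → ℤ} {A B : Matrix D.Idx D.Idx F} (hA : Homog D f A) (hB : Homog D f B) :
    Homog D f (A * B) := by
  intro a b h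
  rw [Matrix.mul_apply] at h
  obtain ⟨c, -, hc⟩ := Finset.exists_ne_zero_of_sum_ne_zero h
  exact (hA a c (left_ne_zero_of_mul hc)).trans (hB c b (right_ne_zero_of_mul hc))

theorem homog_levi {g : GL D.Idx F} (hg' : g ∈ D.leviSubgroup F J) :
    Homog D (outside D M J) (g : Matrix D.Idx D.Idx F) := by
  suffices Homog D (outside D M J) (g : Matrix D.Idx D.Idx F) ∧
      Homog D (outside D M J) ((g⁻¹ : GL D.Idx F) : Matrix D.Idx D.Idx F) from this.1
  rw [ChevalleyDatum.leviSubgroup, Subgroup.sup_eq_closure] at hg'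
  have hdg : ∀ x ∈ D.diagonalSubgroup F, Homog D (outside D M J) (x : Matrix D.Idx D.Idx F) := by
    intro x hx a b h
    obtain ⟨χ, hχ, -⟩ := isToral_of_mem hD hx
    rw [hχ] at h
    by_cases hab : a = b
    · rw [hab]
    · exact absurd (Matrix.diagonal_apply_ne _ hab) h
  induction hg' using Subgroup.closure_induction with
  | mem x hx =>
    rcases hx with hx | hx
    · exact ⟨hdg x hx, hdg _ (inv_mem hx)⟩
    · induction hx using Subgroup.closure_induction with
      | mem y hy =>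
        obtain ⟨r, t, hr, e⟩ := hy
        obtain rfl : y = xg hD F r t := Units.ext e
        rw [xg_inv]
        exact ⟨homog_x hD hR (isLin_outside hD J) hr.1 (outside_eq_zero hD hR hr) t,
          homog_x hD hR (isLin_outside hD J) hr.1 (outside_eq_zero hD hR hr) (-t)⟩
      | one =>
        refine ⟨fun a b h => ?_, fun a b h => ?_⟩ <;>
          (by_cases hab : a = b <;> [rw [hab]; simp [hab] at h])
      | mul a b _ _ ha hb =>
        rw [_root_.mul_inv_rev, Units.val_mul, Units.val_mul]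
        exact ⟨ha.1.mul hb.1, hb.2.mul ha.2⟩
      | inv a _ ha => exact ⟨ha.2, by rw [inv_inv]; exact ha.1⟩
  | one =>
    refine ⟨fun a b h => ?_, fun a b h => ?_⟩ <;>
      (by_cases hab : a = b <;> [rw [hab]; simp [hab] at h])
  | mul a b _ _ ha hb =>
    rw [_root_.mul_inv_rev, Units.val_mul, Units.val_mul]
    exact ⟨ha.1.mul hb.1, hb.2.mul ha.2⟩
  | inv a _ ha => exact ⟨ha.2, by rw [inv_inv]; exact ha.1⟩

theorem radical_inf_levi : D.unipotentRadical F J ⊓ D.leviSubgroup F J = ⊥ := by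
  rw [eq_bot_iff]
  rintro g ⟨hgU, hgL⟩
  have h1 : UTri D (outside D M J) (g : Matrix D.Idx D.Idx F) := by
    refine uTri_closure hD (isLin_outside hD J) (Subgroup.closure_mono ?_ hgU)
    rintro x ⟨r, t, hr, hrJ, e⟩
    exact ⟨r, t, hr.1, outside_pos hD hR hr hrJ, e⟩
  have h2 := homog_levi hD hR J hgL
  rw [Subgroup.mem_bot]
  apply Units.ext
  ext a b
  by_cases hab : a = b
  · subst hab; rw [h1.2]; simp
  · rw [Units.val_one, Matrix.one_apply_ne hab]
    by_contra h
    rcases h1.1 a b h with e | e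
    · exact hab e
    · exact e.ne (h2 a b h).symm

theorem levi_decomposition :
    D.parabolicSubgroup F J ≤ Subgroup.normalizer (D.unipotentRadical F J : Set (GL D.Idx F)) ∧
      D.unipotentRadical F J ⊔ D.leviSubgroup F J = D.parabolicSubgroup F J ∧
      D.unipotentRadical F J ⊓ D.leviSubgroup F J = ⊥ :=
  ⟨parabolic_le_normalizer hD hR J, radical_sup_levi hD hR J, radical_inf_levi hD hR J⟩

theorem parabolic_le_group : D.parabolicSubgroup F J ≤ D.group F := by
  refine sup_le (borel_le_group hD hR) ((Subgroup.closure_le _).2 ?_)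
  rintro g ⟨j, -, -, e⟩
  obtain rfl : g = ng hD F (D.simple j) 1 := Units.ext (e.trans (coe_ng hD _ _).symm)
  exact mul_mem (mul_mem (xg_mem_group hD _ _) (xg_mem_group hD _ _)) (xg_mem_group hD _ _)

theorem normalizer_radical :
    Subgroup.normalizer (D.unipotentRadical F J : Set (GL D.Idx F)) ⊓ D.group F =
      D.parabolicSubgroup F J := by
  refine le_antisymm ?_ (le_inf (parabolic_le_normalizer hD hR J) (parabolic_le_group hD hR J))
  obtain ⟨P, hB, -, hS⟩ := exists_bnPair hD hR (F := F)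
  set N₀ := (Subgroup.normalizer (D.unipotentRadical F J : Set (GL D.Idx F))).subgroupOf (D.group F)
  have hBN : P.B ≤ N₀ := by
    rw [hB]
    intro x hx
    exact parabolic_le_normalizer hD hR J (Subgroup.mem_sup_left hx)
  rintro g ⟨hgN, hgG⟩
  have hg0 : (⟨g, hgG⟩ : D.group F) ∈ N₀ := hgN
  rw [BN.eq_parabolic_of_le P hBN] at hg0
  have hle : (P.parabolic (P.S ∩ N₀)).map (D.group F).subtype ≤ D.parabolicSubgroup F J := by
    rw [Cfsg.BNPair.parabolic, Subgroup.map_sup, MonoidHom.map_closure]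
    refine sup_le ?_ ((Subgroup.closure_le _).2 ?_)
    · rw [hB]
      rintro _ ⟨x, hx, rfl⟩
      exact Subgroup.mem_sup_left hx
    · rintro _ ⟨x, ⟨hxS, hxN⟩, rfl⟩
      rw [hS] at hxS
      obtain ⟨j, hj, e⟩ := hxS
      obtain he : (x : GL D.Idx F) = ng hD F (D.simple j) 1 := Units.ext (e.trans (coe_ng hD _ _).symm)
      refine Subgroup.mem_sup_right (Subgroup.subset_closure ⟨j, ?_, hj, e⟩)
      by_contra hjJ
      let R := chevRGD hD hR F
      have hxU : xg hD F (D.simple j) 1 ∈ D.unipotentRadical F J :=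
        Subgroup.subset_closure ⟨_, 1, hR.pos_simple hD hj,
          fun h => hjJ ((inRootSub_simple hD hR hj).1 h), coe_xg hD _ _⟩
      have h1 := ((Subgroup.mem_normalizer_iff.1 (show (x : GL D.Idx F) ∈ _ from hxN)) _).1 hxU
      rw [he, ng_conj_xg hD hj (hD.simple_lt j hj)] at h1
      have hw : wN D j (D.simple j) = D.neg (D.simple j) := by simp [wN, Chev.refl]
      rw [hw] at h1
      have hsub : D.unipotentRadical F J ≤ D.borelSubgroup F :=
        le_trans ((Subgroup.closure_le _).2 fun y ⟨q, u, hq, _, e⟩ =>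
          (Subgroup.subset_closure ⟨q, u, hq, e⟩ : y ∈ D.posUnipotent F)) le_sup_left
      have h2 : xg hD F (D.neg (D.simple j)) ((nSign D (D.simple j) (D.simple j) : F) * 1) = 1 := by
        rw [← Subgroup.mem_bot, ← borel_inf_neg hD hR]
        refine ⟨hsub h1, Subgroup.subset_closure ⟨_, _, (isNeg_iff hD (hD.neg_lt _ (hD.simple_lt j hj))).2
          (fun h => (pos_or_neg hD (hD.simple_lt j hj)).1 h (hR.pos_simple hD hj)), coe_xg hD _ _⟩⟩
      have h3 := xg_eq_one hD (hD.neg_lt _ (hD.simple_lt j hj)) h2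
      rcases (nSign_cases hD (hD.simple_lt j hj) (hD.simple_lt j hj)).1 with h | h <;> simp [h] at h3
  exact hle ⟨_, hg0, rfl⟩

end Cfsg.Agent.ChevBN
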