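import Cfsg.Agent.Lib.ChevFixed.Basic

/-!
# Subfield subgroups of Chevalley groups over arbitrary fields

* `fixed_genBy_mem` : fixed points of a field endomorphism in a product of root groups are generated by fixed root
  elements (no finiteness);
* `centralizer_eq_one` : only the identity commutes with all `x_r(1)`;
* `fixed_decomp`, `fixed_normalizes` : fixed points of the group normalise every subgroup between the fixed root
  elements and the fixed points; `subfield_normalizer` : the statement on centralisers and normalisers.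
-/

set_option autoImplicit false

namespace Cfsg.Agent.ChevBN

open Cfsg.Lie Cfsg.Lie.ChevalleyDatum Cfsg.Agent.Chev Cfsg.Agent.ChevSt Cfsg.Agent.ChevSt.Sys Cfsg.Agent.ChevOrder
  Cfsg.Agent.ChevFixed
open scoped Matrix

variable {D : ChevalleyDatum} {F : Type*} [Field F]

/-- The lowest root element is independent of the higher ones. -/
theorem eq_zero_of_mul_genBy {E : Type*} [Group E] (S : Sys D F E) (hD : Good D) {f : ℕ → ℤ} (hf : IsLin D f)
    {T : Finset ℕ} {k : ℕ} (hkn : k < D.nroots) (hkpos : 0 < f k)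
    (hpos : ∀ q ∈ T, q < D.nroots ∧ 0 < f q) (hmin : ∀ q ∈ T, f k ≤ f q) {g' : E}
    (hg' : g' ∈ S.genBy ((T.erase k : Finset ℕ) : Set ℕ)) {t : F} (hgh : S.th (S.x k t * g') = 1) : t = 0 := by
  set T' := T.erase k with hT'
  have hn := hD.neg_lt k hkn
  set P : E → Prop := fun g =>
    ((S.th g : Matrix D.Idx D.Idx F) *ᵥ ev D F (D.neg k) - ev D F (D.neg k) ∈ above D F f (-f k)) ∧
      ∀ v ∈ above D F f (-f k), (S.th g : Matrix D.Idx D.Idx F) *ᵥ v ∈ above D F f (-f k) with hP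
  have hPall : ∀ a ∈ S.genBy (T' : Set ℕ), P a := by
    intro a ha'
    induction ha' using Subgroup.closure_induction'' with
    | one => exact ⟨by simp, fun v hv => by simpa using hv⟩
    | mem g hg =>
      obtain ⟨q, hq, u, rfl⟩ := hg
      obtain ⟨hqk, hqT⟩ := Finset.mem_erase.mp hq
      obtain ⟨hqn, hqpos⟩ := hpos q hqT
      have hge : -f q ≤ -f k := by have := hmin q hqT; omega
      refine ⟨?_, fun v hv => by rw [S.th_x]; exact x_above hD hf hqn hqpos hge u hv⟩
      have h₁ : D.neg k ≠ q := by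
        intro h
        rw [← h, hf.neg k hkn] at hqpos
        omega
      have h₂ : D.neg k ≠ D.neg q := fun h => hqk (by rw [← hD.neg_neg q hqn, ← h, hD.neg_neg k hkn])
      rw [S.th_x, x_eq_xR D hqn, xR_gen D q u (hD.keys q hqn) hn h₁ h₂, add_sub_cancel_left]
      exact sumCol_mem_above hD hf hqn hn h₁ h₂ hqpos (by rw [hf.neg k hkn]) u
    | inv_mem g hg =>
      obtain ⟨q, hq, u, rfl⟩ := hg
      rw [← S.x_neg]
      obtain ⟨hqk, hqT⟩ := Finset.mem_erase.mp hq
      obtain ⟨hqn, hqpos⟩ := hpos q hqT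
      have hge : -f q ≤ -f k := by have := hmin q hqT; omega
      refine ⟨?_, fun v hv => by rw [S.th_x]; exact x_above hD hf hqn hqpos hge _ hv⟩
      have h₁ : D.neg k ≠ q := by
        intro h
        rw [← h, hf.neg k hkn] at hqpos
        omega
      have h₂ : D.neg k ≠ D.neg q := fun h => hqk (by rw [← hD.neg_neg q hqn, ← h, hD.neg_neg k hkn])
      rw [S.th_x, x_eq_xR D hqn, xR_gen D q (-u) (hD.keys q hqn) hn h₁ h₂, add_sub_cancel_left]
      exact sumCol_mem_above hD hf hqn hn h₁ h₂ hqpos (by rw [hf.neg k hkn]) _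
    | mul a b _ _ ha hb =>
      refine ⟨?_, fun v hv => by
        rw [map_mul, Units.val_mul, ← Matrix.mulVec_mulVec]; exact ha.2 _ (hb.2 v hv)⟩
      rw [map_mul, Units.val_mul, ← Matrix.mulVec_mulVec]
      have h := add_mem (ha.2 _ hb.1) ha.1
      rwa [Matrix.mulVec_sub, sub_add_sub_cancel] at h
  have hPg : P g' := hPall g' hg'
  obtain ⟨w, hw, hw'⟩ : ∃ w ∈ above D F f (-f k),
      (S.th g' : Matrix D.Idx D.Idx F) *ᵥ ev D F (D.neg k) = ev D F (D.neg k) + w :=
    ⟨_, hPg.1, (add_sub_cancel _ _).symm⟩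
  have heq : D.x F k t *ᵥ (ev D F (D.neg k) + w) = ev D F (D.neg k) := by
    have h := congrArg (fun M : GL D.Idx F => (M : Matrix D.Idx D.Idx F) *ᵥ ev D F (D.neg k)) hgh
    simpa [map_mul, S.th_x, ← Matrix.mulVec_mulVec, hw'] using h
  have ht : t = 0 := by
    rw [Matrix.mulVec_add] at heq
    have hx := above_inl (x_above hD hf hkn hkpos le_rfl t hw)
    rw [x_eq_xR D hkn, xR_neg D k t hn (hD.neg_ne k hkn)] at heq
    rw [x_eq_xR D hkn] at hx
    have hcz : ∀ i : Fin D.rank, t * (((D.coroot.getD k #[]).getD i.val 0 : ℤ) : F) = 0 := by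
      intro i
      have h := congrFun heq (Sum.inl i)
      simpa [ev, hv, hx i] using h
    obtain ⟨c, hc⟩ := hD.coroot_prim k hkn
    have hc' := congrArg (fun z : ℤ => (z : F)) hc
    simp only [Int.cast_sum, Int.cast_mul, Int.cast_one] at hc'
    calc t = t * 1 := (mul_one t).symm
      _ = ∑ i, (c i : F) * (t * (((D.coroot.getD k #[]).getD i.val 0 : ℤ) : F)) := by
        rw [← hc', Finset.mul_sum]; exact Finset.sum_congr rfl fun i _ => by ring
      _ = 0 := Finset.sum_eq_zero fun i _ => by rw [hcz i, mul_zero]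
  exact ht

variable (hD : Good D) (σ : F →+* F)
include hD

/-- The subgroup generated by the root elements with fixed argument. -/
def fixedGen : Subgroup (GL D.Idx F) :=
  Subgroup.closure {g | ∃ r t, σ t = t ∧ g = xg hD F r t}

theorem xg_mem_fixedGen (r : ℕ) {t : F} (ht : σ t = t) : xg hD F r t ∈ fixedGen hD σ :=
  Subgroup.subset_closure ⟨r, t, ht, rfl⟩

theorem ng_mem_fixedGen (r : ℕ) : ng hD F r 1 ∈ fixedGen hD σ :=
  mul_mem (mul_mem (xg_mem_fixedGen hD σ r (map_one σ))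
    (xg_mem_fixedGen hD σ _ (by simp [map_neg, map_inv₀]))) (xg_mem_fixedGen hD σ r (map_one σ))

/-- The fixed points of a product of root groups. -/
theorem fixed_genBy_mem {f : ℕ → ℤ} (hf : IsLin D f) :
    ∀ (m : ℕ) (T : Finset ℕ), T.card = m → (∀ q ∈ T, q < D.nroots ∧ 0 < f q) →
      (∀ r ∈ T, ∀ s ∈ T, s ≠ r → ∀ τ ∈ D.commTerms r s, τ.1 ∈ T) →
      ∀ g ∈ (matSys D hD F).genBy (T : Set ℕ), mapG D σ g = g → g ∈ fixedGen hD σ := by
  intro m
  induction m with
  | zero =>
    intro T hT _ _ g hg _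
    rw [Finset.card_eq_zero] at hT
    subst hT
    have : g = 1 := by simpa [Sys.genBy] using hg
    rw [this]
    exact one_mem _
  | succ m ih =>
    intro T hT hpos hclosed g hg hfg
    obtain ⟨k, hk, hmin⟩ := T.exists_min_image f (Finset.card_pos.mp (by omega))
    set T' := T.erase k with hT'
    obtain ⟨hkn, hkpos⟩ := hpos k hk
    let S := matSys D hD F
    have hgt : ∀ r ∈ T, ∀ s ∈ T, s ≠ r → ∀ τ ∈ D.commTerms r s, τ.1 ∈ T' := by
      intro r hr s hs hne τ hτ
      refine Finset.mem_erase.mpr ⟨?_, hclosed r hr s hs hne τ hτ⟩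
      intro hτk
      have h₂ : s ≠ D.neg r := by
        rintro rfl
        have := (hpos _ hs).2
        rw [hf.neg r (hpos r hr).1] at this
        have := (hpos r hr).2
        omega
      obtain ⟨-, h4, h5, h6⟩ := hf.commTerms hD (hpos r hr).1 (hpos s hs).1 hne h₂ hτ
      rw [hτk] at h6
      have := hmin r hr
      have := (hpos r hr).2
      have := (hpos s hs).2
      have e1 : f r ≤ (τ.2.2.1 : ℤ) * f r := le_mul_of_one_le_left (by omega) (by exact_mod_cast h4)
      have e2 : f s ≤ (τ.2.2.2 : ℤ) * f s := le_mul_of_one_le_left (by omega) (by exact_mod_cast h5)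
      omega
    have hN : ∀ t : F, S.x k t ∈ Subgroup.normalizer (S.genBy (T' : Set ℕ) : Set (GL D.Idx F)) := by
      intro t
      refine S.x_mem_normalizer_genBy hkn (fun s hs => (hpos s (Finset.mem_of_mem_erase hs)).1) (fun s hs => ?_)
        (fun s hs τ hτ => hgt k hk s (Finset.mem_of_mem_erase hs) (Finset.ne_of_mem_erase hs) τ hτ) t
      refine ⟨Finset.ne_of_mem_erase hs, ?_⟩
      rintro rfl
      have := (hpos _ (Finset.mem_of_mem_erase hs)).2
      rw [hf.neg k hkn] at this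
      omega
    obtain ⟨t, g', hg', rfl⟩ : ∃ t, ∃ g' ∈ S.genBy (T' : Set ℕ), g = S.x k t * g' := by
      clear hfg
      induction hg using Subgroup.closure_induction with
      | mem g hg =>
        obtain ⟨q, hq, u, rfl⟩ := hg
        by_cases hqk : q = k
        · subst hqk; exact ⟨u, 1, one_mem _, by rw [mul_one]⟩
        · exact ⟨0, S.x q u, S.x_mem_genBy (Finset.mem_erase.mpr ⟨hqk, hq⟩) u, by rw [S.x_zero, one_mul]⟩
      | one => exact ⟨0, 1, one_mem _, by rw [S.x_zero, one_mul]⟩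
      | mul a b _ _ ha hb =>
        obtain ⟨t, a', ha', rfl⟩ := ha
        obtain ⟨u, b', hb', rfl⟩ := hb
        refine ⟨t + u, ((S.x k u)⁻¹ * a' * S.x k u) * b',
          mul_mem ((Subgroup.mem_normalizer_iff''.mp (hN u) a').mp ha') hb', ?_⟩
        rw [S.add]; group
      | inv a _ ha =>
        obtain ⟨t, a', ha', rfl⟩ := ha
        refine ⟨-t, S.x k t * a'⁻¹ * (S.x k t)⁻¹,
          (Subgroup.mem_normalizer_iff.mp (hN t) _).mp (inv_mem ha'), ?_⟩
        rw [S.x_neg]; group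
    have hσg : mapG D σ g' ∈ S.genBy (T' : Set ℕ) := by
      have : (S.genBy (T' : Set ℕ)).map (mapG D σ) ≤ S.genBy (T' : Set ℕ) := by
        rw [Sys.genBy, MonoidHom.map_closure]
        refine (Subgroup.closure_le _).2 ?_
        rintro _ ⟨x, ⟨q, hq, u, rfl⟩, rfl⟩
        exact Subgroup.subset_closure ⟨q, hq, σ u, mapG_xg hD σ q u⟩
      exact this ⟨g', hg', rfl⟩
    have hfg' : S.x k (σ t) * mapG D σ g' = S.x k t * g' := by
      show xg hD F k (σ t) * mapG D σ g' = xg hD F k t * g'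
      rw [← mapG_xg hD, ← map_mul]
      exact hfg
    have ht : σ t + -t = 0 := by
      refine eq_zero_of_mul_genBy S hD hf hkn hkpos hpos hmin
        (g' := (S.x k t * (mapG D σ g' * g'⁻¹) * (S.x k t)⁻¹)) ?_ ?_
      · exact (Subgroup.mem_normalizer_iff.mp (hN t) _).mp (mul_mem hσg (inv_mem hg'))
      · show S.x k (σ t + -t) * (S.x k t * (mapG D σ g' * g'⁻¹) * (S.x k t)⁻¹) = 1
        rw [S.add, S.x_neg, show S.x k (σ t) * (S.x k t)⁻¹ * (S.x k t * (mapG D σ g' * g'⁻¹) * (S.x k t)⁻¹)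
          = (S.x k (σ t) * mapG D σ g') * g'⁻¹ * (S.x k t)⁻¹ by group, hfg']
        group
    have ht' : σ t = t := by linear_combination ht
    rw [ht'] at hfg'
    refine mul_mem (xg_mem_fixedGen hD σ k ht') (ih T' ?_ (fun q hq => hpos q (Finset.mem_of_mem_erase hq))
      (fun r hr s hs hne τ hτ => hgt r (Finset.mem_of_mem_erase hr) s (Finset.mem_of_mem_erase hs) hne τ hτ)
      g' hg' (mul_left_cancel hfg'))
    rw [hT', Finset.card_erase_of_mem hk, hT]
    omega

theorem fixed_pos_mem {g : GL D.Idx F} (hg : g ∈ D.posUnipotent F) (hfg : mapG D σ g = g) :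
    g ∈ fixedGen hD σ := by
  obtain ⟨o, ho⟩ := hD.order
  set A := (Finset.range D.nroots).filter fun r => D.IsPosRoot r with hA
  have hmem : ∀ r, r ∈ A ↔ r < D.nroots ∧ 0 < o r := fun r => by
    simp only [hA, Finset.mem_filter, Finset.mem_range]
    exact and_congr_right fun hr => ho.pos_iff r hr
  have hlin : IsLin D o := ⟨ho.add, ho.neg⟩
  refine fixed_genBy_mem hD σ hlin _ A rfl (fun q hq => (hmem q).1 hq) ?_ g ?_ hfg
  · intro r hr s hs hne τ hτ
    obtain ⟨hr1, hr2⟩ := (hmem r).1 hr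
    obtain ⟨hs1, hs2⟩ := (hmem s).1 hs
    have h₂ : s ≠ D.neg r := by rintro rfl; rw [hlin.neg r hr1] at hs2; omega
    obtain ⟨h3, h4, h5, h6⟩ := hlin.commTerms hD hr1 hs1 hne h₂ hτ
    exact (hmem _).2 ⟨h3, by rw [h6]; positivity⟩
  · refine Subgroup.closure_mono ?_ hg
    rintro g ⟨r, t, hr, hg⟩
    exact ⟨r, (hmem r).2 ⟨hr.1, (ho.pos_iff r hr.1).1 hr⟩, t, Units.ext hg⟩

variable {M : List (List ℤ)} {d : ℤ} (hR : Roots D M d)

omit σ in
include hR in
/-- Only the identity commutes with all `x_r(1)`. -/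
theorem centralizer_eq_one {g : GL D.Idx F} (hg : g ∈ D.group F)
    (h : ∀ r, g * xg hD F r 1 = xg hD F r 1 * g) : g = 1 := by
  let R := chevRGD hD hR F
  rw [← chev_G hD hR] at hg
  obtain ⟨b, hb, l, u, hu, e⟩ := R.exists_normalForm hg
  have hl : ∀ i, R.pos (R.ww l (R.simple i)) := by
    intro i
    by_contra hi
    set x := xg hD F (D.simple i.val) 1 with hx
    have hxU : x ∈ R.Uminus l :=
      R.U_le_span (A := {r | R.pos r ∧ ¬ R.pos (R.ww l r)}) (r := R.simple i) ⟨R.pos_simple i, hi⟩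
        (xg_mem_rootSubgroup hD _ _)
    have hxB : x ∈ R.B := R.Upos_le_B (R.Uminus_le_Upos l hxU)
    have e' : b * R.nw l * (u * x) = (x * b) * R.nw l * u := by
      rw [← mul_assoc, ← e, h (D.simple i.val), ← hx, e]
      group
    obtain ⟨h1, -⟩ := R.normalForm_unique (one_mem _) (one_mul _).symm hb (mul_mem hxB hb)
      (mul_mem hu hxU) hu e'
    exact x_one_ne_one hD (hD.simple_lt i.val i.isLt) (mul_eq_right.1 h1.symm)
  have hnH : R.nw l ∈ R.H := R.mem_H_of_pos fun r hr => by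
    obtain ⟨g', hg', e'⟩ := lin_comp hD hR F l (isLin_ht hD M)
    have h1 : 0 < g' r.val := by
      have := lin_neg hD hR (g := fun q => -1 * g' q) (hg'.smul (-1)) (fun i hi => by
        have h2 := hR.ht_pos _ (R.ww l ⟨D.simple i, hD.simple_lt i hi⟩).isLt (hl ⟨i, hi⟩)
        have h3 := e' ⟨D.simple i, hD.simple_lt i hi⟩
        change g' (D.simple i) = _ at h3
        show -1 * g' (D.simple i) < 0
        rw [h3]
        change 0 < ht D M ((chevRGD hD hR F).ww l ⟨D.simple i, hD.simple_lt i hi⟩).val at h2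
        omega) r.isLt hr
      omega
    rw [e' r] at h1
    by_contra hneg
    have h2 := hR.ht_pos _ (hD.neg_lt _ (R.ww l r).isLt) ((pos_or_neg hD (R.ww l r).isLt).2 hneg)
    rw [(isLin_ht hD M).neg _ (R.ww l r).isLt] at h2
    change 0 < ht D M (R.ww l r).val at h1
    omega
  have hgB : g ∈ R.B := by
    rw [e]
    exact mul_mem (mul_mem hb (R.H_le_B hnH)) (R.Upos_le_B (R.Uminus_le_Upos l hu))
  obtain ⟨l₀, hl₀⟩ := exists_long hD hR (F := F)
  have hn : ∀ i, g * R.n i = R.n i * g := by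
    intro i
    have hc : g ∈ Subgroup.centralizer {R.n i} := by
      refine Subgroup.mem_centralizer_singleton_iff.2 ?_
      show g * ng hD F (D.simple i.val) 1 = ng hD F (D.simple i.val) 1 * g
      have hinv : ∀ r, g * (xg hD F r 1)⁻¹ = (xg hD F r 1)⁻¹ * g := fun r => by
        calc g * (xg hD F r 1)⁻¹ = (xg hD F r 1)⁻¹ * (xg hD F r 1 * g) * (xg hD F r 1)⁻¹ := by group
          _ = _ := by rw [← h r]; group
      rw [ng, inv_one, ← xg_inv]
      calc g * (xg hD F (D.simple i.val) 1 * (xg hD F (D.neg (D.simple i.val)) 1)⁻¹ * xg hD F (D.simple i.val) 1)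
          = (g * xg hD F (D.simple i.val) 1) * (xg hD F (D.neg (D.simple i.val)) 1)⁻¹ *
              xg hD F (D.simple i.val) 1 := by group
        _ = xg hD F (D.simple i.val) 1 * (g * (xg hD F (D.neg (D.simple i.val)) 1)⁻¹) *
              xg hD F (D.simple i.val) 1 := by rw [h]; group
        _ = xg hD F (D.simple i.val) 1 * (xg hD F (D.neg (D.simple i.val)) 1)⁻¹ *
              (g * xg hD F (D.simple i.val) 1) := by rw [hinv]; group
        _ = _ := by rw [h]; group
    exact Subgroup.mem_centralizer_singleton_iff.1 hc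
  have hnw : R.nw l₀ * g * (R.nw l₀)⁻¹ = g := by
    have : ∀ l : List (Fin D.rank), g * R.nw l = R.nw l * g := by
      intro l
      induction l with
      | nil => simp
      | cons a l ih => rw [RGD.RootData.nw_cons, ← mul_assoc, hn, mul_assoc, ih, ← mul_assoc]
    rw [← this]
    group
  obtain ⟨v, hv, k, hk, ek⟩ := R.exists_B hgB
  have hv1 : R.nw l₀ * v * (R.nw l₀)⁻¹ = 1 := by
    rw [← Subgroup.mem_bot, ← R.B_inf_V]
    refine ⟨?_, (show R.nw l₀ * v * (R.nw l₀)⁻¹ ∈ R.Vneg from R.map_conj_long hl₀ ▸ ⟨v, hv, rfl⟩)⟩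
    rw [show R.nw l₀ * v * (R.nw l₀)⁻¹ = (R.nw l₀ * (v * k) * (R.nw l₀)⁻¹) *
      (R.nw l₀ * k * (R.nw l₀)⁻¹)⁻¹ by group, ← ek, hnw]
    exact (mul_mem hgB (inv_mem (R.H_le_B (R.nw_conj_H l₀ hk))) : _ ∈ R.B)
  rw [conj_eq_one_iff] at hv1
  rw [hv1, one_mul] at ek
  subst ek
  exact eq_one_of_commute_all hD hk fun r _ => h r

include hR in
/-- Fixed elements of the group. -/
theorem fixed_decomp {g : GL D.Idx F} (hg : g ∈ D.group F) (hfg : mapG D σ g = g) :
    ∃ e₁ ∈ fixedGen hD σ, ∃ h ∈ D.diagonalSubgroup F, mapG D σ h = h ∧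
      ∃ e₂ ∈ fixedGen hD σ, g = e₁ * h * e₂ := by
  let R := chevRGD hD hR F
  rw [← chev_G hD hR] at hg
  obtain ⟨b, hb, l, u, hu, e⟩ := R.exists_normalForm hg
  have hnfix : mapG D σ (R.nw l) = R.nw l := by
    show mapG D σ ((l.map R.n).prod) = (l.map R.n).prod
    rw [map_list_prod, List.map_map]
    congr 1
    refine List.map_congr_left fun i _ => ?_
    show mapG D σ (ng hD F (D.simple i.val) 1) = ng hD F (D.simple i.val) 1
    rw [mapG_ng hD, map_one]
  have hnE : R.nw l ∈ fixedGen hD σ := by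
    refine list_prod_mem fun x hx => ?_
    obtain ⟨i, -, rfl⟩ := List.mem_map.1 hx
    exact ng_mem_fixedGen hD σ _
  have hu' : mapG D σ u ∈ R.Uminus l := by
    have h : (R.Uminus l).map (mapG D σ) ≤ R.Uminus l := by
      rw [Subgroup.map_le_iff_le_comap]
      refine R.span_le fun r hr x hx => ?_
      obtain ⟨t, rfl⟩ := (mem_rootSubgroup hD _).1 hx
      show mapG D σ (xg hD F r.val t) ∈ R.Uminus l
      rw [mapG_xg hD]
      exact R.U_le_span hr (xg_mem_rootSubgroup hD _ _)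
    exact h ⟨u, hu, rfl⟩
  have hb' : mapG D σ b ∈ R.B := by
    rw [chev_B hD hR] at hb ⊢
    exact mapG_borel hD σ hb
  have e' : mapG D σ b * R.nw l * mapG D σ u = b * R.nw l * u := by
    rw [← e, ← hfg, e, map_mul, map_mul, hnfix]
  obtain ⟨hbf, huf⟩ := R.normalForm_unique (one_mem _) (one_mul _).symm hb' hb hu' hu e'
  obtain ⟨v, hv, k, hk, rfl⟩ := R.exists_B hb
  have hv' : mapG D σ v ∈ R.Upos := by
    rw [chev_Upos hD hR] at hv ⊢
    exact mapG_pos hD σ hv
  have hk' : mapG D σ k ∈ R.H := mapG_diag hD σ hk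
  rw [map_mul] at hbf
  have hone : v⁻¹ * mapG D σ v = 1 := by
    rw [← Subgroup.mem_bot, ← R.U_inf_H]
    refine ⟨(mul_mem (inv_mem hv) hv' : _ ∈ R.Upos), ?_⟩
    rw [show v⁻¹ * mapG D σ v = v⁻¹ * (mapG D σ v * mapG D σ k) * (mapG D σ k)⁻¹ by group, hbf,
      inv_mul_cancel_left]
    exact (mul_mem hk (inv_mem hk') : _ ∈ R.H)
  have hvf : mapG D σ v = v := (inv_mul_eq_one.1 hone).symm
  rw [hvf] at hbf
  have hkf : mapG D σ k = k := mul_left_cancel hbf
  refine ⟨v, fixed_pos_mem hD σ (chev_Upos hD hR (F := F) ▸ hv) hvf, k, hk, hkf, R.nw l * u,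
    mul_mem hnE (fixed_pos_mem hD σ ?_ huf), by rw [e]; group⟩
  rw [← chev_Upos hD hR (F := F)]
  exact R.Uminus_le_Upos l hu

theorem diag_normalizes_fixedGen {h : GL D.Idx F} (hh : h ∈ D.diagonalSubgroup F) (hf : mapG D σ h = h) :
    ∀ e ∈ fixedGen hD σ, h * e * h⁻¹ ∈ fixedGen hD σ := by
  intro e he
  obtain ⟨χ, hχ, hc⟩ := isToral_of_mem hD hh
  have : fixedGen hD σ ≤ (fixedGen hD σ).comap (MulAut.conj h).toMonoidHom := by
    refine (Subgroup.closure_le _).2 ?_
    rintro _ ⟨r, t, ht, rfl⟩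
    show h * xg hD F r t * h⁻¹ ∈ fixedGen hD σ
    by_cases hr : r < D.nroots
    swap
    · rw [xg_out hD hr, mul_one, mul_inv_cancel]
      exact one_mem _
    rw [hc, mul_inv_cancel_right]
    refine xg_mem_fixedGen hD σ r ?_
    have h1 : σ (χ r : F) = (χ r : F) := by
      have h2 := congrArg (fun g : GL D.Idx F => (g : Matrix D.Idx D.Idx F) (Sum.inr ⟨r, hr⟩) (Sum.inr ⟨r, hr⟩)) hf
      simpa [coe_mapG, hχ, dg] using h2
    rw [map_mul, h1, ht]
  exact this he

include hR in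
/-- The fixed points normalise every subgroup between the fixed root elements and the fixed points. -/
theorem fixed_normalizes {K : Subgroup (GL D.Idx F)} (hKG : K ≤ D.group F) (hE : fixedGen hD σ ≤ K)
    (hK : ∀ x ∈ K, mapG D σ x = x) {g : GL D.Idx F} (hg : g ∈ D.group F) (hfg : mapG D σ g = g) :
    g ∈ Subgroup.normalizer (K : Set (GL D.Idx F)) := by
  have key : ∀ g ∈ D.group F, mapG D σ g = g → ∀ x ∈ K, g * x * g⁻¹ ∈ K := by
    intro g hg hfg x hx
    obtain ⟨e₁, h1, h, hh, hhf, e₂, h2, rfl⟩ := fixed_decomp hD σ hR hg hfg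
    obtain ⟨f₁, h3, h', hh', hhf', f₂, h4, e⟩ :=
      fixed_decomp hD σ hR (hKG (mul_mem (mul_mem (hE h2) hx) (inv_mem (hE h2)))) (hK _ (mul_mem (mul_mem (hE h2) hx) (inv_mem (hE h2))))
    have hh'K : h' ∈ K := by
      rw [show h' = f₁⁻¹ * (f₁ * h' * f₂) * f₂⁻¹ by group, ← e]
      exact mul_mem (mul_mem (inv_mem (hE h3)) (mul_mem (mul_mem (hE h2) hx) (inv_mem (hE h2)))) (inv_mem (hE h4))
    rw [show e₁ * h * e₂ * x * (e₁ * h * e₂)⁻¹ = e₁ * (h * (e₂ * x * e₂⁻¹) * h⁻¹) * e₁⁻¹ by group, e,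
      show h * (f₁ * h' * f₂) * h⁻¹ = (h * f₁ * h⁻¹) * (h * h' * h⁻¹) * (h * f₂ * h⁻¹) by group,
      diag_commute hD hh hh', mul_inv_cancel_right]
    exact mul_mem (mul_mem (hE h1) (mul_mem (mul_mem (hE (diag_normalizes_fixedGen hD σ hh hhf _ h3)) hh'K)
      (hE (diag_normalizes_fixedGen hD σ hh hhf _ h4)))) (inv_mem (hE h1))
  rw [Subgroup.mem_normalizer_iff]
  refine fun x => ⟨key g hg hfg x, fun hx => ?_⟩
  have := key g⁻¹ (inv_mem hg) (by rw [map_inv, hfg]) _ hx
  simpa [mul_assoc] using this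

include hR in
/-- Centralisers and normalisers of subfield subgroups. -/
theorem subfield_normalizer {K : Subgroup (GL D.Idx F)} (hKG : K ≤ D.group F) (hE : fixedGen hD σ ≤ K)
    (hK : ∀ x ∈ K, mapG D σ x = x) :
    D.group F ⊓ Subgroup.centralizer (K : Set (GL D.Idx F)) = ⊥ ∧
      ∀ g ∈ D.group F, g ∈ Subgroup.normalizer (K : Set (GL D.Idx F)) ↔ mapG D σ g = g := by
  have hcen : ∀ g ∈ D.group F, g ∈ Subgroup.centralizer (K : Set (GL D.Idx F)) → g = 1 := fun g hg hc =>
    centralizer_eq_one hD hR hg fun r =>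
      (Subgroup.mem_centralizer_iff.1 hc _ (hE (xg_mem_fixedGen hD σ r (map_one σ)))).symm
  refine ⟨eq_bot_iff.2 fun g hg => Subgroup.mem_bot.2 (hcen g hg.1 hg.2),
    fun g hg => ⟨fun hn => ?_, fun hf => fixed_normalizes hD σ hR hKG hE hK hg hf⟩⟩
  have hσG : mapG D σ g ∈ D.group F := mapG_group_le hD σ ⟨g, hg, rfl⟩
  have h1 : (mapG D σ g)⁻¹ * g = 1 := by
    refine hcen _ (mul_mem (inv_mem hσG) hg) (Subgroup.mem_centralizer_iff.2 fun x hx => ?_)
    have hk : g * x * g⁻¹ ∈ K := (Subgroup.mem_normalizer_iff.1 hn x).1 hx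
    have h2 := hK _ hk
    rw [map_mul, map_mul, map_inv, hK x hx] at h2
    calc x * ((mapG D σ g)⁻¹ * g) = (mapG D σ g)⁻¹ * (mapG D σ g * x * (mapG D σ g)⁻¹) * g := by group
      _ = _ := by rw [h2]; group
  exact inv_mul_eq_one.1 h1

end Cfsg.Agent.ChevBN
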