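import Cfsg.Agent.Lib.ChevBN.Facts
import Cfsg.Agent.Lib.Coxeter.Geometric

/-!
# `N / H` is the Coxeter group

`exists_hom_weyl`: from `Good D`, `Roots D M d` and a Coxeter matrix whose Cartan matrix is
`cartan i (simple j)`.
-/

set_option autoImplicit false

namespace Cfsg.Agent.ChevBN

open Cfsg.Lie Cfsg.Lie.ChevalleyDatum Cfsg.Agent.Chev Cfsg.Agent.ChevSt

/-- An abstract criterion: words vanish in `W` exactly when they lie in `H`. -/
theorem exists_hom_of_iff {Γ : Type*} [Group Γ] {Φ I : Type*} (R : RGD.RootData Γ Φ I)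
    {C : CoxeterMatrix I} {W : Type*} [Group W] (cs : CoxeterSystem C W)
    (key : ∀ l, cs.wordProd l = 1 ↔ R.nw l ∈ R.H) :
    ∃ φ : R.N →* W, Function.Surjective φ ∧ φ.ker = R.H.subgroupOf R.N ∧
      ∀ i (g : R.N), (g : Γ) = R.n i → φ g = cs.simple i := by
  have wd : ∀ (l l' : List I) (h h' : Γ), h ∈ R.H → h' ∈ R.H → h * R.nw l = h' * R.nw l' →
      cs.wordProd l = cs.wordProd l' := by
    intro l l' h h' hh hh' e
    obtain ⟨k, hk, ek⟩ := R.exists_nw_inv l
    have hm : R.nw (l.reverse ++ l') ∈ R.H := by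
      have e' : R.nw (l.reverse ++ l') = k⁻¹ * ((R.nw l)⁻¹ * (h'⁻¹ * h) * R.nw l) := by
        rw [show R.nw (l.reverse ++ l') = k⁻¹ * (R.nw l)⁻¹ * (h'⁻¹ * (h' * R.nw l')) by
          rw [RGD.RootData.nw_append, ek]; group, ← e]
        group
      rw [e']
      exact mul_mem (inv_mem hk) (R.nw_conj_H' l (mul_mem (inv_mem hh') hh))
    have h1 := (key _).2 hm
    rwa [cs.wordProd_append, cs.wordProd_reverse, inv_mul_eq_one] at h1
  choose h hh l hl using fun g : R.N => R.mem_N_iff.1 g.2
  have val : ∀ (g : R.N) (h' : Γ) (l' : List I), h' ∈ R.H → (g : Γ) = h' * R.nw l' →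
      cs.wordProd (l g) = cs.wordProd l' := fun g h' l' hh' e =>
    wd _ _ _ _ (hh g) hh' ((hl g).symm.trans e)
  refine ⟨MonoidHom.mk' (fun g => cs.wordProd (l g)) fun a b => ?_, fun x => ?_, ?_, fun i g e => ?_⟩
  · rw [← cs.wordProd_append]
    refine val _ (h a * (R.nw (l a) * h b * (R.nw (l a))⁻¹)) _
      (mul_mem (hh a) (R.nw_conj_H _ (hh b))) ?_
    rw [Subgroup.coe_mul, hl a, hl b, RGD.RootData.nw_append]
    group
  · obtain ⟨ω, rfl⟩ := cs.wordProd_surjective x
    exact ⟨⟨R.nw ω, R.nw_mem_N ω⟩, val _ 1 ω (one_mem _) (one_mul _).symm⟩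
  · ext g
    rw [MonoidHom.mem_ker, Subgroup.mem_subgroupOf, MonoidHom.mk'_apply, key]
    constructor
    · intro hm
      rw [hl g]
      exact mul_mem (hh g) hm
    · intro hg
      have := mul_mem (inv_mem (hh g)) hg
      rwa [hl g, inv_mul_cancel_left] at this
  · show cs.wordProd (l g) = cs.simple i
    rw [val g 1 [i] (one_mem _) (by simpa using e), cs.wordProd_singleton]

variable {D : ChevalleyDatum} {M : List (List ℤ)} {d : ℤ} (hD : Good D) (hR : Roots D M d)
  {F : Type*} [Field F]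

include hD hR

theorem lin_pos {g : ℕ → ℤ} (hg : IsLin D g) (h : ∀ i < D.rank, 0 < g (D.simple i)) {q : ℕ}
    (hq : q < D.nroots) (hp : D.IsPosRoot q) : 0 < g q := by
  have := lin_neg hD hR (g := fun q => -1 * g q) (hg.smul (-1))
    (fun i hi => by have := h i hi; omega) hq hp
  omega

variable {C : CoxeterMatrix (Fin D.rank)} {W : Type*} [Group W] (cs : CoxeterSystem C W)
  {A : Fin D.rank → Fin D.rank → ℤ} (hA : Coxeter.IsCartan C A)
  (hcA : ∀ i j : Fin D.rank, A i j = D.cartan i.val (D.simple j.val))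

include hcA in
theorem act_eq_ht (l : List (Fin D.rank)) (j : Fin D.rank) :
    Coxeter.act cs hA (cs.wordProd l) (fun _ => d) j =
      ht D M ((chevRGD hD hR F).ww l.reverse ⟨D.simple j.val, hD.simple_lt j.val j.isLt⟩).val := by
  induction l generalizing j with
  | nil =>
    rw [cs.wordProd_nil, Coxeter.act_one]
    show d = ht D M (D.simple j.val)
    simp only [ht]
    rw [List.map_congr_left (g := fun k => if k = j.val then d else 0)
      (fun k hk => hR.dual k (List.mem_range.1 hk) j.val j.isLt)]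
    rw [List.sum_map_ite_eq, List.count_eq_one_of_mem List.nodup_range (List.mem_range.2 j.isLt)]
    simp
  | cons a l ih =>
    rw [cs.wordProd_cons, Coxeter.act_simple_mul_apply, ih j, ih a, hcA, List.reverse_cons,
      RGD.RootData.ww_append, RGD.RootData.ww_cons, RGD.RootData.ww_nil]
    obtain ⟨g, hg, e⟩ := lin_comp hD hR F l.reverse (isLin_ht hD M)
    rw [← e, ← e, ← e]
    show g (D.simple j.val) - D.cartan a.val (D.simple j.val) * g (D.simple a.val)
      = g (wN D a.val (D.simple j.val))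
    rw [wN, hg.refl hD (hD.simple_lt _ a.isLt) (hD.simple_lt _ j.isLt), pairing_simple hD a.isLt]

include hA hcA in
theorem wordProd_eq_one_iff (l : List (Fin D.rank)) :
    cs.wordProd l = 1 ↔ (chevRGD hD hR F).nw l ∈ (chevRGD hD hR F).H := by
  set R := chevRGD hD hR F
  constructor
  · intro h
    rw [R.mem_H_iff]
    intro r hr
    obtain ⟨g, hg, e⟩ := lin_comp hD hR F l (isLin_ht hD M)
    have hrev : cs.wordProd l.reverse = 1 := by rw [cs.wordProd_reverse, h, inv_one]
    have h0 : ∀ i < D.rank, 0 < g (D.simple i) := fun i hi => by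
      have h1 := act_eq_ht hD hR (F := F) cs hA hcA l.reverse ⟨i, hi⟩
      rw [hrev, Coxeter.act_one, List.reverse_reverse] at h1
      rw [e ⟨D.simple i, hD.simple_lt i hi⟩, ← h1]
      exact hR.d_pos
    have h1 := lin_pos hD hR hg h0 r.isLt hr
    rw [e r] at h1
    by_contra hneg
    have h2 := hR.ht_pos _ (hD.neg_lt _ (R.ww l r).isLt) ((pos_or_neg hD (R.ww l r).isLt).2 hneg)
    rw [(isLin_ht hD M).neg _ (R.ww l r).isLt] at h2
    change 0 < ht D M (R.ww l r).val at h1
    omega
  · intro h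
    by_contra hne
    obtain ⟨s, hs⟩ := cs.exists_leftDescent_of_ne_one hne
    have hs' : cs.length (cs.simple s * cs.wordProd l)
        < cs.length (cs.simple s * (cs.simple s * cs.wordProd l)) := by
      rw [cs.simple_mul_simple_cancel_left]; exact hs
    have hpos := Coxeter.pos_of_length_lt cs hA (l := fun _ => d) (fun _ => hR.d_pos) _ s hs'
    rw [Coxeter.act_simple_mul_apply, hA.diag, act_eq_ht hD hR (F := F) cs hA hcA] at hpos
    obtain ⟨k, hk, e⟩ := R.exists_nw_inv l
    have hrev : R.nw l.reverse ∈ R.H := by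
      rw [show R.nw l.reverse = k⁻¹ * (R.nw l)⁻¹ by rw [e]; group]
      exact mul_mem (inv_mem hk) (inv_mem h)
    have hp := (R.mem_H_iff _).1 hrev (R.simple s) (R.pos_simple s)
    have h2 := hR.ht_pos _ (R.ww l.reverse (R.simple s)).isLt hp
    change 0 < ht D M (R.ww l.reverse (R.simple s)).val - 2 * ht D M (R.ww l.reverse (R.simple s)).val at hpos
    omega

include hA hcA in
theorem exists_hom_weyl :
    ∃ φ : ↥(D.monomialSubgroup F) →* W, Function.Surjective φ ∧
      φ.ker = (D.diagonalSubgroup F).subgroupOf (D.monomialSubgroup F) ∧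
      ∀ (i : Fin D.rank) (g : ↥(D.monomialSubgroup F)),
        ((g : GL D.Idx F) : Matrix D.Idx D.Idx F) = D.nMat F (D.simple i.val) 1 → φ g = cs.simple i := by
  rw [← chev_N hD hR]
  obtain ⟨φ, h1, h2, h3⟩ := exists_hom_of_iff (chevRGD hD hR F) cs
    (wordProd_eq_one_iff hD hR cs hA hcA)
  exact ⟨φ, h1, h2, fun i g e => h3 i g (Units.ext (e.trans (coe_ng hD _ _).symm))⟩

end Cfsg.Agent.ChevBN
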