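import Cfsg.Agent.Lib.ChevBN.WCTables

/-!
# The height filtration of a unipotent radical

`Vlev J N` is generated by the root elements of the roots of `U_J` of height at least `N`.
* `U_normalizes_Vlev`, `commutator_Vlev` : `⁅U, Vlev N⁆ ≤ Vlev (N + 1)`;
* `radical_le_of_normal` : a subgroup normalised by `U` which covers the fundamental layer of `U_J` contains `U_J`.
-/

set_option autoImplicit false

namespace Cfsg.Agent.ChevBN

open Cfsg.Lie Cfsg.Lie.ChevalleyDatum Cfsg.Agent.Chev Cfsg.Agent.ChevSt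
open scoped commutatorElement

variable (D : ChevalleyDatum) (M : List (List ℤ)) (F : Type*) [Field F]

/-- The part of `U_J` of height at least `N`. -/
def Vlev (J : Set ℕ) (N : ℤ) : Subgroup (GL D.Idx F) :=
  Subgroup.closure {g | ∃ (q : ℕ) (t : F), D.IsPosRoot q ∧ ¬ D.InRootSub J q ∧ N ≤ ht D M q ∧
    (g : Matrix D.Idx D.Idx F) = D.x F q t}

variable {D M F} {d : ℤ} (hD : Good D) (hR : Roots D M d) (J : Set ℕ)

include hD

theorem xg_mem_Vlev {q : ℕ} (hp : D.IsPosRoot q) (hJ : ¬ D.InRootSub J q) {N : ℤ} (h : N ≤ ht D M q) (t : F) :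
    xg hD F q t ∈ Vlev D M F J N :=
  Subgroup.subset_closure ⟨q, t, hp, hJ, h, coe_xg hD q t⟩

omit hD in
theorem Vlev_mono {N N' : ℤ} (h : N ≤ N') : Vlev D M F J N' ≤ Vlev D M F J N :=
  Subgroup.closure_mono fun _ ⟨q, t, h1, h2, h3, e⟩ => ⟨q, t, h1, h2, h.trans h3, e⟩

theorem Vlev_le {N : ℤ} {K : Subgroup (GL D.Idx F)}
    (h : ∀ q, D.IsPosRoot q → ¬ D.InRootSub J q → N ≤ ht D M q → ∀ t, xg hD F q t ∈ K) :
    Vlev D M F J N ≤ K := by
  refine (Subgroup.closure_le _).2 ?_
  rintro g ⟨q, t, h1, h2, h3, e⟩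
  obtain rfl : g = xg hD F q t := Units.ext e
  exact h q h1 h2 h3 t

omit hD in
theorem Vlev_le_radical (N : ℤ) : Vlev D M F J N ≤ D.unipotentRadical F J :=
  Subgroup.closure_mono fun _ ⟨q, t, h1, h2, _, e⟩ => ⟨q, t, h1, h2, e⟩

omit hD in
theorem radical_le_posUnipotent : D.unipotentRadical F J ≤ D.posUnipotent F :=
  Subgroup.closure_mono fun _ ⟨q, t, h1, _, e⟩ => ⟨q, t, h1, e⟩

include hR

theorem fund_le_ht {q : ℕ} (hp : D.IsPosRoot q) :
    d ≤ ht D M q ∧ ((∀ i < D.rank, q ≠ D.simple i) → d < ht D M q) := by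
  have hsimple : ∀ i < D.rank, ht D M (D.simple i) = d := by
    intro i hi
    simp only [ht]
    rw [List.map_congr_left (g := fun k => if k = i then d else 0)
      (fun k hk => hR.dual k (List.mem_range.1 hk) i hi), List.sum_map_ite_eq,
      List.count_eq_one_of_mem List.nodup_range (List.mem_range.2 hi)]
    simp
  induction hn : (ht D M q).toNat using Nat.strong_induction_on generalizing q with
  | _ m ih =>
    by_cases hs : ∃ i < D.rank, q = D.simple i
    · obtain ⟨i, hi, rfl⟩ := hs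
      exact ⟨(hsimple i hi).ge, fun h => absurd rfl (h i hi)⟩
    push Not at hs
    obtain ⟨i, hi, hc⟩ := hR.descend q hp.1 hp hs
    have hwlt : wN D i q < D.nroots := refl_lt hD (hD.simple_lt i hi) hp.1
    have hwp := hR.pos_refl hD hi hp.1 hp (hs i hi)
    have h0 := hR.ht_pos _ hwlt hwp
    have hr := hR.ht_refl hD hi hp.1
    have h1 := mul_pos hc hR.d_pos
    have h2 := (ih (ht D M (wN D i q)).toNat (by omega) hwp rfl).1
    exact ⟨by omega, fun _ => by omega⟩

theorem radical_eq_Vlev : D.unipotentRadical F J = Vlev D M F J d := by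
  refine le_antisymm ((Subgroup.closure_le _).2 ?_) (Vlev_le_radical J d)
  rintro g ⟨q, t, h1, h2, e⟩
  exact Subgroup.subset_closure ⟨q, t, h1, h2, (fund_le_ht hD hR h1).1, e⟩

/-- A positive root combination is a root of `U_J` as soon as one summand is. -/
theorem term_outside {r s : ℕ} (hr : D.IsPosRoot r) (hs : D.IsPosRoot s) (hne : s ≠ r)
    {τ : ℕ × ℤ × ℕ × ℕ} (hτ : τ ∈ D.commTerms r s) :
    τ.1 < D.nroots ∧ D.IsPosRoot τ.1 ∧ ht D M r < ht D M τ.1 ∧ ht D M s < ht D M τ.1 ∧
      (¬ D.InRootSub J τ.1 ↔ ¬ D.InRootSub J r ∨ ¬ D.InRootSub J s) := by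
  have h2 : s ≠ D.neg r := by
    rintro rfl
    exact (pos_or_neg hD hr.1).1 hs hr
  obtain ⟨hlt, hi, hj, hval⟩ := (isLin_ht hD M).commTerms hD hr.1 hs.1 hne h2 hτ
  have hhr := hR.ht_pos r hr.1 hr
  have hhs := hR.ht_pos s hs.1 hs
  have hi' : (1 : ℤ) ≤ (τ.2.2.1 : ℤ) := by exact_mod_cast hi
  have hj' : (1 : ℤ) ≤ (τ.2.2.2 : ℤ) := by exact_mod_cast hj
  have hco : ∀ k < D.rank, co D M k τ.1 = τ.2.2.1 * co D M k r + τ.2.2.2 * co D M k s := fun k _ =>
    ((isLin_co hD M k).commTerms hD hr.1 hs.1 hne h2 hτ).2.2.2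
  have hp : D.IsPosRoot τ.1 := by
    rw [hR.sgn _ hlt]
    intro k hk
    rw [hco k hk]
    have := (hR.sgn r hr.1).1 hr k hk
    have := (hR.sgn s hs.1).1 hs k hk
    positivity
  refine ⟨hlt, hp, by rw [hval]; nlinarith, by rw [hval]; nlinarith, ?_⟩
  rw [inRootSub_iff hD hR hlt, inRootSub_iff hD hR hr.1, inRootSub_iff hD hR hs.1, ← not_and_or, not_iff_not]
  refine ⟨fun h => ⟨fun k hk hkJ => ?_, fun k hk hkJ => ?_⟩, fun h k hk hkJ => ?_⟩
  · have h1 := h k hk hkJ
    rw [hco k hk] at h1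
    have := (hR.sgn r hr.1).1 hr k hk
    have := (hR.sgn s hs.1).1 hs k hk
    nlinarith
  · have h1 := h k hk hkJ
    rw [hco k hk] at h1
    have := (hR.sgn r hr.1).1 hr k hk
    have := (hR.sgn s hs.1).1 hs k hk
    nlinarith
  · rw [hco k hk, h.1 k hk hkJ, h.2 k hk hkJ]
    ring

omit hR in
/-- The commutator of two root elements as a word. -/
theorem commutator_xg_eq {r s : ℕ} (hr : r < D.nroots) (hs : s < D.nroots) (h1 : s ≠ r) (h2 : s ≠ D.neg r)
    (t u : F) :
    ⁅xg hD F s (-u), xg hD F r t⁆ = ((D.commWord F r s (-t) u).map fun p => xg hD F p.1 p.2).prod := by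
  set w : List (GL D.Idx F) := (D.commWord F r s (-t) u).map fun p => xg hD F p.1 p.2 with hw
  have hc : xg hD F s u * xg hD F r (-t) = xg hD F r (-t) * xg hD F s u * w.prod := by
    apply Units.ext
    rw [Units.val_mul, Units.val_mul, Units.val_mul, coe_xg, coe_xg, hD.commutator hr hs h1 h2,
      ← Units.coeHom_apply w.prod, map_list_prod, hw, List.map_map]
    rfl
  rw [commutatorElement_def, mul_assoc (xg hD F s (-u) * xg hD F r t), xg_inv, xg_inv,
    _root_.neg_neg, hc, ← mul_assoc, ← mul_assoc, mul_assoc (xg hD F s (-u)),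
    xg_add hD hr, add_neg_cancel, xg_zero, mul_one, xg_add hD hs, neg_add_cancel, xg_zero, one_mul]

/-- Commutators of generators. -/
theorem commutator_gen {r s : ℕ} (hr : D.IsPosRoot r) (hs : D.IsPosRoot s) (hsJ : ¬ D.InRootSub J s)
    {N : ℤ} (hN : N ≤ ht D M s) (t u : F) :
    ⁅xg hD F s u, xg hD F r t⁆ ∈ Vlev D M F J (N + 1) := by
  by_cases h1 : s = r
  · subst h1
    rw [commutatorElement_def, xg_inv, xg_inv, xg_add hD hr.1, xg_add hD hr.1, xg_add hD hr.1,
      show u + t + -u + -t = 0 by ring, xg_zero]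
    exact one_mem _
  have h2 : s ≠ D.neg r := by
    rintro rfl
    exact (pos_or_neg hD hr.1).1 hs hr
  have e := commutator_xg_eq hD hr.1 hs.1 h1 h2 t (-u)
  rw [_root_.neg_neg] at e
  rw [e]
  refine list_prod_mem fun g hg' => ?_
  simp only [ChevalleyDatum.commWord, List.map_map, List.mem_map, Function.comp_apply] at hg'
  obtain ⟨τ, hτ, rfl⟩ := hg'
  obtain ⟨-, h3, -, h5, h6⟩ := term_outside hD hR J hr hs h1 hτ
  exact xg_mem_Vlev hD J h3 (h6.2 (Or.inr hsJ)) (by omega) _

theorem U_normalizes_Vlev {N : ℤ} :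
    ∀ a ∈ D.posUnipotent F, ∀ y ∈ Vlev D M F J N, a * y * a⁻¹ ∈ Vlev D M F J N := by
  have gen : ∀ r t, D.IsPosRoot r → ∀ y ∈ Vlev D M F J N,
      xg hD F r t * y * (xg hD F r t)⁻¹ ∈ Vlev D M F J N := by
    intro r t hr y hy
    refine (Vlev_le hD J (K := (Vlev D M F J N).comap (MulAut.conj (xg hD F r t)).toMonoidHom)
      (fun q h1 h2 h3 u => ?_)) hy
    show xg hD F r t * xg hD F q u * (xg hD F r t)⁻¹ ∈ Vlev D M F J N
    rw [show xg hD F r t * xg hD F q u * (xg hD F r t)⁻¹ =
      ⁅xg hD F q u, xg hD F r t⁆⁻¹ * xg hD F q u by rw [commutatorElement_def]; group]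
    exact mul_mem (inv_mem (Vlev_mono J (by omega) (commutator_gen hD hR J hr h1 h2 h3 t u)))
      (xg_mem_Vlev hD J h1 h2 h3 u)
  intro a ha
  induction ha using Subgroup.closure_induction'' with
  | mem x hx =>
    obtain ⟨r, t, hr, e⟩ := hx
    obtain rfl : x = xg hD F r t := Units.ext e
    exact gen r t hr
  | inv_mem x hx =>
    obtain ⟨r, t, hr, e⟩ := hx
    obtain rfl : x = xg hD F r t := Units.ext e
    rw [xg_inv]
    exact gen r _ hr
  | one => intro y hy; simpa using hy
  | mul a b _ _ ha hb =>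
    intro y hy
    rw [show a * b * y * (a * b)⁻¹ = a * (b * y * b⁻¹) * a⁻¹ by group]
    exact ha _ (hb y hy)

theorem commutator_Vlev (N : ℤ) :
    ⁅Vlev D M F J N, D.posUnipotent F⁆ ≤ Vlev D M F J (N + 1) := by
  refine commutator_closure_le
    (fun a ha => U_normalizes_Vlev hD hR J a (radical_le_posUnipotent J (Vlev_le_radical J N ha)))
    (fun a ha => U_normalizes_Vlev hD hR J a ha) ?_
  rintro a ⟨s, u, hs, hsJ, hN, e⟩ b ⟨r, t, hr, e'⟩
  obtain rfl : a = xg hD F s u := Units.ext e
  obtain rfl : b = xg hD F r t := Units.ext e'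
  exact commutator_gen hD hR J hr hs hsJ hN t u

variable {X : Subgroup (GL D.Idx F)}

omit hD hR in
theorem commutator_mem_left (hXn : ∀ a ∈ D.posUnipotent F, ∀ x ∈ X, a * x * a⁻¹ ∈ X) {x b : GL D.Idx F}
    (hx : x ∈ X) (hb : b ∈ D.posUnipotent F) : ⁅x, b⁆ ∈ X := by
  rw [show ⁅x, b⁆ = x * (b * x⁻¹ * b⁻¹) by rw [commutatorElement_def]; group]
  exact mul_mem hx (hXn b hb _ (inv_mem hx))

/-- Commutators with `X ⊔ Vlev N`. -/
theorem commutator_sup (hXU : X ≤ D.posUnipotent F)
    (hXn : ∀ a ∈ D.posUnipotent F, ∀ x ∈ X, a * x * a⁻¹ ∈ X) {N : ℤ} {y b : GL D.Idx F}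
    (hy : y ∈ X ⊔ Vlev D M F J N) (hb : b ∈ D.posUnipotent F) :
    ⁅y, b⁆ ∈ X ⊔ Vlev D M F J (N + 1) := by
  obtain ⟨x, hx, v, hv, rfl⟩ := RGD.exists_mul_of_mem_sup
    (fun a ha => hXn a (radical_le_posUnipotent J (Vlev_le_radical J N ha))) hy
  rw [show ⁅x * v, b⁆ = (x * ⁅v, b⁆ * x⁻¹) * ⁅x, b⁆ by simp only [commutatorElement_def]; group]
  exact mul_mem (Subgroup.mem_sup_right (U_normalizes_Vlev hD hR J x (hXU hx) _
    ((Subgroup.commutator_le.1 (commutator_Vlev hD hR J N)) v hv b hb)))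
    (Subgroup.mem_sup_left (commutator_mem_left hXn hx hb))

theorem U_normalizes_sup (hXn : ∀ a ∈ D.posUnipotent F, ∀ x ∈ X, a * x * a⁻¹ ∈ X) {N : ℤ} :
    ∀ a ∈ D.posUnipotent F, ∀ y ∈ X ⊔ Vlev D M F J N, a * y * a⁻¹ ∈ X ⊔ Vlev D M F J N := by
  intro a ha y hy
  have : X ⊔ Vlev D M F J N ≤ (X ⊔ Vlev D M F J N).comap (MulAut.conj a).toMonoidHom :=
    sup_le (fun x hx => Subgroup.mem_sup_left (hXn a ha x hx))
      fun x hx => Subgroup.mem_sup_right (U_normalizes_Vlev hD hR J a ha x hx)
  exact this hy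

/-- A subgroup of `U` normalised by `U` and covering the fundamental layer of `U_J` contains `U_J`. -/
theorem radical_le_of_normal {two : Bool} {l : F} (hl : ScalarOK two l) {L : List (ℕ × ℕ × ℕ)}
    (hW : WitAll D M two L) (hXU : X ≤ D.posUnipotent F)
    (hXn : ∀ a ∈ D.posUnipotent F, ∀ x ∈ X, a * x * a⁻¹ ∈ X)
    (hbase : D.unipotentRadical F J ≤ X ⊔ Vlev D M F J (d + 1)) : D.unipotentRadical F J ≤ X := by
  have step : ∀ k : ℕ, D.unipotentRadical F J ≤ X ⊔ Vlev D M F J (d + 1 + k) := by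
    intro k
    induction k with
    | zero => simpa using hbase
    | succ k ih =>
      set N : ℤ := d + 1 + k with hN
      rw [show d + 1 + ((k + 1 : ℕ) : ℤ) = N + 1 by rw [hN]; push_cast; ring]
      refine ih.trans (sup_le le_sup_left (Vlev_le hD J fun q hq hqJ hqN v => ?_))
      rcases eq_or_lt_of_le hqN with heq | hlt
      swap
      · exact Subgroup.mem_sup_right (xg_mem_Vlev hD J hq hqJ (by omega) v)
      have hwit : WitOK D M two (witOf L q) q = true := by
        refine (hW q hq.1 hq).resolve_left fun h => ?_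
        obtain ⟨i, hi, rfl⟩ := List.mem_map.1 h
        have h1 := List.mem_range.1 hi
        have : ht D M (D.simple i) = d := by
          simp only [ht]
          rw [List.map_congr_left (g := fun k => if k = i then d else 0)
            (fun k hk => hR.dual k (List.mem_range.1 hk) i h1), List.sum_map_ite_eq,
            List.count_eq_one_of_mem List.nodup_range hi]
          simp
        omega
      generalize witOf L q = p at hwit
      obtain ⟨r, s⟩ := p
      simp only [WitOK, Bool.and_eq_true, decide_eq_true_eq] at hwit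
      obtain ⟨⟨⟨hr, hs⟩, hne⟩, hm⟩ := hwit
      split at hm
      case h_2 => exact absurd hm Bool.false_ne_true
      case h_1 q' c i0 j0 hfil =>
      simp only [Bool.and_eq_true, Bool.or_eq_true, decide_eq_true_eq, List.all_eq_true] at hm
      obtain ⟨⟨hc, hij⟩, hall⟩ := hm
      have hmem : (q', c, i0, j0) ∈ (D.commTerms r s).filter fun τ => τ.1 = q := by simp [hfil]
      obtain ⟨hτmem, hτq⟩ := List.mem_filter.1 hmem
      simp only [decide_eq_true_eq] at hτq
      subst hτq
      have hout : ¬ D.InRootSub J r ∨ ¬ D.InRootSub J s :=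
        (term_outside hD hR J hr hs hne hτmem).2.2.2.2.1 hqJ
      set A := X ⊔ Vlev D M F J N with hA
      set K := X ⊔ Vlev D M F J (N + 1) with hK
      have hKA : K ≤ A := sup_le le_sup_left (le_trans (Vlev_mono J (by omega)) le_sup_right)
      have hAU : A ≤ D.posUnipotent F :=
        sup_le hXU ((Vlev_le_radical J N).trans (radical_le_posUnipotent J))
      obtain ⟨Q, _, π, hπ, hπ0⟩ := exists_abelian_quot A K
        (fun a ha y hy => U_normalizes_sup hD hR J hXn a (hAU ha) y hy)
        (fun a ha b hb => commutator_sup hD hR J hXU hXn ha (hAU hb))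
      have hxA : ∀ p, D.IsPosRoot p → ¬ D.InRootSub J p → ∀ u, xg hD F p u ∈ A := fun p h1 h2 u =>
        ih (Subgroup.subset_closure ⟨p, u, h1, h2, coe_xg hD p u⟩)
      have hψ : ∀ p, D.IsPosRoot p → ¬ D.InRootSub J p → ∀ a b : F,
          π (xg hD F p (a + b)) = π (xg hD F p a) + π (xg hD F p b) := fun p h1 h2 a b => by
        rw [← xg_add hD h1.1]
        exact hπ _ (hxA p h1 h2 a) _ (hxA p h1 h2 b)
      have h2 : s ≠ D.neg r := by
        rintro rfl
        exact (pos_or_neg hD hr.1).1 hs hr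
      -- the commutator lies in `K`
      have hcomm : ∀ t u : F,
          ((D.commTerms r s).map fun τ => π (xg hD F τ.1 ((τ.2.1 : F) * t ^ τ.2.2.1 * u ^ τ.2.2.2))).sum = 0 := by
        intro t u
        have e := commutator_xg_eq hD hr.1 hs.1 hne h2 t u
        simp only [ChevalleyDatum.commWord, List.map_map] at e
        have hk : ⁅xg hD F s (-u), xg hD F r t⁆ ∈ K := by
          rcases hout with h | h
          · rw [← commutatorElement_inv (xg hD F r t)]
            exact inv_mem (commutator_sup hD hR J hXU hXn (hxA r hr h t)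
              (Subgroup.subset_closure ⟨s, -u, hs, coe_xg hD _ _⟩))
          · exact commutator_sup hD hR J hXU hXn (hxA s hs h (-u))
              (Subgroup.subset_closure ⟨r, t, hr, coe_xg hD _ _⟩)
        have hz := (hπ0 _ (hKA hk)).2 hk
        rw [e, list_prod_additive hπ _ ?_, List.map_map] at hz
        · rw [← hz]
          congr 1
          refine List.map_congr_left fun τ _ => ?_
          simp only [Function.comp_apply, _root_.neg_neg]
        · intro x hx
          obtain ⟨τ, hτ, rfl⟩ := List.mem_map.1 hx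
          obtain ⟨-, h3, -, -, h6⟩ := term_outside hD hR J hr hs hne hτ
          exact hxA τ.1 h3 (h6.2 hout) _
      -- separate the terms of height `≤ N`
      set others := (D.commTerms r s).filter fun τ => decide (τ.1 ≠ q') && decide (ht D M τ.1 ≤ N) with hoth
      have hψ0 : ∀ w, π (xg hD F q' w) = 0 := by
        refine eq_zero_of_kill hl (fun p w => π (xg hD F p w)) hij
          (others.map fun τ => (τ.1, (τ.2.1 : F), τ.2.2)) (c : F) ?_ ?_ (hψ q' hq hqJ) ?_ fun t u => ?_
        · rcases Int.natAbs_eq_iff.1 hc with h | h <;> simp [h]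
        · rintro _ hτ'
          obtain ⟨τ, hτ, rfl⟩ := List.mem_map.1 hτ'
          obtain ⟨-, h3, -, -, h6⟩ := term_outside hD hR J hr hs hne (List.mem_filter.1 hτ).1
          exact hψ τ.1 h3 (h6.2 hout)
        · rintro _ hτ'
          obtain ⟨τ, hτ, rfl⟩ := List.mem_map.1 hτ'
          obtain ⟨h3, h4⟩ := List.mem_filter.1 hτ
          simp only [Bool.and_eq_true, decide_eq_true_eq] at h4
          rcases hall τ h3 with (h5 | h5) | h5
          · exact absurd h5 h4.1
          · exact absurd h5 (by omega)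
          · exact h5
        · have key : ∀ (P : List (ℕ × ℤ × ℕ × ℕ)), (∀ τ ∈ P, τ ∈ D.commTerms r s) →
              (P.map fun τ => π (xg hD F τ.1 ((τ.2.1 : F) * t ^ τ.2.2.1 * u ^ τ.2.2.2))).sum =
              ((P.filter fun τ => decide (τ.1 ≠ q') && decide (ht D M τ.1 ≤ N)).map fun τ =>
                π (xg hD F τ.1 ((τ.2.1 : F) * t ^ τ.2.2.1 * u ^ τ.2.2.2))).sum +
              ((P.filter fun τ => τ.1 = q').map fun τ =>
                π (xg hD F τ.1 ((τ.2.1 : F) * t ^ τ.2.2.1 * u ^ τ.2.2.2))).sum := by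
            intro P
            induction P with
            | nil => simp
            | cons τ P ihP =>
              intro hP
              rw [List.map_cons, List.sum_cons, ihP fun σ hσ => hP σ (List.mem_cons_of_mem _ hσ)]
              by_cases hτ' : τ.1 = q'
              · simp [List.filter_cons, hτ']
                abel
              by_cases hhi : ht D M τ.1 ≤ N
              · simp [List.filter_cons, hτ', hhi]
                abel
              · obtain ⟨-, h3, -, -, h6⟩ := term_outside hD hR J hr hs hne (hP τ (by simp))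
                have hmemK : ∀ w, xg hD F τ.1 w ∈ K := fun w =>
                  Subgroup.mem_sup_right (xg_mem_Vlev hD J h3 (h6.2 hout) (by omega) w)
                simp [List.filter_cons, hτ', hhi, (hπ0 _ (hKA (hmemK _))).2 (hmemK _)]
          have := key _ fun _ h => h
          rw [hcomm, hfil, ← hoth] at this
          simp only [List.map_cons, List.map_nil, List.sum_cons, List.sum_nil, add_zero] at this
          rw [List.map_map]
          exact this.symm
      exact (hπ0 _ (hxA q' hq hqJ v)).1 (hψ0 v)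
  obtain ⟨k, hk⟩ : ∃ k : ℕ, ∀ q : Fin D.nroots, ht D M q.val < d + 1 + k := by
    refine ⟨∑ q : Fin D.nroots, (ht D M q.val).natAbs, fun q => ?_⟩
    have h : (ht D M q.val).natAbs ≤ ∑ q : Fin D.nroots, (ht D M q.val).natAbs :=
      Finset.single_le_sum (f := fun q : Fin D.nroots => (ht D M q.val).natAbs)
        (fun _ _ => Nat.zero_le _) (Finset.mem_univ q)
    have := hR.d_pos
    omega
  refine (step k).trans (sup_le le_rfl (Vlev_le hD J fun q hq _ hN _ => ?_))
  exact absurd (hk ⟨q, hq.1⟩) (by simpa using hN)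

end Cfsg.Agent.ChevBN
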