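import Cfsg.Agent.Lib.ChevSt.Linear

/-!
# Coefficients of roots on the fundamental roots

`co D M k` (`M` = the inverse Cartan matrix times `d`) is `d` times the `k`-th coefficient, an `IsLin`
function; `Roots D M d` collects the few table checks from which the combinatorics of positive roots
follows: `co_refl`, `pos_refl`, `root_ext`, `exists_descend`, `pos_induction`.
-/

set_option autoImplicit false

namespace Cfsg.Agent.ChevBN

open Cfsg.Lie Cfsg.Lie.ChevalleyDatum Cfsg.Agent.Chev Cfsg.Agent.ChevSt

variable (D : ChevalleyDatum)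

/-- An entry of an integer matrix given by lists. -/
def entry (M : List (List ℤ)) (k i : ℕ) : ℤ := (M.getD k []).getD i 0

/-- `d` times the coefficient of the `k`-th fundamental root in the root `q`. -/
def co (M : List (List ℤ)) (k q : ℕ) : ℤ :=
  ((List.range D.rank).map fun i => entry M k i * D.cartan i q).sum

/-- The height (times `d`). -/
def ht (M : List (List ℤ)) (q : ℕ) : ℤ := ((List.range D.rank).map fun k => co D M k q).sum

/-- An injective encoding of the coefficient vector. -/
def key (M : List (List ℤ)) (q : ℕ) : ℤ :=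
  (List.range D.rank).foldl (fun a k => a * 64 + co D M k q) 0

/-- The table checks. -/
structure Roots (M : List (List ℤ)) (d : ℤ) : Prop where
  d_pos : 0 < d
  dual : ∀ k < D.rank, ∀ j < D.rank, co D M k (D.simple j) = if k = j then d else 0
  mul : ∀ i < D.rank, ∀ j < D.rank,
    ((List.range D.rank).map fun k => D.cartan i (D.simple k) * entry M k j).sum = if i = j then d else 0
  sgn : ∀ q < D.nroots, (D.IsPosRoot q ↔ ∀ k < D.rank, 0 ≤ co D M k q)
  coroot0 : ∀ q < D.nroots, ∀ k < D.rank, (co D M k q = 0 ↔ (D.coroot.getD q #[]).getD k 0 = 0)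
  key_mono : ∀ q < D.nroots - 1, key D M q < key D M (q + 1)
  sole : ∀ q < D.nroots, D.IsPosRoot q → ∀ i < D.rank,
    (∀ k < D.rank, k ≠ i → co D M k q = 0) → q = D.simple i
  descend : ∀ q < D.nroots, D.IsPosRoot q → (∀ i < D.rank, q ≠ D.simple i) →
    ∃ i < D.rank, 0 < D.cartan i q
  ht_pos : ∀ q < D.nroots, D.IsPosRoot q → 0 < ht D M q

variable {D}

theorem isLin_sum (L : List ℕ) {f : ℕ → ℕ → ℤ} (h : ∀ a ∈ L, IsLin D (f a)) :
    IsLin D fun q => (L.map fun a => f a q).sum := by
  induction L with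
  | nil => exact ⟨fun _ _ _ _ _ _ => by simp, fun _ _ => by simp⟩
  | cons a L ih =>
    simpa using (h a (by simp)).addFun (ih fun b hb => h b (List.mem_cons_of_mem _ hb))

theorem isLin_co (hD : Good D) (M : List (List ℤ)) (k : ℕ) : IsLin D (co D M k) :=
  isLin_sum _ fun _ hi => (isLin_cartan hD (List.mem_range.1 hi)).smul _

theorem isLin_ht (hD : Good D) (M : List (List ℤ)) : IsLin D (ht D M) :=
  isLin_sum _ fun k _ => isLin_co hD M k

theorem pairing_simple (hD : Good D) {i : ℕ} (hi : i < D.rank) (s : ℕ) :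
    D.pairing (D.simple i) s = D.cartan i s := by
  rw [Chev.pairing_eq_sum, Finset.sum_eq_single (⟨i, hi⟩ : Fin D.rank)]
  · rw [hD.simple_coroot i hi i hi, if_pos rfl, one_mul]
  · intro j _ hj
    rw [hD.simple_coroot i hi j.val j.isLt, if_neg fun e => hj (Fin.ext e), zero_mul]
  · simp

theorem pos_or_neg (hD : Good D) {q : ℕ} (hq : q < D.nroots) :
    D.IsPosRoot (D.neg q) ↔ ¬ D.IsPosRoot q := by
  obtain ⟨o, ho⟩ := hD.order
  rw [ho.pos_iff q hq, ho.pos_iff _ (hD.neg_lt q hq), ho.neg q hq]
  have := ho.ne_zero q hq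
  omega

theorem isNeg_iff (hD : Good D) {q : ℕ} (hq : q < D.nroots) : D.IsNegRoot q ↔ ¬ D.IsPosRoot q := by
  obtain ⟨o, ho⟩ := hD.order
  rw [ho.pos_iff q hq, ho.neg_iff q hq]
  have := ho.ne_zero q hq
  omega

/-- The fundamental reflection on root indices. -/
def wN (D : ChevalleyDatum) (i q : ℕ) : ℕ := Chev.refl D (D.simple i) q

theorem wN_eq_reflectRoot (hD : Good D) {i : ℕ} (hi : i < D.rank) (s : ℕ) :
    wN D i s = D.reflectRoot i s := by
  simp only [wN, Chev.refl, ChevalleyDatum.reflectRoot, pairing_simple hD hi]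

namespace Roots

variable {M : List (List ℤ)} {d : ℤ} (hR : Roots D M d) (hD : Good D)
include hR hD

theorem co_neg {q : ℕ} (hq : q < D.nroots) (k : ℕ) : co D M k (D.neg q) = -co D M k q :=
  (isLin_co hD M k).neg q hq

theorem co_refl {i q : ℕ} (hi : i < D.rank) (hq : q < D.nroots) {k : ℕ} (hk : k < D.rank) :
    co D M k (wN D i q) = co D M k q - if k = i then D.cartan i q * d else 0 := by
  rw [wN, (isLin_co hD M k).refl hD (hD.simple_lt i hi) hq, hR.dual k hk i hi, pairing_simple hD hi]
  split <;> simp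

theorem nonpos_of_not_pos {q : ℕ} (hq : q < D.nroots) (h : ¬ D.IsPosRoot q) {k : ℕ} (hk : k < D.rank) :
    co D M k q ≤ 0 := by
  have := ((hR.sgn _ (hD.neg_lt q hq)).1 ((pos_or_neg hD hq).2 h)) k hk
  rw [hR.co_neg hD hq] at this
  omega

theorem exists_other {q i : ℕ} (hq : q < D.nroots) (hp : D.IsPosRoot q) (hi : i < D.rank)
    (hne : q ≠ D.simple i) : ∃ k < D.rank, k ≠ i ∧ 0 < co D M k q := by
  by_contra h
  push Not at h
  exact hne (hR.sole q hq hp i hi fun k hk hki =>
    le_antisymm (h k hk hki) ((hR.sgn q hq).1 hp k hk))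

theorem pos_simple {i : ℕ} (hi : i < D.rank) : D.IsPosRoot (D.simple i) := by
  rw [hR.sgn _ (hD.simple_lt i hi)]
  intro k hk
  rw [hR.dual k hk i hi]
  split
  · exact hR.d_pos.le
  · exact le_rfl

theorem simple_inj {i j : ℕ} (hi : i < D.rank) (hj : j < D.rank) (h : D.simple i = D.simple j) :
    i = j := by
  by_contra hne
  have h1 := hR.dual i hi i hi
  rw [h, hR.dual i hi j hj, if_neg hne, if_pos rfl] at h1
  exact hR.d_pos.ne h1

theorem pos_refl {i q : ℕ} (hi : i < D.rank) (hq : q < D.nroots) (hp : D.IsPosRoot q)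
    (hne : q ≠ D.simple i) : D.IsPosRoot (wN D i q) := by
  obtain ⟨k, hk, hki, hpos⟩ := hR.exists_other hD hq hp hi hne
  by_contra h
  have h1 := hR.nonpos_of_not_pos hD (refl_lt hD (hD.simple_lt i hi) hq) h hk
  rw [show Chev.refl D (D.simple i) q = wN D i q from rfl, hR.co_refl hD hi hq hk, if_neg hki] at h1
  omega

omit hR hD in
theorem foldl_congr {f g : ℕ → ℤ} : ∀ (L : List ℕ), (∀ k ∈ L, f k = g k) → ∀ a : ℤ,
    L.foldl (fun a k => a * 64 + f k) a = L.foldl (fun a k => a * 64 + g k) a
  | [], _, _ => rfl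
  | x :: L, h, a => by
    rw [List.foldl_cons, List.foldl_cons, h x (by simp)]
    exact foldl_congr L (fun k hk => h k (List.mem_cons_of_mem _ hk)) _

omit hD in
/-- A root is determined by its coefficients. -/
theorem root_ext {p q : ℕ} (hp : p < D.nroots) (hq : q < D.nroots)
    (h : ∀ k < D.rank, co D M k p = co D M k q) : p = q := by
  have hlt : ∀ j a : ℕ, a + j + 1 < D.nroots → key D M a < key D M (a + j + 1) := by
    intro j
    induction j with
    | zero => intro a h; exact hR.key_mono a (by omega)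
    | succ j ih => intro a h; exact (ih a (by omega)).trans (hR.key_mono _ (by omega))
  have he : key D M p = key D M q := foldl_congr _ (fun k hk => h k (List.mem_range.1 hk)) 0
  rcases Nat.lt_trichotomy p q with h' | h' | h'
  · have := hlt (q - p - 1) p (by omega)
    rw [show p + (q - p - 1) + 1 = q by omega] at this
    omega
  · exact h'
  · have := hlt (p - q - 1) q (by omega)
    rw [show q + (p - q - 1) + 1 = p by omega] at this
    omega

theorem refl_neg {i q : ℕ} (hi : i < D.rank) (hq : q < D.nroots) :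
    wN D i (D.neg q) = D.neg (wN D i q) := by
  have hs := hD.simple_lt i hi
  refine hR.root_ext (refl_lt hD hs (hD.neg_lt q hq)) (hD.neg_lt _ (refl_lt hD hs hq)) fun k hk => ?_
  rw [hR.co_neg hD (show wN D i q < D.nroots from refl_lt hD hs hq), hR.co_refl hD hi (hD.neg_lt q hq) hk,
    hR.co_refl hD hi hq hk,
    hR.co_neg hD hq, hD.cartan_neg q hq i hi]
  split <;> ring

theorem ht_refl {i q : ℕ} (hi : i < D.rank) (hq : q < D.nroots) :
    ht D M (wN D i q) = ht D M q - D.cartan i q * d := by
  have hsum : ∀ L : List ℕ, L.Nodup → (∀ k ∈ L, k < D.rank) →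
      (L.map fun k => co D M k (wN D i q)).sum
        = (L.map fun k => co D M k q).sum - if i ∈ L then D.cartan i q * d else 0 := by
    intro L
    induction L with
    | nil => simp
    | cons a L ih =>
      intro hnd hlt
      rw [List.nodup_cons] at hnd
      simp only [List.map_cons, List.sum_cons, hR.co_refl hD hi hq (hlt a (by simp)),
        ih hnd.2 fun k hk => hlt k (List.mem_cons_of_mem _ hk), List.mem_cons]
      by_cases hai : a = i
      · subst hai
        simp [hnd.1]
        ring
      · simp [hai, Ne.symm hai]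
        ring
  have h1 := hsum _ List.nodup_range fun k hk => List.mem_range.1 hk
  rwa [if_pos (List.mem_range.2 hi)] at h1

theorem exists_descend {q : ℕ} (hq : q < D.nroots) (hp : D.IsPosRoot q)
    (hne : ∀ i < D.rank, q ≠ D.simple i) :
    ∃ i < D.rank, D.IsPosRoot (wN D i q) ∧ ht D M (wN D i q) < ht D M q := by
  obtain ⟨i, hi, hc⟩ := hR.descend q hq hp hne
  refine ⟨i, hi, hR.pos_refl hD hi hq hp (hne i hi), ?_⟩
  rw [hR.ht_refl hD hi hq]
  nlinarith [hR.d_pos]

/-- Induction over positive roots along fundamental reflections. -/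
theorem pos_induction {P : ℕ → Prop} (hs : ∀ i < D.rank, P (D.simple i))
    (hw : ∀ i < D.rank, ∀ q < D.nroots, P q → P (wN D i q)) {q : ℕ} (hq : q < D.nroots)
    (hp : D.IsPosRoot q) : P q := by
  induction hn : (ht D M q).toNat using Nat.strong_induction_on generalizing q with
  | _ m ih =>
    by_cases h : ∃ i < D.rank, q = D.simple i
    · obtain ⟨i, hi, rfl⟩ := h; exact hs i hi
    push Not at h
    obtain ⟨i, hi, hpos, hlt⟩ := hR.exists_descend hD hq hp h
    have hwlt : wN D i q < D.nroots := refl_lt hD (hD.simple_lt i hi) hq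
    have h0 := hR.ht_pos _ hwlt hpos
    have := hw i hi _ hwlt (ih (ht D M (wN D i q)).toNat (by omega) hwlt hpos rfl)
    rwa [wN, wN, refl_refl hD (hD.simple_lt i hi) hq] at this

end Roots

end Cfsg.Agent.ChevBN
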