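import Cfsg.Agent.Lib.ChevBN.Facts

/-!
# First facts on `U`, `V`, `B`, `N` in a Chevalley group

`group_eq_sup`, `monomial_le_group`, `borel_sup_monomial`, `pos_inf_monomial`, `borel_inf_monomial`.
-/

set_option autoImplicit false

namespace Cfsg.Agent.ChevBN

open Cfsg.Lie Cfsg.Lie.ChevalleyDatum Cfsg.Agent.Chev Cfsg.Agent.ChevSt

variable {D : ChevalleyDatum} {M : List (List ℤ)} {d : ℤ} (hD : Good D) (hR : Roots D M d)
  {F : Type*} [Field F]

include hD

theorem group_eq_sup : D.posUnipotent F ⊔ D.negUnipotent F = D.group F := by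
  refine le_antisymm (sup_le ((Subgroup.closure_le _).2 ?_) ((Subgroup.closure_le _).2 ?_))
    ((Subgroup.closure_le _).2 ?_)
  · rintro g ⟨r, t, -, e⟩
    obtain rfl : g = xg hD F r t := Units.ext e
    exact xg_mem_group hD r t
  · rintro g ⟨r, t, -, e⟩
    obtain rfl : g = xg hD F r t := Units.ext e
    exact xg_mem_group hD r t
  · rintro g ⟨r, t, e⟩
    obtain rfl : g = xg hD F r.val t := Units.ext (by rw [e]; simp [ChevalleyDatum.x])
    by_cases hp : D.IsPosRoot r.val
    · exact Subgroup.mem_sup_left (Subgroup.subset_closure ⟨r.val, t, hp, coe_xg hD _ _⟩)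
    · exact Subgroup.mem_sup_right
        (Subgroup.subset_closure ⟨r.val, t, (isNeg_iff hD r.isLt).2 hp, coe_xg hD _ _⟩)

include hR

theorem borel_monomial :
    D.borelSubgroup F ≤ D.group F ∧ D.monomialSubgroup F ≤ D.group F ∧
      D.borelSubgroup F ⊔ D.monomialSubgroup F = D.group F := by
  refine ⟨borel_le_group hD hR, ?_, ?_⟩
  · rw [← chev_N hD hR, ← chev_G hD hR]
    exact (chevRGD hD hR F).N_le_G
  · rw [← chev_N hD hR, ← chev_B hD hR, ← chev_G hD hR]
    rfl

theorem inf_monomial :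
    D.posUnipotent F ⊓ D.monomialSubgroup F = ⊥ ∧
      D.borelSubgroup F ⊓ D.monomialSubgroup F = D.diagonalSubgroup F := by
  have hB : D.borelSubgroup F ⊓ D.monomialSubgroup F = D.diagonalSubgroup F := by
    rw [← chev_N hD hR, ← chev_B hD hR]
    exact (chevRGD hD hR F).B_inf_N
  refine ⟨?_, hB⟩
  rw [eq_bot_iff, ← pos_inf_diag hD hR (F := F)]
  exact le_inf inf_le_left (le_trans (inf_le_inf_right _ le_sup_left) hB.le)

end Cfsg.Agent.ChevBN
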