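import Cfsg.Agent.Lib.ChevBN.Weyl

/-!
# The tabulated Cartan matrices match the Coxeter matrices
-/

set_option autoImplicit false
set_option maxRecDepth 100000

namespace Cfsg.Agent.ChevBN

open Cfsg.Lie

/-- The Cartan matrix read off a datum, on `Fin n`. -/
def cartanFin (D : ChevalleyDatum) (n : ℕ) (i j : Fin n) : ℤ := D.cartan i.val (D.simple j.val)

theorem isCartan_of_check {n : ℕ} {C : CoxeterMatrix (Fin n)} {A : Fin n → Fin n → ℤ}
    (h : ∀ i j, (i = j → A i j = 2) ∧ (i ≠ j → (C i j, A i j, A j i) ∈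
      ([(2, 0, 0), (3, -1, -1), (4, -1, -2), (4, -2, -1), (6, -1, -3), (6, -3, -1)] : List (ℕ × ℤ × ℤ)))) :
    Coxeter.IsCartan C A :=
  ⟨fun i => (h i i).1 rfl, fun i j => (h i j).2⟩

theorem cartanG2 : Coxeter.IsCartan CoxeterMatrix.G₂ (cartanFin chevG2 2) :=
  isCartan_of_check (by decide +kernel)
theorem cartanB2 : Coxeter.IsCartan (CoxeterMatrix.B 2) (cartanFin chevB2 2) :=
  isCartan_of_check (by decide +kernel)
theorem cartanD4 : Coxeter.IsCartan Lie.coxeterD4 (cartanFin chevD4 4) :=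
  isCartan_of_check (by decide +kernel)
theorem cartanF4 : Coxeter.IsCartan CoxeterMatrix.F₄ (cartanFin chevF4 4) :=
  isCartan_of_check (by decide +kernel)
theorem cartanE6 : Coxeter.IsCartan CoxeterMatrix.E₆ (cartanFin chevE6 6) :=
  isCartan_of_check (by decide +kernel)
theorem cartanE7 : Coxeter.IsCartan CoxeterMatrix.E₇ (cartanFin chevE7 7) :=
  isCartan_of_check (by decide +kernel)
theorem cartanE8 : Coxeter.IsCartan CoxeterMatrix.E₈ (cartanFin chevE8 8) :=
  isCartan_of_check (by decide +kernel)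

end Cfsg.Agent.ChevBN
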