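import Cfsg.Agent.Lib.ChevBN.Basics
import Cfsg.Agent.Lib.ChevSt.BothPos
import Mathlib.GroupTheory.PGroup

/-!
# Pairs of conjugates of the highest root subgroup

* `isPGroup_of_pos`: root subgroups positive at a linear function generate a `p`-group in characteristic `p`;
* `highest_facts`: the last root is the highest one, and its negative has index `0`;
* `highest_pair`: two conjugates of the highest root subgroup generate a `p`-group or are conjugate to the
  pair (highest, lowest).
-/

set_option autoImplicit false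

namespace Cfsg.Agent.ChevBN

open Cfsg.Lie Cfsg.Lie.ChevalleyDatum Cfsg.Agent.Chev Cfsg.Agent.ChevSt

variable {D : ChevalleyDatum} {M : List (List ℤ)} {d : ℤ} (hD : Good D) (hR : Roots D M d)
  {F : Type*} [Field F]

theorem uTri_sub_one_pow {f : ℕ → ℤ} {N : Matrix D.Idx D.Idx F} (h : UTri D f N) :
    ∀ (n : ℕ) (a b : D.Idx), ((N - 1) ^ n) a b ≠ 0 → (n : ℤ) ≤ wt D f a - wt D f b := by
  intro n
  induction n with
  | zero =>
    intro a b hab
    rw [pow_zero] at hab
    obtain rfl : a = b := by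
      by_contra hne
      exact hab (Matrix.one_apply_ne hne)
    simp
  | succ n ih =>
    intro a b hab
    rw [pow_succ, Matrix.mul_apply] at hab
    obtain ⟨c, -, hc⟩ := Finset.exists_ne_zero_of_sum_ne_zero hab
    have h1 := ih a c (left_ne_zero_of_mul hc)
    have h2 := right_ne_zero_of_mul hc
    by_cases hcb : c = b
    · subst hcb
      exact absurd (by simp [Matrix.sub_apply, h.2 c]) h2
    · rw [Matrix.sub_apply, Matrix.one_apply_ne hcb, sub_zero] at h2
      rcases h.1 c b h2 with e | e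
      · exact absurd e hcb
      · push_cast
        omega

include hD in
theorem isPGroup_of_pos (p : ℕ) [Fact p.Prime] [CharP F p] {f : ℕ → ℤ} (hf : IsLin D f)
    {K : Subgroup (GL D.Idx F)}
    (hK : K ≤ Subgroup.closure {g : GL D.Idx F | ∃ (r : ℕ) (t : F), r < D.nroots ∧ 0 < f r ∧
      (g : Matrix D.Idx D.Idx F) = D.x F r t}) :
    IsPGroup p K := by
  rintro ⟨g, hg⟩
  have hu := uTri_closure hD hf (hK hg)
  set B : ℕ := ∑ a : D.Idx, (wt D f a).natAbs with hB
  have hbound : ∀ a : D.Idx, (wt D f a).natAbs ≤ B := fun a =>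
    Finset.single_le_sum (fun b _ => Nat.zero_le ((wt D f b).natAbs)) (Finset.mem_univ a)
  rcases isEmpty_or_nonempty D.Idx with hI | hI
  · exact ⟨0, Subtype.ext (Units.ext (Subsingleton.elim _ _))⟩
  refine ⟨2 * B + 1, Subtype.ext (Units.ext ?_)⟩
  have hp : 2 * B + 1 < p ^ (2 * B + 1) := Nat.lt_pow_self (Fact.out : p.Prime).one_lt
  have h0 : ((g : Matrix D.Idx D.Idx F) - 1) ^ (p ^ (2 * B + 1)) = 0 := by
    ext a b
    by_contra hne
    have h1 := uTri_sub_one_pow hu _ a b hne
    have h2 := hbound a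
    have h3 := hbound b
    omega
  simp only [SubmonoidClass.mk_pow, Units.val_pow_eq_pow_val, OneMemClass.coe_one, Units.val_one]
  conv_lhs => rw [show (g : Matrix D.Idx D.Idx F) = 1 + ((g : Matrix D.Idx D.Idx F) - 1) by abel]
  rw [add_pow_char_pow_of_commute _ _ (Commute.one_left _), one_pow, h0, add_zero]

include hD in
/-- The last root is the highest one. -/
theorem highest_facts (h0 : 0 < D.nroots) :
    ∃ o, OrdOK D o ∧ (∀ q < D.nroots, o q ≤ o (D.nroots - 1)) ∧ D.IsPosRoot (D.nroots - 1) ∧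
      D.neg (D.nroots - 1) = 0 := by
  obtain ⟨o, ho⟩ := hD.order
  set α := D.nroots - 1 with hα
  have hαlt : α < D.nroots := by omega
  have hmax : ∀ q < D.nroots, o q ≤ o α := by
    intro q hq
    rcases Nat.lt_or_ge q α with h | h
    · exact (ho.mono q hq α hαlt h).le
    · rw [show q = α by omega]
  refine ⟨o, ho, hmax, (ho.pos_iff α hαlt).2 ?_, ?_⟩
  · have h1 := hmax 0 h0
    have h2 := hmax _ (hD.neg_lt 0 h0)
    rw [ho.neg 0 h0] at h2
    have := ho.ne_zero 0 h0
    omega
  · by_contra hne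
    have hn := hD.neg_lt α hαlt
    have h1 := ho.mono 0 h0 _ hn (Nat.pos_of_ne_zero hne)
    have h2 := hmax _ (hD.neg_lt 0 h0)
    rw [ho.neg 0 h0] at h2
    rw [ho.neg α hαlt] at h1
    omega

include hD in
/-- The highest root element commutes with every positive root element. -/
theorem highest_commute {α : ℕ} (hα : α < D.nroots) {o : ℕ → ℤ} (ho : OrdOK D o)
    (hmax : ∀ q < D.nroots, o q ≤ o α) (hαp : D.IsPosRoot α) {q : ℕ} (hq : q < D.nroots)
    (hqp : D.IsPosRoot q) (t u : F) :
    xg hD F α t * xg hD F q u = xg hD F q u * xg hD F α t := by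
  by_cases h1 : q = α
  · subst h1
    rw [xg_add hD hα, xg_add hD hα, add_comm]
  have h2 : q ≠ D.neg α := fun e => (pos_or_neg hD hα).1 (e ▸ hqp) hαp
  have hempty : D.commTerms α q = [] := by
    rw [List.eq_nil_iff_forall_not_mem]
    intro τ hτ
    obtain ⟨hlt, hi, hj, hval⟩ := (show IsLin D o from ⟨ho.add, ho.neg⟩).commTerms hD hα hq h1 h2 hτ
    have := hmax _ hlt
    have hoq := (ho.pos_iff q hq).1 hqp
    have hoa := (ho.pos_iff α hα).1 hαp
    rw [hval] at this
    have h3 : (1 : ℤ) * o α ≤ (τ.2.2.1 : ℤ) * o α :=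
      mul_le_mul_of_nonneg_right (by exact_mod_cast hi) hoa.le
    have h4 : (1 : ℤ) * o q ≤ (τ.2.2.2 : ℤ) * o q :=
      mul_le_mul_of_nonneg_right (by exact_mod_cast hj) hoq.le
    linarith
  apply Units.ext
  have h := hD.commutator (F := F) hα hq h1 h2 (t := t) (u := u)
  simp [ChevalleyDatum.commWord, hempty, ChevalleyDatum.wordMat] at h
  rw [Units.val_mul, Units.val_mul, coe_xg, coe_xg]
  exact h.symm

include hD hR in
theorem highest_pair (p : ℕ) [Fact p.Prime] [CharP F p] (h0 : 0 < D.nroots) (g : GL D.Idx F)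
    (hg : g ∈ D.group F) :
    IsPGroup p ↥(D.rootSubgroup F (D.nroots - 1) ⊔
        (D.rootSubgroup F (D.nroots - 1)).map (MulAut.conj g).toMonoidHom) ∨
    ∃ h ∈ D.group F, (D.rootSubgroup F (D.nroots - 1) ⊔
        (D.rootSubgroup F (D.nroots - 1)).map (MulAut.conj g).toMonoidHom).map
          (MulAut.conj h).toMonoidHom = D.rootSubgroup F (D.nroots - 1) ⊔ D.rootSubgroup F 0 := by
  obtain ⟨o, ho, hmax, hαp, hneg⟩ := highest_facts hD h0
  set R := chevRGD hD hR F with hRdef
  set α : Fin D.nroots := ⟨D.nroots - 1, by omega⟩ with hαdef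
  change IsPGroup p ↥(R.U α ⊔ (R.U α).map (MulAut.conj g).toMonoidHom) ∨
    ∃ h ∈ D.group F, (R.U α ⊔ (R.U α).map (MulAut.conj g).toMonoidHom).map (MulAut.conj h).toMonoidHom =
      R.U α ⊔ D.rootSubgroup F 0
  -- `B` normalises the highest root subgroup
  have hB : R.B ≤ Subgroup.normalizer (R.U α : Set (GL D.Idx F)) := by
    refine sup_le (R.span_le fun r hr x hx => ?_) fun x hx => ?_
    · obtain ⟨u, rfl⟩ := (mem_rootSubgroup hD _).1 hx
      have key : ∀ y ∈ R.U α, xg hD F r.val u * y = y * xg hD F r.val u := by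
        intro y hy
        obtain ⟨t, rfl⟩ := (mem_rootSubgroup hD _).1 hy
        exact (highest_commute hD α.isLt ho hmax hαp r.isLt hr t u).symm
      rw [Subgroup.mem_normalizer_iff]
      intro y
      constructor
      · intro hy
        rwa [key y hy, mul_inv_cancel_right]
      · intro hy
        have e := key _ hy
        have e2 : xg hD F r.val u * y * (xg hD F r.val u)⁻¹ = y := by
          rw [inv_mul_cancel_right] at e
          exact mul_left_cancel e
        rwa [e2] at hy
    · rw [Subgroup.mem_normalizer_iff]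
      intro y
      constructor
      · exact R.H_conj_U x hx α y
      · intro hy
        simpa [mul_assoc] using R.H_conj_U _ (inv_mem hx) α _ hy
  have hfix : ∀ b ∈ R.B, (R.U α).map (MulAut.conj b).toMonoidHom = R.U α := fun b hb =>
    RGD.RootData.map_conj_eq b (fun x hx => (Subgroup.mem_normalizer_iff.1 (hB hb) x).1 hx)
      fun y hy => by simpa using (Subgroup.mem_normalizer_iff.1 (hB (inv_mem hb)) y).1 hy
  rw [← chev_G hD hR] at hg ⊢
  obtain ⟨b, hb, l, u, hu, rfl⟩ := R.exists_normalForm hg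
  set β := R.ww l α with hβ
  have hX : R.U α ⊔ (R.U α).map (MulAut.conj (b * R.nw l * u)).toMonoidHom =
      (R.U α ⊔ R.U β).map (MulAut.conj b).toMonoidHom := by
    rw [RGD.RootData.map_conj_mul, RGD.RootData.map_conj_mul, hfix u (R.Upos_le_B (R.Uminus_le_Upos l hu)), R.map_conj_U,
      Subgroup.map_sup, hfix b hb]
  rw [hX]
  have pGroup : ∀ f : ℕ → ℤ, IsLin D f → 0 < f α.val → 0 < f β.val →
      IsPGroup p ↥((R.U α ⊔ R.U β).map (MulAut.conj b).toMonoidHom) := by
    intro f hf h1 h2
    refine (isPGroup_of_pos hD p hf (K := R.U α ⊔ R.U β)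
      (sup_le (Subgroup.closure_mono ?_) (Subgroup.closure_mono ?_))).map _
    · rintro x ⟨t, ht⟩; exact ⟨α.val, t, α.isLt, h1, ht⟩
    · rintro x ⟨t, ht⟩; exact ⟨β.val, t, β.isLt, h2, ht⟩
  by_cases hβn : β.val = D.neg α.val
  · right
    refine ⟨b⁻¹, inv_mem (R.B_le_G hb), ?_⟩
    rw [← RGD.RootData.map_conj_mul, inv_mul_cancel, RGD.RootData.map_conj_one]
    show R.U α ⊔ D.rootSubgroup F β.val = _
    rw [hβn]
    show R.U α ⊔ D.rootSubgroup F (D.neg (D.nroots - 1)) = _
    rw [hneg]
  left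
  by_cases hβα : β.val = α.val
  · have hpos := (ho.pos_iff α.val α.isLt).1 hαp
    exact pGroup o ⟨ho.add, ho.neg⟩ hpos (by rw [hβα]; exact hpos)
  · obtain ⟨f, hf, f1, f2⟩ := exists_both_pos' hD hR α.isLt β.isLt hβα hβn
    exact pGroup f hf f1 f2

end Cfsg.Agent.ChevBN
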