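import Cfsg.Agent.Lib.ChevBN.Torus

/-!
# Chevalley groups are perfect

`commutator_group_eq_top`: from `Good D` and per-root table checks (`SmallOK` for fields with `±1` as only
units and `-1 ≠ 1`, `TwoOK` for the field with two elements).
-/

set_option autoImplicit false

namespace Cfsg.Agent.ChevBN

open Cfsg.Lie Cfsg.Lie.ChevalleyDatum Cfsg.Agent.Chev Cfsg.Agent.ChevSt
open scoped Matrix

/-- The commutator formula for `(r, s)` has the single term `x_q(c)`, `c = ±1` or (`two`) `±2`. -/
def SingleTerm (D : ChevalleyDatum) (two : Bool) (r s q : ℕ) : Bool :=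
  decide (s ≠ r) && decide (s ≠ D.neg r) &&
    match D.commTerms r s with
    | [(q', c, 1, 1)] => decide (q' = q) && (decide (c.natAbs = 1) || (two && decide (c.natAbs = 2)))
    | _ => false

/-- The check for fields whose only units are `±1`, `-1 ≠ 1`, with a witness `p`. -/
def SmallOK (D : ChevalleyDatum) (p : ℕ × ℕ) (q : ℕ) : Bool :=
  decide (p.1 < D.nroots) && decide (p.2 < D.nroots) &&
    ((decide (p.1 = p.2) && decide (D.pairing p.1 q % 2 = 1)) || SingleTerm D true p.1 p.2 q)

/-- The check for the field with two elements, with a witness `p`. -/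
def TwoOK (D : ChevalleyDatum) (p : ℕ × ℕ) (q : ℕ) : Bool :=
  decide (p.1 < D.nroots) && decide (p.2 < D.nroots) && SingleTerm D false p.1 p.2 q

variable {D : ChevalleyDatum} (hD : Good D) {F : Type*} [Field F]

include hD

theorem hg_mem_group (r : ℕ) (t : F) : hg hD F r t ∈ D.group F :=
  mul_mem (mul_mem (mul_mem (xg_mem_group hD _ _) (xg_mem_group hD _ _)) (xg_mem_group hD _ _))
    (mul_mem (mul_mem (xg_mem_group hD _ _) (xg_mem_group hD _ _)) (xg_mem_group hD _ _))

theorem mem_commutator_of_hg {r q : ℕ} (hr : r < D.nroots) (hq : q < D.nroots) {t : F} (ht : t ≠ 0)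
    (h : t ^ D.pairing r q ≠ 1) (v : F) : xg hD F q v ∈ ⁅D.group F, D.group F⁆ := by
  have hm := Subgroup.commutator_mem_commutator (hg_mem_group hD r t)
    (xg_mem_group hD q ((t ^ D.pairing r q - 1)⁻¹ * v))
  rw [commutatorElement_def, hg_conj hD hr ht, mul_inv_cancel_right, xg_inv, xg_add hD hq] at hm
  convert hm using 2
  field_simp [sub_ne_zero.2 h]
  ring

theorem mem_commutator_of_single {two : Bool} {r s q : ℕ} (hr : r < D.nroots) (hs : s < D.nroots)
    (h : SingleTerm D two r s q = true) (h2 : two = true → (2 : F) ≠ 0) (v : F) :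
    xg hD F q v ∈ ⁅D.group F, D.group F⁆ := by
  simp only [SingleTerm, Bool.and_eq_true, decide_eq_true_eq] at h
  obtain ⟨⟨h₁, h₂⟩, h3⟩ := h
  split at h3
  case h_2 => exact absurd h3 Bool.false_ne_true
  case h_1 q' c e =>
    simp only [Bool.and_eq_true, Bool.or_eq_true, decide_eq_true_eq] at h3
    obtain ⟨rfl, hc⟩ := h3
    have hc0 : (c : F) ≠ 0 := by
      rcases hc with hc | ⟨ht, hc⟩
      · rcases Int.natAbs_eq_iff.1 hc with rfl | rfl <;> simp
      · rcases Int.natAbs_eq_iff.1 hc with rfl | rfl <;> simp [h2 ht]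
    set u : F := (c : F)⁻¹ * -v with hu
    have e' : xg hD F s u * xg hD F r 1 = xg hD F r 1 * xg hD F s u * xg hD F q' v := by
      apply Units.ext
      rw [Units.val_mul, Units.val_mul, Units.val_mul, coe_xg, coe_xg, coe_xg,
        hD.commutator hr hs h₁ h₂, ChevalleyDatum.commWord, e]
      simp only [List.map_cons, List.map_nil, pow_one]
      rw [show (c : F) * (-1) * u = v by rw [hu]; field_simp]
      simp [ChevalleyDatum.wordMat]
    have hm := Subgroup.commutator_mem_commutator (inv_mem (xg_mem_group hD (F := F) s u))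
      (inv_mem (xg_mem_group hD (F := F) r 1))
    rw [commutatorElement_def, inv_inv, inv_inv, mul_assoc, e'] at hm
    simpa [mul_assoc] using hm

theorem commutator_group_eq_top
    (h2 : (∀ q < D.nroots, ∃ p, TwoOK D p q = true) ∨ ∃ a : F, a ≠ 0 ∧ a ≠ 1)
    (h3 : ∀ q < D.nroots, ∃ p, SmallOK D p q = true) (hpair : ∀ q < D.nroots, D.pairing q q = 2) :
    commutator ↥(D.group F) = ⊤ := by
  have key : ∀ q < D.nroots, ∀ v, xg hD F q v ∈ ⁅D.group F, D.group F⁆ := by
    intro q hq v
    by_cases hbig : ∃ t : F, t ≠ 0 ∧ t * t ≠ 1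
    · obtain ⟨t, ht, htt⟩ := hbig
      refine mem_commutator_of_hg hD hq hq ht ?_ v
      rwa [hpair q hq, zpow_ofNat, sq]
    by_cases hneg : (-1 : F) = 1
    · rcases h2 with h2 | ⟨a, ha0, ha1⟩
      · obtain ⟨p, h⟩ := h2 q hq
        simp only [TwoOK, Bool.and_eq_true, decide_eq_true_eq] at h
        obtain ⟨⟨hr, hs⟩, h⟩ := h
        exact mem_commutator_of_single hD hr hs h (fun e => absurd e Bool.false_ne_true) v
      · exfalso
        refine hbig ⟨a, ha0, fun e => ?_⟩
        rcases mul_self_eq_one_iff.1 e with h | h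
        · exact ha1 h
        · exact ha1 (h.trans hneg)
    · obtain ⟨p, h⟩ := h3 q hq
      simp only [SmallOK, Bool.and_eq_true, Bool.or_eq_true, decide_eq_true_eq] at h
      obtain ⟨⟨hr, hs⟩, ⟨-, h⟩ | h⟩ := h
      · refine mem_commutator_of_hg hD hr hq (neg_ne_zero.2 one_ne_zero) ?_ v
        rw [(Int.odd_iff.2 h).neg_one_zpow]
        exact hneg
      · refine mem_commutator_of_single hD hr hs h (fun _ e => hneg ?_) v
        linear_combination -e
  have hle : D.group F ≤ ⁅D.group F, D.group F⁆ := by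
    refine (Subgroup.closure_le _).2 ?_
    rintro g ⟨r, t, e⟩
    obtain rfl : g = xg hD F r.val t := Units.ext (by rw [e]; simp [ChevalleyDatum.x])
    exact key r.val r.isLt t
  apply Subgroup.map_injective (D.group F).subtype_injective
  rw [commutator_def, Subgroup.map_commutator]
  simp only [← MonoidHom.range_eq_map, Subgroup.range_subtype]
  exact le_antisymm (Subgroup.commutator_le.2 fun a ha b hb =>
    mul_mem (mul_mem (mul_mem ha hb) (inv_mem ha)) (inv_mem hb)) hle

end Cfsg.Agent.ChevBN
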