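import Cfsg.Agent.Lib.ChevBN.Instance

/-!
# The Borel subgroup is solvable

`Ulev k` is generated by the root subgroups of height `≥ k`; `⁅Ulev k, Ulev k⁆ ≤ Ulev (k + 1)` for `1 ≤ k`,
`⁅B, B⁆ ≤ Ulev 1`; hence `borel_isSolvable`.
-/

set_option autoImplicit false

namespace Cfsg.Agent.ChevBN

open Cfsg.Lie Cfsg.Lie.ChevalleyDatum Cfsg.Agent.Chev Cfsg.Agent.ChevSt
open scoped commutatorElement

variable (D : ChevalleyDatum) (M : List (List ℤ)) (F : Type*) [Field F]

/-- The subgroup generated by the root subgroups of height at least `k`. -/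
def Ulev (k : ℤ) : Subgroup (GL D.Idx F) :=
  ⨆ s ∈ {s : Fin D.nroots | k ≤ ht D M s.val}, D.rootSubgroup F s.val

variable {D M F} {d : ℤ} (hD : Good D) (hR : Roots D M d)
include hD

omit hD in
theorem Ulev_mono {j k : ℤ} (h : j ≤ k) : Ulev D M F k ≤ Ulev D M F j :=
  biSup_mono fun _ hs => le_trans h hs

theorem xg_mem_Ulev {s : ℕ} (hs : s < D.nroots) {k : ℤ} (h : k ≤ ht D M s) (v : F) :
    xg hD F s v ∈ Ulev D M F k :=
  (le_biSup (fun s : Fin D.nroots => D.rootSubgroup F s.val) (show (⟨s, hs⟩ : Fin D.nroots) ∈ _ from h))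
    (xg_mem_rootSubgroup hD _ v)

omit hD in
theorem Ulev_le {k : ℤ} {K : Subgroup (GL D.Idx F)}
    (h : ∀ s : Fin D.nroots, k ≤ ht D M s.val → D.rootSubgroup F s.val ≤ K) : Ulev D M F k ≤ K :=
  iSup₂_le h

/-- A root element moves a higher one into its height. -/
theorem commutator_root {r s : ℕ} (hr : r < D.nroots) (hs : s < D.nroots) {a : ℤ}
    (hr1 : 1 ≤ ht D M r) (hs1 : 1 ≤ ht D M s) (ha : a ≤ ht D M r + ht D M s) (t u : F) :
    ⁅xg hD F s (-u), xg hD F r t⁆ ∈ Ulev D M F a := by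
  by_cases h1 : s = r
  · subst h1
    rw [commutatorElement_def, xg_inv, xg_inv, xg_add hD hr, xg_add hD hr, xg_add hD hr,
      show -u + t + -(-u) + -t = 0 by ring, xg_zero]
    exact one_mem _
  have h2 : s ≠ D.neg r := by
    rintro rfl
    rw [(isLin_ht hD M).neg r hr] at hs1
    omega
  set w : List (GL D.Idx F) := (D.commWord F r s (-t) u).map fun p => xg hD F p.1 p.2 with hw
  have hc : xg hD F s u * xg hD F r (-t) = xg hD F r (-t) * xg hD F s u * w.prod := by
    apply Units.ext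
    rw [Units.val_mul, Units.val_mul, Units.val_mul, coe_xg, coe_xg, hD.commutator hr hs h1 h2,
      ← Units.coeHom_apply w.prod, map_list_prod, hw, List.map_map]
    rfl
  have hwm : w.prod ∈ Ulev D M F a := list_prod_mem fun g hg' => by
    simp only [hw, ChevalleyDatum.commWord, List.map_map, List.mem_map, Function.comp_apply] at hg'
    obtain ⟨τ, hτ, rfl⟩ := hg'
    obtain ⟨hlt, hi, hj, hval⟩ := (isLin_ht hD M).commTerms hD hr hs h1 h2 hτ
    refine xg_mem_Ulev hD hlt ?_ _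
    rw [hval]
    have hi' : (1 : ℤ) ≤ (τ.2.2.1 : ℤ) := by exact_mod_cast hi
    have hj' : (1 : ℤ) ≤ (τ.2.2.2 : ℤ) := by exact_mod_cast hj
    nlinarith
  have e : ⁅xg hD F s (-u), xg hD F r t⁆ = w.prod := by
    rw [commutatorElement_def, mul_assoc (xg hD F s (-u) * xg hD F r t), xg_inv, xg_inv,
      _root_.neg_neg, hc, ← mul_assoc, ← mul_assoc, mul_assoc (xg hD F s (-u)),
      xg_add hD hr, add_neg_cancel, xg_zero, mul_one, xg_add hD hs, neg_add_cancel, xg_zero, one_mul]
  rw [e]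
  exact hwm

/-- Raising: `x_s(u)` maps `Ulev k` into itself. -/
theorem conj_Ulev {s : ℕ} (hs : s < D.nroots) (hs1 : 1 ≤ ht D M s) (u : F) {k : ℤ} (hk : 1 ≤ k) :
    ∀ y ∈ Ulev D M F k, xg hD F s u * y * (xg hD F s u)⁻¹ ∈ Ulev D M F k := by
  intro y hy
  refine (Ulev_le (K := (Ulev D M F k).comap (MulAut.conj (xg hD F s u)).toMonoidHom) (fun r hr x hx => ?_) :
    Ulev D M F k ≤ _) hy
  obtain ⟨t, rfl⟩ := (mem_rootSubgroup hD _).1 hx
  show xg hD F s u * xg hD F r.val t * (xg hD F s u)⁻¹ ∈ Ulev D M F k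
  have h := commutator_root (M := M) hD r.isLt hs (a := k) (by omega) hs1 (by omega) t (-u)
  rw [_root_.neg_neg] at h
  have h2 := mul_mem h (xg_mem_Ulev hD r.isLt hr t)
  rwa [commutatorElement_def, inv_mul_cancel_right] at h2

theorem conj_Ulev_of_mem {x : GL D.Idx F} (hx : x ∈ Ulev D M F 1) {k : ℤ} (hk : 1 ≤ k) :
    ∀ y ∈ Ulev D M F k, x * y * x⁻¹ ∈ Ulev D M F k := by
  rw [Ulev, span_eq_closure] at hx
  induction hx using Subgroup.closure_induction'' with
  | mem x hx =>
    obtain ⟨s, t, hs, e⟩ := hx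
    obtain rfl : x = xg hD F s.val t := Units.ext e
    exact conj_Ulev hD s.isLt hs t hk
  | inv_mem x hx =>
    obtain ⟨s, t, hs, e⟩ := hx
    obtain rfl : x = xg hD F s.val t := Units.ext e
    rw [xg_inv]
    exact conj_Ulev hD s.isLt hs _ hk
  | one => intro y hy; simpa using hy
  | mul a b _ _ ha hb =>
    intro y hy
    rw [show a * b * y * (a * b)⁻¹ = a * (b * y * b⁻¹) * a⁻¹ by group]
    exact ha _ (hb y hy)

theorem commutator_Ulev {k : ℤ} (hk : 1 ≤ k) :
    ⁅Ulev D M F k, Ulev D M F k⁆ ≤ Ulev D M F (k + 1) := by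
  rw [Subgroup.commutator_le]
  set K := Ulev D M F (k + 1) with hK
  have h1 : Ulev D M F k ≤ Ulev D M F 1 := Ulev_mono hk
  have cl : ∀ a ∈ Ulev D M F k, ∀ y ∈ K, a * y * a⁻¹ ∈ K := fun a ha =>
    conj_Ulev_of_mem hD (h1 ha) (by omega)
  -- a generator against everything
  have step : ∀ (s : Fin D.nroots) (t : F), k ≤ ht D M s.val →
      ∀ b ∈ Ulev D M F k, ⁅b, xg hD F s.val t⁆ ∈ K := by
    intro s t hs b hb
    rw [Ulev, span_eq_closure] at hb
    induction hb using Subgroup.closure_induction with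
    | mem x hx =>
      obtain ⟨r, u, hr, e⟩ := hx
      obtain rfl : x = xg hD F r.val u := Units.ext e
      have hr' : k ≤ ht D M r.val := hr
      have h := commutator_root (M := M) hD s.isLt r.isLt (a := k + 1) (by omega) (by omega) (by omega) t (-u)
      rwa [_root_.neg_neg] at h
    | one => rw [commutatorElement_one_left]; exact one_mem _
    | mul a b ha hb iha ihb =>
      rw [← span_eq_closure, ← Ulev] at ha
      rw [show ⁅a * b, xg hD F s.val t⁆ = (a * ⁅b, xg hD F s.val t⁆ * a⁻¹) * ⁅a, xg hD F s.val t⁆ by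
        simp only [commutatorElement_def]; group]
      exact mul_mem (cl a ha _ ihb) iha
    | inv a ha iha =>
      rw [← span_eq_closure, ← Ulev] at ha
      rw [show ⁅a⁻¹, xg hD F s.val t⁆ = a⁻¹ * ⁅a, xg hD F s.val t⁆⁻¹ * (a⁻¹)⁻¹ by
        simp only [commutatorElement_def]; group]
      exact cl _ (inv_mem ha) _ (inv_mem iha)
  intro a ha b hb
  rw [Ulev, span_eq_closure] at hb
  induction hb using Subgroup.closure_induction with
  | mem x hx =>
    obtain ⟨s, t, hs, e⟩ := hx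
    obtain rfl : x = xg hD F s.val t := Units.ext e
    exact step s t hs a ha
  | one => rw [commutatorElement_one_right]; exact one_mem _
  | mul b c hb hc ihb ihc =>
    rw [← span_eq_closure, ← Ulev] at hb
    rw [show ⁅a, b * c⁆ = ⁅a, b⁆ * (b * ⁅a, c⁆ * b⁻¹) by simp only [commutatorElement_def]; group]
    exact mul_mem ihb (cl b hb _ ihc)
  | inv b hb ihb =>
    rw [← span_eq_closure, ← Ulev] at hb
    rw [show ⁅a, b⁻¹⁆ = b⁻¹ * ⁅a, b⁆⁻¹ * (b⁻¹)⁻¹ by simp only [commutatorElement_def]; group]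
    exact cl _ (inv_mem hb) _ (inv_mem ihb)

include hR

theorem posUnipotent_eq : D.posUnipotent F = Ulev D M F 1 := by
  have e : {s : Fin D.nroots | (1 : ℤ) ≤ ht D M s.val} = {s : Fin D.nroots | D.IsPosRoot s.val} := by
    ext s
    refine ⟨fun h => ?_, fun h => hR.ht_pos _ s.isLt h⟩
    by_contra hp
    have h' := hR.ht_pos _ (hD.neg_lt _ s.isLt) ((pos_or_neg hD s.isLt).2 hp)
    rw [(isLin_ht hD M).neg _ s.isLt] at h'
    have h1 : (1 : ℤ) ≤ ht D M s.val := h
    omega
  rw [Ulev, e, span_pos_eq]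

theorem borel_isSolvable : Group.IsSolvable ↥(D.borelSubgroup F) := by
  set B := D.borelSubgroup F with hB
  have step0 : ⁅B, B⁆ ≤ Ulev D M F 1 := by
    have hconj : ∀ x ∈ B, ∀ y ∈ Ulev D M F 1, x * y * x⁻¹ ∈ Ulev D M F 1 := by
      intro x hx y hy
      rw [hB, ← chev_B hD hR] at hx
      obtain ⟨u, hu, h, hh, rfl⟩ := (chevRGD hD hR F).exists_B hx
      rw [chev_Upos, posUnipotent_eq hD hR] at hu
      rw [← posUnipotent_eq hD hR, ← chev_Upos hD hR] at hy
      have h2 := (chevRGD hD hR F).H_conj_span _ hh _ hy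
      rw [show (chevRGD hD hR F).span {s | (chevRGD hD hR F).pos s} = (chevRGD hD hR F).Upos from rfl,
        chev_Upos, posUnipotent_eq hD hR] at h2
      rw [show u * h * y * (u * h)⁻¹ = u * (h * y * h⁻¹) * u⁻¹ by group]
      exact mul_mem (mul_mem hu h2) (inv_mem hu)
    rw [Subgroup.commutator_le]
    intro a ha b hb
    have hU : Ulev D M F 1 ≤ B := posUnipotent_eq (F := F) hD hR ▸ le_sup_left
    rw [hB, ← chev_B hD hR] at ha hb
    obtain ⟨u, hu, h, hh, rfl⟩ := (chevRGD hD hR F).exists_B ha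
    obtain ⟨v, hv, k, hk, rfl⟩ := (chevRGD hD hR F).exists_B hb
    rw [chev_Upos, posUnipotent_eq hD hR] at hu hv
    have hHB : D.diagonalSubgroup F ≤ B := le_sup_right
    rw [show ⁅u * h, v * k⁆ = u * (h * v * h⁻¹) * ((h * k * h⁻¹) * u⁻¹ * (h * k * h⁻¹)⁻¹) *
      ((h * k * h⁻¹ * k⁻¹) * v⁻¹) by simp only [commutatorElement_def]; group]
    rw [show h * k * h⁻¹ * k⁻¹ = 1 by rw [diag_commute hD hh hk]; group, one_mul]
    exact mul_mem (mul_mem (mul_mem hu (hconj h (hHB hh) v hv))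
      (hconj _ (mul_mem (mul_mem (hHB hh) (hHB hk)) (inv_mem (hHB hh))) _ (inv_mem hu))) (inv_mem hv)
  have hn : ∀ n : ℕ, (derivedSeries B (n + 1)).map B.subtype ≤ Ulev D M F (n + 1) := by
    intro n
    induction n with
    | zero =>
      rw [derivedSeries_succ, derivedSeries_zero, Subgroup.map_commutator, ← MonoidHom.range_eq_map,
        Subgroup.range_subtype]
      simpa using step0
    | succ n ih =>
      rw [derivedSeries_succ, Subgroup.map_commutator]
      refine (Subgroup.commutator_mono ih ih).trans (le_trans (commutator_Ulev hD (by omega)) ?_)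
      exact le_of_eq (by push_cast; rfl)
  let m := (Finset.univ : Finset (Fin D.nroots)).sup fun s => (ht D M s.val).natAbs
  refine ⟨m + 1, ?_⟩
  have h := hn m
  have hbot : Ulev D M F ((m : ℤ) + 1) ≤ ⊥ := Ulev_le fun s hs => by
    have : (ht D M s.val).natAbs ≤ m := Finset.le_sup (f := fun s : Fin D.nroots => (ht D M s.val).natAbs)
      (Finset.mem_univ s)
    omega
  rw [eq_bot_iff]
  intro x hx
  exact Subtype.ext (Subgroup.mem_bot.1 (hbot (h ⟨x, hx, rfl⟩)))

end Cfsg.Agent.ChevBN
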