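import Cfsg.Agent.Lib.ChevBN.Facts
import Cfsg.Agent.Lib.ChevBN.Solvable
import Cfsg.Agent.Lib.ChevBN.Perfect
import Cfsg.Agent.Lib.BN.Simple

/-!
# Simplicity of Chevalley groups

`group_isSimple` from `Good D`, `Roots D M d`, connectedness `ConnOK D ord` and perfectness.
-/

set_option autoImplicit false

namespace Cfsg.Agent.ChevBN

open Cfsg.Lie Cfsg.Lie.ChevalleyDatum Cfsg.Agent.Chev Cfsg.Agent.ChevSt

/-- The fundamental reflections `i` and `j` do not commute: `(w_i w_j)²` makes `p_i` or `p_j` negative. -/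
def NonComm (D : ChevalleyDatum) (i j : ℕ) : Bool :=
  !decide (D.IsPosRoot (wN D i (wN D j (wN D i (wN D j (D.simple i)))))) ||
    !decide (D.IsPosRoot (wN D i (wN D j (wN D i (wN D j (D.simple j))))))

/-- Every fundamental reflection is linked to the previous ones of the order `ord`. -/
def ConnOK (D : ChevalleyDatum) (ord : List ℕ) : Prop :=
  (∀ i < D.rank, i ∈ ord) ∧ (∀ i ∈ ord, i < D.rank) ∧
    ∀ m < ord.length, m ≠ 0 → ∃ m' < m, NonComm D (ord.getD m 0) (ord.getD m' 0) = true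

instance (D : ChevalleyDatum) (ord : List ℕ) : Decidable (ConnOK D ord) :=
  inferInstanceAs (Decidable (_ ∧ _ ∧ _))

variable {D : ChevalleyDatum} {M : List (List ℤ)} {d : ℤ} (hD : Good D) (hR : Roots D M d)
  {F : Type*} [Field F]

include hD hR

theorem not_mem_B_of_nonComm {i j : ℕ} (hi : i < D.rank) (hj : j < D.rank) (h : NonComm D i j = true) :
    ng hD F (D.simple i) 1 * ng hD F (D.simple j) 1 * (ng hD F (D.simple i) 1)⁻¹ *
      (ng hD F (D.simple j) 1)⁻¹ ∉ D.borelSubgroup F := by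
  let R := chevRGD hD hR F
  intro hB
  rw [← chev_B hD hR] at hB
  simp only [NonComm, Bool.or_eq_true, Bool.not_eq_true', decide_eq_false_iff_not] at h
  obtain ⟨q, hq, hp, hn⟩ : ∃ q < D.nroots, D.IsPosRoot q ∧
      ¬ D.IsPosRoot (wN D i (wN D j (wN D i (wN D j q)))) := by
    rcases h with h | h
    exacts [⟨_, hD.simple_lt i hi, hR.pos_simple hD hi, h⟩, ⟨_, hD.simple_lt j hj, hR.pos_simple hD hj, h⟩]
  let I : Fin D.rank := ⟨i, hi⟩
  let J : Fin D.rank := ⟨j, hj⟩
  obtain ⟨k, hk, e1⟩ := R.exists_nw_inv [I]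
  obtain ⟨k', hk', e2⟩ := R.exists_nw_inv [J]
  simp only [List.reverse_singleton, RGD.RootData.nw_cons, RGD.RootData.nw_nil, mul_one] at e1 e2
  rw [show ng hD F (D.simple i) 1 = R.n I from rfl, show ng hD F (D.simple j) 1 = R.n J from rfl, e1, e2] at hB
  have e : R.n I * R.n J * (k * R.n I) * (k' * R.n J) =
      (R.nw [I, J] * k * (R.nw [I, J])⁻¹) * (R.nw [I, J, I] * k' * (R.nw [I, J, I])⁻¹) *
        R.nw [I, J, I, J] := by
    simp only [RGD.RootData.nw_cons, RGD.RootData.nw_nil, mul_one]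
    group
  rw [e] at hB
  have hH : R.nw [I, J, I, J] ∈ R.B := by
    have hk2 := R.H_le_B (mul_mem (R.nw_conj_H [I, J] hk) (R.nw_conj_H [I, J, I] hk'))
    have := mul_mem (inv_mem hk2) hB
    rwa [inv_mul_cancel_left] at this
  have h1 := (R.mem_H_iff _).1 ((R.nw_mem_B_iff _).1 hH) ⟨q, hq⟩ hp
  exact hn h1

theorem irreducible {ord : List ℕ} (hord : ConnOK D ord) (P : Cfsg.BNPair ↥(D.group F))
    (hB : P.B = (D.borelSubgroup F).subgroupOf (D.group F))
    (hS : P.S = {n : ↥(D.group F) | ∃ i < D.rank,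
      ((n : GL D.Idx F) : Matrix D.Idx D.Idx F) = D.nMat F (D.simple i) 1}) : P.Irreducible := by
  intro J hJ hne hne'
  have hmem : ∀ i, ng hD F (D.simple i) 1 ∈ D.group F := fun i =>
    mul_mem (mul_mem (xg_mem_group hD _ _) (xg_mem_group hD _ _)) (xg_mem_group hD _ _)
  let s : ℕ → ↥(D.group F) := fun i => ⟨ng hD F (D.simple i) 1, hmem i⟩
  have hsS : ∀ {i}, i < D.rank → s i ∈ P.S := fun {i} hi => hS ▸ ⟨i, hi, coe_ng hD _ _⟩
  have hsurj : ∀ x ∈ P.S, ∃ i < D.rank, x = s i := by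
    intro x hx
    rw [hS] at hx
    obtain ⟨i, hi, e⟩ := hx
    exact ⟨i, hi, Subtype.ext (Units.ext (e.trans (coe_ng hD _ _).symm))⟩
  -- a linked pair on different sides
  have hex : ∃ i j, i < D.rank ∧ j < D.rank ∧ NonComm D i j = true ∧ ¬ (s i ∈ J ↔ s j ∈ J) := by
    by_contra hcon
    push Not at hcon
    have hall : ∀ m < ord.length, (s (ord.getD m 0) ∈ J ↔ s (ord.getD 0 0) ∈ J) := by
      intro m
      induction m using Nat.strong_induction_on with
      | _ m ih =>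
        intro hm
        by_cases h0 : m = 0
        · rw [h0]
        obtain ⟨m', hm', h⟩ := hord.2.2 m hm h0
        have hget : ∀ a < ord.length, ord.getD a 0 < D.rank := fun a ha => by
          rw [List.getD_eq_getElem _ _ ha]; exact hord.2.1 _ (List.getElem_mem _)
        exact (hcon _ _ (hget m hm) (hget m' (by omega)) h).trans (ih m' hm' (by omega))
    have hall' : ∀ i < D.rank, (s i ∈ J ↔ s (ord.getD 0 0) ∈ J) := fun i hi => by
      obtain ⟨m, hm, e⟩ := List.getElem_of_mem (hord.1 i hi)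
      have := hall m hm
      rwa [List.getD_eq_getElem _ _ hm, e] at this
    obtain ⟨x, hx⟩ := hne
    obtain ⟨y, hy, hy'⟩ := hne'
    obtain ⟨i, hi, rfl⟩ := hsurj x (hJ hx)
    obtain ⟨j, hj, rfl⟩ := hsurj y hy
    exact hy' ((hall' j hj).2 ((hall' i hi).1 hx))
  obtain ⟨i, j, hi, hj, h, hij⟩ := hex
  have hnB : s i * s j * (s i)⁻¹ * (s j)⁻¹ ∉ P.B := by
    rw [hB, Subgroup.mem_subgroupOf]
    exact not_mem_B_of_nonComm hD hR hi hj h
  by_cases hiJ : s i ∈ J
  · exact ⟨s i, hiJ, s j, ⟨hsS hj, fun h' => hij (iff_of_true hiJ h')⟩, hnB⟩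
  · have hjJ : s j ∈ J := by
      by_contra h'
      exact hij (iff_of_false hiJ h')
    refine ⟨s j, hjJ, s i, ⟨hsS hi, hiJ⟩, fun h' => hnB ?_⟩
    have := inv_mem h'
    rwa [show (s j * s i * (s j)⁻¹ * (s i)⁻¹)⁻¹ = s i * s j * (s i)⁻¹ * (s j)⁻¹ by group] at this

theorem group_isSimple {ord : List ℕ} (hord : ConnOK D ord) (hrank : 0 < D.rank)
    (hperf : commutator ↥(D.group F) = ⊤) :
    IsSimpleGroup ↥(D.group F) ∧ ¬ IsMulCommutative ↥(D.group F) := by
  have hmem := xg_mem_group hD (F := F) (D.simple 0) 1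
  have hnt : Nontrivial ↥(D.group F) := ⟨⟨⟨_, hmem⟩, 1, fun e =>
    x_one_ne_one hD (hD.simple_lt 0 hrank) (congrArg Subtype.val e)⟩⟩
  obtain ⟨P, hB, -, hS⟩ := exists_bnPair hD hR (F := F)
  have hsolv : Group.IsSolvable P.B := by
    rw [hB]
    have := borel_isSolvable hD hR (F := F)
    exact Group.isSolvable_of_surjective
      (f := (Subgroup.subgroupOfEquivOfLe (borel_le_group hD hR)).symm.toMonoidHom)
      (MulEquiv.surjective _)
  refine ⟨BN.isSimpleGroup_of_irreducible P (irreducible hD hR hord P hB hS) hsolv hperf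
    (hB ▸ normalCore_eq_bot hD hR), fun hc => ?_⟩
  have : commutator ↥(D.group F) = ⊥ := by
    rw [commutator_def, Subgroup.commutator_eq_bot_iff_le_centralizer]
    intro x _
    exact Subgroup.mem_centralizer_iff.2 fun y _ => hc.1.comm y x
  rw [hperf] at this
  exact top_ne_bot this

end Cfsg.Agent.ChevBN
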