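import Cfsg.Agent.Lib.RGD.Steinberg
import Cfsg.Agent.Lib.ChevBN.Facts

/-!
# The Steinberg character of a Chevalley group

For `Good D`, `Roots D M d` over a finite field: `isIrr_steinberg`, `steinberg_one` (degree `|U|`),
`steinberg_unipotent` (zero on `U - {1}`), `steinberg_borel` (restriction to `B`).
-/

set_option autoImplicit false

namespace Cfsg.Agent.RGD.RootData

open Cfsg.Agent.BN Finset

variable {Γ : Type*} [Group Γ] {Φ : Type*} {r : ℕ} (R : RootData Γ Φ (Fin r))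

/-- The alternating sum indexed by subsets of `range r`. -/
theorem St_eq_sum [Finite R.G] (g : R.G) :
    St R.bnPair g = ∑ J ∈ (Finset.range r).powerset, (-1 : ℂ) ^ J.card *
      Cfsg.fixedPointCharacter ((R.B ⊔ Subgroup.closure {x | ∃ j ∈ (J : Set ℕ), ∃ h : j < r, x = R.n ⟨j, h⟩}).subgroupOf R.G) g := by
  classical
  have hinj : Function.Injective R.nG := by
    intro i j h
    refine R.n_inj ?_
    rw [show R.n i = R.n j from congrArg Subtype.val h, inv_mul_cancel]
    exact one_mem _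
  letI := Fintype.ofFinite R.bnPair.S
  let e : Fin r ≃ R.bnPair.S := Equiv.ofInjective R.nG hinj
  have hpar : ∀ A : Finset (Fin r), parab R.bnPair (A.map e.toEmbedding : Set R.bnPair.S) =
      (R.B ⊔ Subgroup.closure {x | ∃ j ∈ (A.map Fin.valEmbedding : Set ℕ), ∃ h : j < r, x = R.n ⟨j, h⟩}).subgroupOf R.G := by
    intro A
    have hle : R.B ⊔ Subgroup.closure {x | ∃ j ∈ (A.map Fin.valEmbedding : Set ℕ), ∃ h : j < r, x = R.n ⟨j, h⟩} ≤ R.G := by
      refine sup_le R.B_le_G ((Subgroup.closure_le _).2 ?_)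
      rintro x ⟨j, -, h, rfl⟩
      exact R.n_mem_G _
    apply Subgroup.map_injective R.G.subtype_injective
    rw [Subgroup.map_subgroupOf_eq_of_le hle, parab, Cfsg.BNPair.parabolic, Subgroup.map_sup, MonoidHom.map_closure]
    congr 1
    · exact Subgroup.map_subgroupOf_eq_of_le R.B_le_G
    · congr 1
      ext x
      constructor
      · rintro ⟨_, ⟨s, hs, rfl⟩, rfl⟩
        obtain ⟨i, hi, rfl⟩ := Finset.mem_map.1 hs
        exact ⟨i.val, Finset.mem_map.2 ⟨i, hi, rfl⟩, i.isLt, rfl⟩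
      · rintro ⟨j, hj, h, rfl⟩
        obtain ⟨i, hi, rfl⟩ := Finset.mem_map.1 hj
        exact ⟨_, ⟨e i, Finset.mem_map.2 ⟨i, hi, rfl⟩, rfl⟩, rfl⟩
  rw [St]
  refine (Finset.sum_nbij' (fun J : Finset ℕ => (univ.filter fun i : Fin r => (i : ℕ) ∈ J).map e.toEmbedding)
    (fun A => (A.map e.symm.toEmbedding).map Fin.valEmbedding) ?_ ?_ ?_ ?_ ?_).symm
  · intro J _; exact Finset.mem_univ _
  · intro A _
    rw [Finset.mem_powerset]
    intro j hj
    obtain ⟨i, -, rfl⟩ := Finset.mem_map.1 hj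
    exact Finset.mem_range.2 i.isLt
  · intro J hJ
    ext j
    simp only [Finset.mem_map, Finset.mem_filter, Finset.mem_univ, true_and]
    constructor
    · rintro ⟨i, ⟨s, ⟨k, hk, rfl⟩, rfl⟩, rfl⟩
      simpa using hk
    · intro hj
      exact ⟨⟨j, Finset.mem_range.1 (Finset.mem_powerset.1 hJ hj)⟩, ⟨e ⟨j, Finset.mem_range.1 (Finset.mem_powerset.1 hJ hj)⟩, ⟨⟨j, Finset.mem_range.1 (Finset.mem_powerset.1 hJ hj)⟩, hj, rfl⟩, by simp⟩, rfl⟩
  · intro A _
    ext s
    simp only [Finset.mem_map, Finset.mem_filter, Finset.mem_univ, true_and]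
    constructor
    · rintro ⟨i, ⟨k, ⟨t, ht, rfl⟩, hk⟩, rfl⟩
      obtain rfl : e.symm t = i := Fin.ext hk
      simpa using ht
    · intro hs
      exact ⟨e.symm s, ⟨e.symm s, ⟨s, hs, rfl⟩, rfl⟩, by simp⟩
  · intro J hJ
    have hmap : (univ.filter fun i : Fin r => (i : ℕ) ∈ J).map Fin.valEmbedding = J := by
      ext j
      simp only [Finset.mem_map, Finset.mem_filter, Finset.mem_univ, true_and]
      constructor
      · rintro ⟨i, hi, rfl⟩; exact hi
      · exact fun hj => ⟨⟨j, Finset.mem_range.1 (Finset.mem_powerset.1 hJ hj)⟩, hj, rfl⟩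
    rw [hpar, hmap, Finset.card_map]
    conv_lhs => rw [← hmap, Finset.card_map]
    rw [hmap]

end Cfsg.Agent.RGD.RootData

namespace Cfsg.Agent.ChevBN

open Cfsg.Lie Cfsg.Lie.ChevalleyDatum Cfsg.Agent.Chev Cfsg.Agent.ChevSt Cfsg.Agent.BN

variable {D : ChevalleyDatum} {M : List (List ℤ)} {d : ℤ} (hD : Good D) (hR : Roots D M d)
variable {F : Type*} [Field F] [Finite F]

include hD hR

theorem steinberg_facts :
    IsIrrCharacter ↥(D.group F) (D.steinbergCharacter F) ∧
      D.steinbergCharacter F 1 = (Nat.card (D.posUnipotent F) : ℂ) ∧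
      (∀ u : ↥(D.group F), (u : GL D.Idx F) ∈ D.posUnipotent F → u ≠ 1 → D.steinbergCharacter F u = 0) ∧
      ∀ b : ↥((D.borelSubgroup F).subgroupOf (D.group F)),
        D.steinbergCharacter F (b : ↥(D.group F)) =
          Cfsg.fixedPointCharacter (((D.diagonalSubgroup F).subgroupOf (D.group F)).subgroupOf
            ((D.borelSubgroup F).subgroupOf (D.group F))) b := by
  let R := chevRGD hD hR F
  obtain ⟨l, hl⟩ := exists_long hD hR (F := F)
  let χ : ∀ K : Subgroup (GL D.Idx F), K → ℂ := fun K g =>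
    ∑ J ∈ (Finset.range D.rank).powerset, (-1 : ℂ) ^ J.card *
      Cfsg.fixedPointCharacter ((R.B ⊔ Subgroup.closure
        {x | ∃ j ∈ (J : Set ℕ), ∃ h : j < D.rank, x = R.n ⟨j, h⟩}).subgroupOf K) g
  have key : ∀ K : Subgroup (GL D.Idx F), R.G = K →
      IsIrrCharacter K (χ K) ∧ χ K 1 = (Nat.card R.Upos : ℂ) ∧
      (∀ u : K, (u : GL D.Idx F) ∈ R.Upos → u ≠ 1 → χ K u = 0) ∧
      ∀ b : R.B.subgroupOf K, χ K (b : K) =
        Cfsg.fixedPointCharacter ((R.H.subgroupOf K).subgroupOf (R.B.subgroupOf K)) b := by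
    rintro _ rfl
    have e : χ R.G = St R.bnPair := funext fun g => (R.St_eq_sum g).symm
    rw [e]
    exact ⟨isIrrCharacter_St _, (R.St_one_eq hl).1, (R.St_one_eq hl).2, fun b => R.St_B hl b⟩
  have hχ : χ (D.group F) = D.steinbergCharacter F := by
    funext g
    refine Finset.sum_congr rfl fun J _ => ?_
    rw [parabolicIn, parabolicSubgroup, ← chev_B hD hR (F := F)]
    congr 5
    ext x
    constructor
    · rintro ⟨j, hj, h, rfl⟩
      exact ⟨j, hj, h, coe_ng hD _ _⟩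
    · rintro ⟨j, hj, h, e⟩
      exact ⟨j, hj, h, Units.ext (e.trans (coe_ng hD _ _).symm)⟩
  obtain ⟨h1, h2, h3, h4⟩ := key _ (chev_G hD hR)
  rw [hχ, chev_Upos hD hR] at h2 h3
  rw [hχ] at h1 h4
  rw [chev_B hD hR] at h4
  exact ⟨h1, h2, h3, h4⟩

end Cfsg.Agent.ChevBN
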