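import Cfsg.Agent.Lib.ChevBN.Steinberg
import Cfsg.Agent.Lib.ChevOrder.Final
import Cfsg.Agent.Lib.Char.PRegular

/-!
# Steinberg characters of the seven Chevalley types, from `Good D`
-/

set_option autoImplicit false

namespace Cfsg.Agent.ChevBN

open Cfsg.Lie Cfsg.Lie.ChevalleyDatum Cfsg.Agent.Chev

theorem not_dvd_qpow_sub_one {p q d : ℕ} (hp : p.Prime) (hq : p ∣ q) (hd : d ≠ 0) (hq0 : 1 ≤ q) :
    ¬ p ∣ q ^ d - 1 := fun h => by
  have h1 : p ∣ q ^ d := dvd_pow hq hd
  have h2 : 1 ≤ q ^ d := Nat.one_le_pow _ _ hq0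
  have h3 : p ∣ q ^ d - (q ^ d - 1) := Nat.dvd_sub h1 h
  rw [show q ^ d - (q ^ d - 1) = 1 by omega] at h3
  exact hp.one_lt.ne' (Nat.dvd_one.1 h3)

/-- The `p`-part of the group order is at most the order of the unipotent subgroup. -/
theorem exists_card_factor {F : Type*} [Field F] [Fintype F] (p : ℕ) [Fact p.Prime] [CharP F p]
    (D : ChevalleyDatum) (hm : D ∈ [chevG2, chevB2, chevD4, chevF4, chevE6, chevE7, chevE8])
    (hD : Good D) :
    ∃ c R : ℕ, c * Nat.card ↥(D.group F) = Nat.card (D.posUnipotent F) * R ∧ ¬ p ∣ R := by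
  have hp : p.Prime := Fact.out
  obtain ⟨n, -, hn⟩ := FiniteField.card F p
  have hpq : p ∣ Fintype.card F := by rw [hn]; exact dvd_pow_self p n.2.ne'
  have hq0 : 1 ≤ Fintype.card F := Fintype.card_pos
  rw [ChevOrder.card_posUnipotent hD, Nat.card_eq_fintype_card (α := F)]
  simp only [List.mem_cons, List.not_mem_nil, or_false] at hm
  have hmul : ∀ {a b : ℕ}, ¬ p ∣ a → ¬ p ∣ b → ¬ p ∣ a * b := fun ha hb h => (hp.dvd_mul.1 h).elim ha hb
  have h1 : ∀ d, d ≠ 0 → ¬ p ∣ Fintype.card F ^ d - 1 := fun d hd => not_dvd_qpow_sub_one hp hpq hd hq0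
  rcases hm with rfl | rfl | rfl | rfl | rfl | rfl | rfl
  · exact ⟨1, (Fintype.card F ^ 2 - 1) * (Fintype.card F ^ 6 - 1),
      by rw [one_mul, ChevOrder.card_G2 rfl hD, show chevG2.nroots / 2 = 6 by decide +kernel]; ring,
      hmul (h1 _ (by norm_num)) (h1 _ (by norm_num))⟩
  · exact ⟨_, (Fintype.card F ^ 2 - 1) * (Fintype.card F ^ 4 - 1),
      by rw [ChevOrder.card_B2 rfl hD, show chevB2.nroots / 2 = 4 by decide +kernel]; ring,
      hmul (h1 _ (by norm_num)) (h1 _ (by norm_num))⟩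
  · exact ⟨_, (Fintype.card F ^ 2 - 1) * (Fintype.card F ^ 4 - 1) * (Fintype.card F ^ 4 - 1) * (Fintype.card F ^ 6 - 1),
      by rw [ChevOrder.card_D4 rfl hD, show chevD4.nroots / 2 = 12 by decide +kernel]; ring,
      hmul (hmul (hmul (h1 _ (by norm_num)) (h1 _ (by norm_num))) (h1 _ (by norm_num))) (h1 _ (by norm_num))⟩
  · exact ⟨1, (Fintype.card F ^ 2 - 1) * (Fintype.card F ^ 6 - 1) * (Fintype.card F ^ 8 - 1) * (Fintype.card F ^ 12 - 1),
      by rw [one_mul, ChevOrder.card_F4 rfl hD, show chevF4.nroots / 2 = 24 by decide +kernel]; ring,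
      hmul (hmul (hmul (h1 _ (by norm_num)) (h1 _ (by norm_num))) (h1 _ (by norm_num))) (h1 _ (by norm_num))⟩
  · exact ⟨_, (Fintype.card F ^ 2 - 1) * (Fintype.card F ^ 5 - 1) * (Fintype.card F ^ 6 - 1) * (Fintype.card F ^ 8 - 1)
        * (Fintype.card F ^ 9 - 1) * (Fintype.card F ^ 12 - 1),
      by rw [ChevOrder.card_E6 rfl hD, show chevE6.nroots / 2 = 36 by decide +kernel]; ring,
      hmul (hmul (hmul (hmul (hmul (h1 _ (by norm_num)) (h1 _ (by norm_num))) (h1 _ (by norm_num))) (h1 _ (by norm_num)))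
        (h1 _ (by norm_num))) (h1 _ (by norm_num))⟩
  · exact ⟨_, (Fintype.card F ^ 2 - 1) * (Fintype.card F ^ 6 - 1) * (Fintype.card F ^ 8 - 1) * (Fintype.card F ^ 10 - 1)
        * (Fintype.card F ^ 12 - 1) * (Fintype.card F ^ 14 - 1) * (Fintype.card F ^ 18 - 1),
      by rw [ChevOrder.card_E7 rfl hD, show chevE7.nroots / 2 = 63 by decide +kernel]; ring,
      hmul (hmul (hmul (hmul (hmul (hmul (h1 _ (by norm_num)) (h1 _ (by norm_num))) (h1 _ (by norm_num))) (h1 _ (by norm_num)))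
        (h1 _ (by norm_num))) (h1 _ (by norm_num))) (h1 _ (by norm_num))⟩
  · exact ⟨1, (Fintype.card F ^ 2 - 1) * (Fintype.card F ^ 8 - 1) * (Fintype.card F ^ 12 - 1) * (Fintype.card F ^ 14 - 1)
        * (Fintype.card F ^ 18 - 1) * (Fintype.card F ^ 20 - 1) * (Fintype.card F ^ 24 - 1) * (Fintype.card F ^ 30 - 1),
      by rw [one_mul, ChevOrder.card_E8 rfl hD, show chevE8.nroots / 2 = 120 by decide +kernel]; ring,
      hmul (hmul (hmul (hmul (hmul (hmul (hmul (h1 _ (by norm_num)) (h1 _ (by norm_num))) (h1 _ (by norm_num))) (h1 _ (by norm_num)))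
        (h1 _ (by norm_num))) (h1 _ (by norm_num))) (h1 _ (by norm_num))) (h1 _ (by norm_num))⟩

variable {F : Type*} [Field F] [Fintype F] (D : ChevalleyDatum)
  (hm : D ∈ [chevG2, chevB2, chevD4, chevF4, chevE6, chevE7, chevE8]) (hD : Good D)

include hm hD

theorem steinberg_irr : IsIrrCharacter ↥(D.group F) (D.steinbergCharacter F) := by
  obtain ⟨M, d, hR⟩ := exists_roots D hm
  exact (steinberg_facts hD hR).1

theorem steinberg_degree : D.steinbergCharacter F 1 = (Fintype.card F : ℂ) ^ (D.nroots / 2) := by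
  obtain ⟨M, d, hR⟩ := exists_roots D hm
  rw [(steinberg_facts (F := F) hD hR).2.1, ChevOrder.card_posUnipotent hD, Nat.card_eq_fintype_card]
  push_cast
  rfl

theorem steinberg_borel (b : ↥((D.borelSubgroup F).subgroupOf (D.group F))) :
    D.steinbergCharacter F ((((D.borelSubgroup F).subgroupOf (D.group F)).subtype) b) =
      Cfsg.fixedPointCharacter (((D.diagonalSubgroup F).subgroupOf (D.group F)).subgroupOf
        ((D.borelSubgroup F).subgroupOf (D.group F))) b := by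
  obtain ⟨M, d, hR⟩ := exists_roots D hm
  exact (steinberg_facts hD hR).2.2.2 b

theorem steinberg_singular (p : ℕ) [Fact p.Prime] [CharP F p] (g : ↥(D.group F)) (hg : p ∣ orderOf g) :
    D.steinbergCharacter F g = 0 := by
  obtain ⟨M, d, hR⟩ := exists_roots D hm
  obtain ⟨hirr, hdeg, -, -⟩ := steinberg_facts (F := F) hD hR
  obtain ⟨c, R, he, hR'⟩ := exists_card_factor (F := F) p D hm hD
  refine Char.vanishes_of_defect_zero (Fact.out) hirr hdeg ?_ g hg
  have hRne : R ≠ 0 := fun h => hR' (h ▸ dvd_zero p)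
  have hc : c ≠ 0 := by
    rintro rfl
    rw [zero_mul] at he
    exact (Nat.mul_pos Nat.card_pos (Nat.pos_of_ne_zero hRne)).ne he
  have h := congrArg (fun n => n.factorization p) he
  rw [Nat.factorization_mul hc Nat.card_pos.ne', Nat.factorization_mul Nat.card_pos.ne' hRne,
    Finsupp.add_apply, Finsupp.add_apply, Nat.factorization_eq_zero_of_not_dvd hR', add_zero] at h
  omega

end Cfsg.Agent.ChevBN
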