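import Cfsg.Agent.Lib.ChevBN.WCTools
import Cfsg.Agent.Lib.ChevBN.RootTables

/-!
# The table checks for weakly closed subgroups, for the seven data (with witnesses)
-/

set_option autoImplicit false
set_option maxRecDepth 100000

namespace Cfsg.Agent.ChevBN

open Cfsg.Lie

/-- The witness pair of `q` in a list of triples. -/
def witOf (L : List (ℕ × ℕ × ℕ)) (q : ℕ) : ℕ × ℕ :=
  ((L.find? fun e => e.1 = q).map Prod.snd).getD (0, 0)

/-- All positive roots are fundamental or have a witness. -/
def WitAll (D : ChevalleyDatum) (M : List (List ℤ)) (two : Bool) (L : List (ℕ × ℕ × ℕ)) : Prop :=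
  ∀ q < D.nroots, D.IsPosRoot q → q ∈ (List.range D.rank).map D.simple ∨ WitOK D M two (witOf L q) q = true

def witListG2 : List (ℕ × ℕ × ℕ) := [
  (8, 6, 7), (9, 6, 7), (10, 6, 7), (11, 6, 10)]

theorem wit_G2 : WitAll chevG2 adjG2 true witListG2 := by
  unfold WitAll
  decide +kernel

theorem pair_G2 : PairOK chevG2 true := by decide +kernel

def witListB2 : List (ℕ × ℕ × ℕ) := [
  (6, 4, 5), (7, 4, 5)]

theorem wit_B2 : WitAll chevB2 adjB2 true witListB2 := by
  unfold WitAll
  decide +kernel

theorem pair_B2 : PairOK chevB2 true := by decide +kernel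

def witListD4 : List (ℕ × ℕ × ℕ) := [
  (15, 12, 14), (16, 13, 14), (17, 12, 16), (19, 14, 18), (20, 12, 19), (21, 13, 19), (22, 12, 21), (23, 14, 22)]

theorem wit_D4 : WitAll chevD4 adjD4 true witListD4 := by
  unfold WitAll
  decide +kernel

theorem pair_D4 : PairOK chevD4 true := by decide +kernel

def witListF4 : List (ℕ × ℕ × ℕ) := [
  (26, 24, 25), (28, 25, 27), (29, 24, 28), (30, 25, 27), (31, 24, 30), (32, 24, 28), (34, 27, 33), (35, 25, 34),
  (36, 24, 35), (37, 27, 35), (38, 24, 37), (39, 25, 38), (40, 27, 39), (41, 25, 34), (42, 24, 41), (43, 24, 35),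
  (44, 27, 43), (45, 24, 37), (46, 25, 45), (47, 24, 46)]

theorem wit_F4 : WitAll chevF4 adjF4 true witListF4 := by
  unfold WitAll
  decide +kernel

theorem pair_F4 : PairOK chevF4 true := by decide +kernel

def witListE6 : List (ℕ × ℕ × ℕ) := [
  (38, 36, 37), (40, 37, 39), (41, 36, 40), (43, 39, 42), (44, 37, 43), (45, 36, 44), (47, 39, 46), (48, 37, 47),
  (49, 36, 48), (50, 42, 47), (51, 37, 50), (52, 36, 51), (53, 39, 51), (54, 36, 53), (55, 37, 54), (57, 42, 56),
  (58, 39, 57), (59, 37, 58), (60, 36, 59), (61, 46, 58), (62, 37, 61), (63, 36, 62), (64, 39, 62), (65, 36, 64),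
  (66, 37, 65), (67, 42, 64), (68, 36, 67), (69, 37, 68), (70, 39, 69), (71, 46, 70)]

theorem wit_E6 : WitAll chevE6 adjE6 false witListE6 := by
  unfold WitAll
  decide +kernel

theorem pair_E6 : PairOK chevE6 false := by decide +kernel

def witListE7 : List (ℕ × ℕ × ℕ) := [
  (65, 63, 64), (67, 64, 66), (68, 63, 67), (70, 66, 69), (71, 64, 70), (72, 63, 71), (74, 69, 73), (75, 66, 74),
  (76, 64, 75), (77, 63, 76), (79, 69, 78), (80, 66, 79), (81, 64, 80), (82, 63, 81), (83, 73, 79), (84, 66, 83),
  (85, 64, 84), (86, 63, 85), (87, 69, 84), (88, 64, 87), (89, 63, 88), (90, 66, 88), (91, 63, 90), (92, 64, 91),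
  (94, 73, 93), (95, 69, 94), (96, 66, 95), (97, 64, 96), (98, 63, 97), (99, 78, 95), (100, 66, 99), (101, 64, 100),
  (102, 63, 101), (103, 69, 100), (104, 64, 103), (105, 63, 104), (106, 66, 104), (107, 63, 106), (108, 64, 107), (109, 73, 103),
  (110, 64, 109), (111, 63, 110), (112, 66, 110), (113, 63, 112), (114, 64, 113), (115, 69, 112), (116, 63, 115), (117, 64, 116),
  (118, 66, 117), (119, 78, 115), (120, 63, 119), (121, 64, 120), (122, 66, 121), (123, 69, 122), (124, 73, 123), (125, 93, 124)]

theorem wit_E7 : WitAll chevE7 adjE7 false witListE7 := by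
  unfold WitAll
  decide +kernel

theorem pair_E7 : PairOK chevE7 false := by decide +kernel

def witListE8 : List (ℕ × ℕ × ℕ) := [
  (122, 120, 121), (124, 121, 123), (125, 120, 124), (127, 123, 126), (128, 121, 127), (129, 120, 128), (131, 126, 130), (132, 123, 131),
  (133, 121, 132), (134, 120, 133), (136, 130, 135), (137, 126, 136), (138, 123, 137), (139, 121, 138), (140, 120, 139), (142, 130, 141),
  (143, 126, 142), (144, 123, 143), (145, 121, 144), (146, 120, 145), (147, 135, 142), (148, 126, 147), (149, 123, 148), (150, 121, 149),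
  (151, 120, 150), (152, 130, 148), (153, 123, 152), (154, 121, 153), (155, 120, 154), (156, 126, 153), (157, 121, 156), (158, 120, 157),
  (159, 123, 157), (160, 120, 159), (161, 121, 160), (163, 135, 162), (164, 130, 163), (165, 126, 164), (166, 123, 165), (167, 121, 166),
  (168, 120, 167), (169, 141, 164), (170, 126, 169), (171, 123, 170), (172, 121, 171), (173, 120, 172), (174, 130, 170), (175, 123, 174),
  (176, 121, 175), (177, 120, 176), (178, 126, 175), (179, 121, 178), (180, 120, 179), (181, 123, 179), (182, 120, 181), (183, 121, 182),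
  (184, 135, 174), (185, 123, 184), (186, 121, 185), (187, 120, 186), (188, 126, 185), (189, 121, 188), (190, 120, 189), (191, 123, 189),
  (192, 120, 191), (193, 121, 192), (194, 130, 188), (195, 121, 194), (196, 120, 195), (197, 123, 195), (198, 120, 197), (199, 121, 198),
  (200, 126, 197), (201, 120, 200), (202, 121, 201), (203, 123, 202), (204, 141, 194), (205, 121, 204), (206, 120, 205), (207, 123, 205),
  (208, 120, 207), (209, 121, 208), (210, 126, 207), (211, 120, 210), (212, 121, 211), (213, 123, 212), (214, 130, 210), (215, 120, 214),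
  (216, 121, 215), (217, 123, 216), (218, 126, 217), (219, 135, 214), (220, 120, 219), (221, 121, 220), (222, 123, 221), (223, 126, 222),
  (224, 130, 223), (225, 141, 224), (226, 162, 219), (227, 120, 226), (228, 121, 227), (229, 123, 228), (230, 126, 229), (231, 130, 230),
  (232, 135, 231), (233, 141, 231), (234, 135, 233), (235, 130, 234), (236, 126, 235), (237, 123, 236), (238, 121, 237), (239, 120, 238)]

theorem wit_E8 : WitAll chevE8 adjE8 false witListE8 := by
  unfold WitAll
  decide +kernel

theorem pair_E8 : PairOK chevE8 false := by decide +kernel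

end Cfsg.Agent.ChevBN
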