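import Cfsg.Agent.Lib.ChevBN.Parabolic

/-!
# Tools for filtrations of unipotent radicals

* `exists_abelian_quot` : an additive map on a subgroup with prescribed kernel;
* `commutator_closure_le`;
* `eq_zero_of_kill` : isolating one term of a polynomial identity in an abelian group;
* `WitOK`, `PairOK` : the table checks used for weakly closed subgroups.
-/

set_option autoImplicit false

namespace Cfsg.Agent.ChevBN

open Cfsg.Lie Cfsg.Lie.ChevalleyDatum Cfsg.Agent.Chev Cfsg.Agent.ChevSt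
open scoped commutatorElement

universe u

/-- An additive map on `A` with kernel `K`. -/
theorem exists_abelian_quot {G : Type u} [Group G] (A K : Subgroup G)
    (hn : ∀ a ∈ A, ∀ k ∈ K, a * k * a⁻¹ ∈ K) (hc : ∀ a ∈ A, ∀ b ∈ A, ⁅a, b⁆ ∈ K) :
    ∃ (M : Type u) (_ : AddCommGroup M) (π : G → M),
      (∀ a ∈ A, ∀ b ∈ A, π (a * b) = π a + π b) ∧ ∀ a ∈ A, (π a = 0 ↔ a ∈ K) := by
  classical
  let K' := K.subgroupOf A
  haveI hN : K'.Normal := ⟨fun k hk a => hn a a.2 k hk⟩
  have hcomm : ∀ x y : A ⧸ K', x * y = y * x := by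
    intro x y
    induction x using QuotientGroup.induction_on with | _ a =>
    induction y using QuotientGroup.induction_on with | _ b =>
    rw [← QuotientGroup.mk_mul, ← QuotientGroup.mk_mul, QuotientGroup.eq, Subgroup.mem_subgroupOf]
    have h := hc _ (inv_mem b.2) _ (inv_mem a.2)
    simp only [Subgroup.coe_mul, Subgroup.coe_inv]
    rw [show ((a : G) * b)⁻¹ * (b * a) = ⁅(b : G)⁻¹, (a : G)⁻¹⁆ by rw [commutatorElement_def]; group]
    exact h
  letI : CommGroup (A ⧸ K') := { (inferInstance : Group (A ⧸ K')) with mul_comm := hcomm }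
  refine ⟨Additive (A ⧸ K'), inferInstance,
    fun g => if h : g ∈ A then Additive.ofMul (QuotientGroup.mk ⟨g, h⟩) else 0, fun a ha b hb => ?_,
    fun a ha => ?_⟩
  · simp only [dif_pos ha, dif_pos hb, dif_pos (mul_mem ha hb)]
    rfl
  · simp only [dif_pos ha]
    exact (QuotientGroup.eq_one_iff _).trans Subgroup.mem_subgroupOf

theorem list_prod_additive {G : Type*} [Group G] {M : Type*} [AddCommGroup M] {A : Subgroup G} {π : G → M}
    (hπ : ∀ a ∈ A, ∀ b ∈ A, π (a * b) = π a + π b) :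
    ∀ L : List G, (∀ x ∈ L, x ∈ A) → π L.prod = (L.map π).sum
  | [], _ => by simpa using (hπ 1 (one_mem _) 1 (one_mem _))
  | x :: L, h => by
    rw [List.prod_cons, hπ x (h x (by simp)) _ (list_prod_mem fun y hy => h y (List.mem_cons_of_mem _ hy)),
      list_prod_additive hπ L fun y hy => h y (List.mem_cons_of_mem _ hy)]
    simp

/-- Commutators of closures. -/
theorem commutator_closure_le {G : Type*} [Group G] {S T : Set G} {K : Subgroup G}
    (hS : ∀ a ∈ Subgroup.closure S, ∀ k ∈ K, a * k * a⁻¹ ∈ K)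
    (hT : ∀ a ∈ Subgroup.closure T, ∀ k ∈ K, a * k * a⁻¹ ∈ K)
    (h : ∀ a ∈ S, ∀ b ∈ T, ⁅a, b⁆ ∈ K) : ⁅Subgroup.closure S, Subgroup.closure T⁆ ≤ K := by
  have key : ∀ a ∈ S, ∀ b ∈ Subgroup.closure T, ⁅a, b⁆ ∈ K := by
    intro a ha b hb
    induction hb using Subgroup.closure_induction with
    | mem x hx => exact h a ha x hx
    | one => rw [commutatorElement_one_right]; exact one_mem _
    | mul b c hb _ ihb ihc =>
      rw [show ⁅a, b * c⁆ = ⁅a, b⁆ * (b * ⁅a, c⁆ * b⁻¹) by simp only [commutatorElement_def]; group]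
      exact mul_mem ihb (hT b hb _ ihc)
    | inv b hb ihb =>
      rw [show ⁅a, b⁻¹⁆ = b⁻¹ * ⁅a, b⁆⁻¹ * (b⁻¹)⁻¹ by simp only [commutatorElement_def]; group]
      exact hT _ (inv_mem hb) _ (inv_mem ihb)
  rw [Subgroup.commutator_le]
  intro a ha b hb
  induction ha using Subgroup.closure_induction with
  | mem x hx => exact key x hx b hb
  | one => rw [commutatorElement_one_left]; exact one_mem _
  | mul a c ha _ iha ihc =>
    rw [show ⁅a * c, b⁆ = (a * ⁅c, b⁆ * a⁻¹) * ⁅a, b⁆ by simp only [commutatorElement_def]; group]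
    exact mul_mem (hS a ha _ ihc) iha
  | inv a ha iha =>
    rw [show ⁅a⁻¹, b⁆ = a⁻¹ * ⁅a, b⁆⁻¹ * (a⁻¹)⁻¹ by simp only [commutatorElement_def]; group]
    exact hS _ (inv_mem ha) _ (inv_mem iha)

/-- The scaling parameters: a unit `≠ 1`, also with square `≠ 1` when `two`. -/
def ScalarOK (two : Bool) {F : Type*} [Field F] (l : F) : Prop :=
  l ≠ 0 ∧ l ≠ 1 ∧ (two = true → l * l ≠ 1)

/-- `|e| = 1`, or `|e| = 2` when `two`. -/
def SmallExp (two : Bool) (e : ℤ) : Bool := decide (e.natAbs = 1) || (two && decide (e.natAbs = 2))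

theorem zpow_ne_one_of_smallExp {two : Bool} {F : Type*} [Field F] {l : F} (hl : ScalarOK two l) {e : ℤ}
    (he : SmallExp two e = true) : l ^ e ≠ 1 := by
  obtain ⟨h0, h1, h2⟩ := hl
  simp only [SmallExp, Bool.or_eq_true, Bool.and_eq_true, decide_eq_true_eq] at he
  rcases he with he | ⟨ht, he⟩ <;> rcases Int.natAbs_eq_iff.1 he with rfl | rfl
  · simpa using h1
  · simpa [inv_eq_one] using h1
  · rw [Nat.cast_ofNat, zpow_ofNat, pow_two]; exact h2 ht
  · rw [Nat.cast_ofNat, _root_.zpow_neg, zpow_ofNat, pow_two, ne_eq, inv_eq_one]; exact h2 ht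

/-- One term in a polynomial identity with values in an abelian group can be isolated. -/
theorem eq_zero_of_kill {F : Type*} [Field F] {two : Bool} {l : F} (hl : ScalarOK two l) {M : Type*}
    [AddCommGroup M] (ψ : ℕ → F → M) {q i0 j0 : ℕ} (hij : i0 = 1 ∨ j0 = 1) :
    ∀ (L : List (ℕ × F × ℕ × ℕ)) (c0 : F), c0 ≠ 0 →
      (∀ τ ∈ L, ∀ a b, ψ τ.1 (a + b) = ψ τ.1 a + ψ τ.1 b) → (∀ a b, ψ q (a + b) = ψ q a + ψ q b) →
      (∀ τ ∈ L, SmallExp two ((i0 : ℤ) * τ.2.2.2 - (j0 : ℤ) * τ.2.2.1) = true) →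
      (∀ t v : F, (L.map fun τ => ψ τ.1 (τ.2.1 * t ^ τ.2.2.1 * v ^ τ.2.2.2)).sum
        + ψ q (c0 * t ^ i0 * v ^ j0) = 0) →
      ∀ w, ψ q w = 0
  | [], c0, hc, _, _, _, h, w => by
    rcases hij with rfl | rfl
    · simpa [hc] using h (c0⁻¹ * w) 1
    · simpa [hc] using h 1 (c0⁻¹ * w)
  | (q1, c1, i1, j1) :: L, c0, hc, hψ, hq, hexp, h, w => by
    have hl0 := hl.1
    -- the scalings
    let f : ℕ → ℕ → F := fun i j => l ^ (((i : ℤ) * j1) - (j : ℤ) * i1) - 1
    refine eq_zero_of_kill hl ψ hij (L.map fun τ => (τ.1, τ.2.1 * f τ.2.2.1 τ.2.2.2, τ.2.2))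
      (c0 * f i0 j0) (mul_ne_zero hc (sub_ne_zero.2 ?_)) ?_ hq ?_ (fun t v => ?_) w
    · exact zpow_ne_one_of_smallExp hl (hexp (q1, c1, i1, j1) (by simp))
    · simp only [List.mem_map]
      rintro τ ⟨σ, hσ, rfl⟩
      exact hψ σ (List.mem_cons_of_mem _ hσ)
    · simp only [List.mem_map]
      rintro τ ⟨σ, hσ, rfl⟩
      exact hexp σ (List.mem_cons_of_mem _ hσ)
    have hsc : ∀ i j : ℕ, ∀ c : F, c * (l ^ j1 * t) ^ i * (l⁻¹ ^ i1 * v) ^ j
        = c * f i j * t ^ i * v ^ j + c * t ^ i * v ^ j := by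
      intro i j c
      have e : l ^ (((i : ℤ) * j1) - (j : ℤ) * i1) = (l ^ j1) ^ i * (l⁻¹ ^ i1) ^ j := by
        rw [sub_eq_add_neg, zpow_add₀ hl0, ← pow_mul, ← pow_mul, inv_pow, ← zpow_natCast l (j1 * i),
          ← zpow_natCast l (i1 * j), ← _root_.zpow_neg]
        congr 1 <;> congr 1 <;> push_cast <;> ring
      simp only [f, e, mul_pow]
      ring
    have hpq : ψ q1 0 = 0 := by simpa using hψ (q1, c1, i1, j1) (by simp) 0 0
    have h1 := h (l ^ j1 * t) (l⁻¹ ^ i1 * v)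
    have h0 := h t v
    simp only [List.map_cons, List.sum_cons] at h1 h0
    rw [hsc, hsc, hψ (q1, c1, i1, j1) (by simp), hq] at h1
    have hz : f i1 j1 = 0 := by
      simp only [f]
      rw [show ((i1 : ℤ) * j1) - (j1 : ℤ) * i1 = 0 by ring, zpow_zero, sub_self]
    have hz1 : ψ q1 (c1 * f i1 j1 * t ^ i1 * v ^ j1) = 0 := by simpa [hz] using hpq
    rw [hz1, zero_add] at h1
    have hsum : (L.map fun τ => ψ τ.1 (τ.2.1 * (l ^ j1 * t) ^ τ.2.2.1 * (l⁻¹ ^ i1 * v) ^ τ.2.2.2)).sum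
        = ((L.map fun τ => (τ.1, τ.2.1 * f τ.2.2.1 τ.2.2.2, τ.2.2)).map fun τ =>
            ψ τ.1 (τ.2.1 * t ^ τ.2.2.1 * v ^ τ.2.2.2)).sum
          + (L.map fun τ => ψ τ.1 (τ.2.1 * t ^ τ.2.2.1 * v ^ τ.2.2.2)).sum := by
      rw [List.map_map, ← List.sum_map_add]
      congr 1
      refine List.map_congr_left fun τ hτ => ?_
      rw [hsc, hψ τ (List.mem_cons_of_mem _ hτ)]
      rfl
    rw [hsum] at h1
    linear_combination (norm := abel) h1 - h0
termination_by L => L.length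
decreasing_by simp

/-! ### Table checks -/

/-- A witness pair `p` for the root `q`: the commutator word contains `x_q` once, with unit coefficient, and
every other term is higher or can be separated by the torus. -/
def WitOK (D : ChevalleyDatum) (M : List (List ℤ)) (two : Bool) (p : ℕ × ℕ) (q : ℕ) : Bool :=
  decide (D.IsPosRoot p.1) && decide (D.IsPosRoot p.2) && decide (p.2 ≠ p.1) &&
    match (D.commTerms p.1 p.2).filter fun τ => τ.1 = q with
    | [(_, c, i0, j0)] => decide (c.natAbs = 1) && (decide (i0 = 1) || decide (j0 = 1)) &&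
        (D.commTerms p.1 p.2).all fun τ => decide (τ.1 = q) || decide (ht D M q < ht D M τ.1) ||
          SmallExp two ((i0 : ℤ) * τ.2.2.2 - (j0 : ℤ) * τ.2.2.1)
    | _ => false

/-- A torus element separating two fundamental roots. -/
def PairOK (D : ChevalleyDatum) (two : Bool) : Prop :=
  ∀ i < D.rank, ∀ j < D.rank, i ≠ j →
    ∃ r < D.nroots, D.pairing r (D.simple j) = 0 ∧ SmallExp two (D.pairing r (D.simple i)) = true

instance (D : ChevalleyDatum) (two : Bool) : Decidable (PairOK D two) := by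
  unfold PairOK; infer_instance

end Cfsg.Agent.ChevBN
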